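import Groth.Agent.VarietyA.RegSmoothSch
import Groth.Agent.Ega1.GenPts
import Groth.Agent.CalgA.RegBasic
import Groth.Agent.Flat2B.SmoothGeom
import Groth.Agent.Fga.JacAlg
import Mathlib.AlgebraicGeometry.Geometrically.Connected
import Mathlib.AlgebraicGeometry.Geometrically.Integral

/-!
# Smooth proper geometrically connected curves over a field: basic facts

* `isIntegral_of_connected`, `geometricallyIntegral`: smooth and (geometrically) connected over a field implies
  (geometrically) integral.
* `isSmoothProperCurve`, `smoothOfRelDim`.
-/

set_option autoImplicit false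
universe u
open CategoryTheory CategoryTheory.Limits AlgebraicGeometry

namespace K532.Base

variable {k : Type u} [Field k]

theorem isIntegral_of_connected {X : Scheme.{u}} (f : X ⟶ Spec (CommRingCat.of k)) [Smooth f]
    [ConnectedSpace X] : IsIntegral X := by
  have : IsLocallyNoetherian X := LocallyOfFiniteType.isLocallyNoetherian f
  refine (Groth.Agent.Ega1.GenPts.isIntegral_iff X).2 ⟨inferInstance, fun x => ?_⟩
  have : IsRegularLocalRing (X.presheaf.stalk x) := by
    apply Groth.Agent.VarietyA.RegSmoothSch.isRegularLocalRing_stalk_of_mem_smoothLocus f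
    rw [Scheme.Hom.smoothLocus_eq_top]
    trivial
  exact Groth.Agent.CalgA.RegBasic.isDomain _

theorem geometricallyIntegral {X : Scheme.{u}} (f : X ⟶ Spec (CommRingCat.of k)) [Smooth f]
    [GeometricallyConnected f] : GeometricallyIntegral f := by
  constructor
  intro K _ y W fst snd hp
  have h1 : Smooth snd := MorphismProperty.of_isPullback (P := @Smooth) hp inferInstance
  have h2 : ConnectedSpace W := GeometricallyConnected.geometrically_connectedSpace _ _ _ hp
  exact isIntegral_of_connected snd

theorem isSmoothProperCurve {C : Scheme.{u}} (f : C ⟶ Spec (CommRingCat.of k)) [IsProper f] [Smooth f]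
    [GeometricallyConnected f] (hdim : topologicalKrullDim C = 1) : Curve.IsSmoothProperCurve k C f := by
  have h := geometricallyIntegral f
  refine ⟨inferInstance, inferInstance, ?_, hdim⟩
  exact h.geometrically_isIntegral (K := k) (𝟙 _) (𝟙 C) f (IsPullback.of_id_fst)

theorem smoothOfRelDim {C : Scheme.{u}} (f : C ⟶ Spec (CommRingCat.of k)) [IsProper f] [Smooth f]
    [GeometricallyConnected f] (hdim : topologicalKrullDim C = 1) : SmoothOfRelativeDimension 1 f :=
  Groth.Agent.Fga.JacAlg.smoothOfRelDim (isSmoothProperCurve f hdim)

end K532.Base
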