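import Groth.Agent.Fga.JacRR
import Groth.Agent.Etcore.DegZero
import Groth.Agent.JacVar.K532.Base

/-!
# `X` as its own base change

* `ui f : X ⟶ X ×_S S`, an isomorphism; `uiPic : Pic (X ×_S S) ≃* Pic X`.
* `pull_ui_gcl`: the class `gcl f x` of a section corresponds to the class of its kernel ideal.
* `dg_ker`: on a smooth proper curve over a field the ideal of a rational point has degree `-1`.
-/

set_option autoImplicit false
universe u
open CategoryTheory CategoryTheory.Limits AlgebraicGeometry MonoidalCategory CartesianMonoidalCategory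

namespace K532.UnitBase

open Groth.Agent Groth.Agent.Grpsch.PicGrp Groth.Agent.Fga.RigGrp Groth.Agent.Fga.JacSum Groth.Agent.Fga.JacFactor
open Groth.Agent.Picfga.SecGraph Groth.Agent.Picfga.ChiDef Groth.Agent.Fga

section general

variable {X S : Scheme.{u}} (f : X ⟶ S)

/-- `X ⟶ X ×_S S`. -/
noncomputable def ui : X ⟶ PicF.XT f (𝟙_ (Over S)) :=
  pullback.lift (𝟙 X) f ((Category.id_comp _).trans (Category.comp_id _).symm)

@[reassoc (attr := simp)]
theorem ui_fst : ui f ≫ pullback.fst f (𝟙_ (Over S)).hom = 𝟙 X := pullback.lift_fst _ _ _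

@[reassoc (attr := simp)]
theorem ui_proj : ui f ≫ PicF.XTproj f (𝟙_ (Over S)) = f := pullback.lift_snd _ _ _

instance isIso_ui : IsIso (ui f) := by
  refine ⟨pullback.fst f (𝟙_ (Over S)).hom, ui_fst f, ?_⟩
  apply pullback.hom_ext
  · rw [Category.assoc, ui_fst, Category.comp_id, Category.id_comp]
  · have h1 := pullback.condition (f := f) (g := (𝟙_ (Over S)).hom)
    rw [Category.id_comp, Category.assoc]
    refine (congrArg (fun z => pullback.fst f (𝟙_ (Over S)).hom ≫ z) (ui_proj f)).trans ?_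
    rw [h1]
    exact Category.comp_id _

/-- The sections of `f` as points over the unit. -/
def pt (x : S ⟶ X) (hx : x ≫ f = 𝟙 S) : Pt f (𝟙_ (Over S)) := ⟨x, hx⟩

theorem sec_ui (x : S ⟶ X) (hx : x ≫ f = 𝟙 S) : x ≫ ui f = sec f (𝟙_ (Over S)) x hx := by
  apply pullback.hom_ext
  · rw [Category.assoc, ui_fst, Category.comp_id]
    exact (pullback.lift_fst _ _ _).symm
  · rw [Category.assoc]
    refine (congrArg (fun z => x ≫ z) (ui_proj f)).trans ?_
    rw [hx]
    exact (pullback.lift_snd _ _ _).symm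

theorem comap_secGraph [IsSeparated f] (x : S ⟶ X) (hx : x ≫ f = 𝟙 S) :
    (HilbD.secGraph f (𝟙_ (Over S)) x hx).comap (ui f) = x.ker := by
  rw [secGraph_eq_ker]
  symm
  refine ker_eq_comap_of_isPullback (fst := 𝟙 S) (snd := x) (i := sec f (𝟙_ (Over S)) x hx) (g := ui f) ?_
  refine IsPullback.of_horiz_isIso ⟨?_⟩
  rw [Category.id_comp]
  exact (sec_ui f x hx).symm

/-- Pullback along `ui` as an isomorphism of Picard groups. -/
noncomputable def uiPic : Pic (PicF.XT f (𝟙_ (Over S))) ≃* Pic X where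
  toFun := pull (ui f)
  invFun := pull (pullback.fst f (𝟙_ (Over S)).hom)
  left_inv c := by
    rw [← pull_comp]
    have h : pullback.fst f (𝟙_ (Over S)).hom ≫ ui f = 𝟙 _ := by
      rw [← cancel_epi (ui f), ui_fst_assoc, Category.comp_id]
    rw [h, pull_id]
  right_inv c := by rw [← pull_comp, ui_fst, pull_id]
  map_mul' := map_mul _

theorem uiPic_apply (c : Pic (PicF.XT f (𝟙_ (Over S)))) : uiPic f c = pull (ui f) c := rfl

end general

section curve

variable {X S : Scheme.{u}} (f : X ⟶ S) [SmoothOfRelativeDimension 1 f] [IsSeparated f]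

theorem isEff_ker (x : S ⟶ X) (hx : x ≫ f = 𝟙 S) : BlowUp.IsEffCartierIdeal x.ker :=
  ((Groth.Agent.S1184.result f x.ker).2 (isFinLocFreeOfDeg_ker f x hx).1).1

theorem pull_ui_gcl (x : S ⟶ X) (hx : x ≫ f = 𝟙 S) :
    pull (ui f) (gcl f (pt f x hx)) = dcl x.ker (isEff_ker f x hx) := by
  have h1 := comap_secGraph f x hx
  rw [gcl, pull_mk, dcl, mk_eq_iff]
  have h2 := Dix.IdealModCartier.pullback_idealMod (ui f) (isEff_secGraph f (pt f x hx))
    (by change BlowUp.IsEffCartierIdeal ((HilbD.secGraph f (𝟙_ (Over S)) x hx).comap (ui f))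
        rw [h1]; exact isEff_ker f x hx)
  change Nonempty (_ ≅ ClSub.idealMod ((HilbD.secGraph f (𝟙_ (Over S)) x hx).comap (ui f))) at h2
  rwa [h1] at h2

end curve

section field

variable {k : Type u} [Field k] {X : Scheme.{u}} [X.Over (Spec (CommRingCat.of k))]

theorem dg_ui [IsProper (X ↘ Spec (CommRingCat.of k))]
    (c : Pic (PicF.XT (X ↘ Spec (CommRingCat.of k)) (𝟙_ (Over (Spec (CommRingCat.of k)))))) :
    letI := overK (X ↘ Spec (CommRingCat.of k)) (𝟙 (Spec (CommRingCat.of k)))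
    Etcore.DegZero.dg k X (pull (ui (X ↘ Spec (CommRingCat.of k))) c) =
      Etcore.DegZero.dg k (PicF.XT (X ↘ Spec (CommRingCat.of k)) (Over.mk (𝟙 (Spec (CommRingCat.of k))))) c := by
  let _ := overK (X ↘ Spec (CommRingCat.of k)) (𝟙 (Spec (CommRingCat.of k)))
  have h1 : IsProper (PicF.XT (X ↘ Spec (CommRingCat.of k)) (Over.mk (𝟙 (Spec (CommRingCat.of k)))) ↘
      Spec (CommRingCat.of k)) :=
    inferInstanceAs (IsProper (pullback.snd (X ↘ Spec (CommRingCat.of k)) (𝟙 (Spec (CommRingCat.of k)))))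
  have h2 : CompactSpace (PicF.XT (X ↘ Spec (CommRingCat.of k)) (Over.mk (𝟙 (Spec (CommRingCat.of k))))) :=
    QuasiCompact.compactSpace_of_compactSpace (PicF.XT (X ↘ Spec (CommRingCat.of k))
      (Over.mk (𝟙 (Spec (CommRingCat.of k)))) ↘ Spec (CommRingCat.of k))
  have h3 : QuasiSeparatedSpace (PicF.XT (X ↘ Spec (CommRingCat.of k)) (Over.mk (𝟙 (Spec (CommRingCat.of k))))) :=
    quasiSeparatedSpace_of_quasiSeparated (PicF.XT (X ↘ Spec (CommRingCat.of k))
      (Over.mk (𝟙 (Spec (CommRingCat.of k)))) ↘ Spec (CommRingCat.of k))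
  exact @Etcore.DegZero.dg_pull k _ (PicF.XT (X ↘ Spec (CommRingCat.of k)) (Over.mk (𝟙 (Spec (CommRingCat.of k))))) _
    h2 h3 k _ X _ (ui (X ↘ Spec (CommRingCat.of k))) (𝟙 (Spec (CommRingCat.of k)))
    (IsPullback.of_horiz_isIso ⟨(ui_proj _).trans (Category.comp_id _).symm⟩) c

theorem dg_ker (hX : Curve.IsSmoothProperCurve k X (X ↘ Spec (CommRingCat.of k)))
    (x : Spec (CommRingCat.of k) ⟶ X) (hx : x ≫ (X ↘ Spec (CommRingCat.of k)) = 𝟙 _)
    (hE : BlowUp.IsEffCartierIdeal x.ker) :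
    Etcore.DegZero.dg k X (dcl x.ker hE) = -1 := by
  have h1 := hX.1
  have h2 := hX.2.1
  have h3 : SmoothOfRelativeDimension 1 (X ↘ Spec (CommRingCat.of k)) := JacAlg.smoothOfRelDim hX
  have h4 := pull_ui_gcl (X ↘ Spec (CommRingCat.of k)) x hx
  rw [← h4]
  refine (dg_ui (gcl (X ↘ Spec (CommRingCat.of k)) (pt (X ↘ Spec (CommRingCat.of k)) x hx))).trans ?_
  have h5 := JacRR.rrStep (X ↘ Spec (CommRingCat.of k)) hX k (𝟙 _) (pt (X ↘ Spec (CommRingCat.of k)) x hx)
    (gcl (X ↘ Spec (CommRingCat.of k)) (pt (X ↘ Spec (CommRingCat.of k)) x hx))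
  rw [mul_inv_cancel] at h5
  have h6 : ∀ c : Pic (PicF.XT (X ↘ Spec (CommRingCat.of k)) (Over.mk (𝟙 (Spec (CommRingCat.of k))))),
      (letI := overK (X ↘ Spec (CommRingCat.of k)) (𝟙 (Spec (CommRingCat.of k)))
      Etcore.DegZero.dg k (PicF.XT (X ↘ Spec (CommRingCat.of k)) (Over.mk (𝟙 (Spec (CommRingCat.of k))))) c) =
        chiK (X ↘ Spec (CommRingCat.of k)) (𝟙 _) c - chiK (X ↘ Spec (CommRingCat.of k)) (𝟙 _) 1 := by
    intro c
    obtain ⟨L, hL, rfl⟩ := exists_mk c
    rfl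
  rw [h6]
  change chiK (X ↘ Spec (CommRingCat.of k)) (𝟙 _) 1 = _ at h5
  omega

end field

end K532.UnitBase
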