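import Groth.Agent.JacVar.K532.CurvePic
import Groth.Agent.JacVar.K532.UnitBase
import Groth.Agent.Fga.JacAlg
import Mathlib.AlgebraicGeometry.AlgClosed.Basic

/-!
# Rational points and effective classes on a smooth proper curve

* `KPt k X`: the `k`-points; `pcl hX x`: the class of the ideal of `x`, of degree `-1`.
* `h0_mul_pcl_lt`: if a section generates at `x` then `h⁰(c · O(-x)) + 1 = h⁰(c)`.
* `exists_open_drop`: this holds for `x` in a nonempty open set.
* `exists_pts`: over an algebraically closed field `h⁰(c) > 0` iff `c` is the class of a sum of points.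
* `eq_of_h0_eq_one`: if `h⁰(c) = 1` the points are unique up to order.
-/

set_option autoImplicit false
universe u
open CategoryTheory CategoryTheory.Limits AlgebraicGeometry Opposite TopologicalSpace
open MonoidalCategory CartesianMonoidalCategory

namespace K532.CurvePts

open Groth.Agent Groth.Agent.Grpsch.PicGrp Groth.Agent.VarietyA.CurveLin K532.SecMul K532.CurvePic K532.UnitBase
open Groth.Agent.Fdesc.LocGen Groth.Agent.Fga.JacFactor Groth.Agent.Picfga.ZeroHom Groth.Agent.Picfga.ZeroDef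
open Groth.Agent.Picfga.ZeroDiv Groth.Agent.Fga Groth.Agent.Fga.ZeroClass Groth.Agent.Fga.JacSum
open Groth.Agent.Divis.EffCartier

/-- The rational points of `X` over `k`. -/
abbrev KPt (k : Type u) [Field k] (X : Scheme.{u}) [X.Over (Spec (CommRingCat.of k))] : Type u :=
  {x : Spec (CommRingCat.of k) ⟶ X // x ≫ (X ↘ Spec (CommRingCat.of k)) = 𝟙 _}

/-- The point underlying a rational point. -/
noncomputable def pnt {k : Type u} [Field k] {X : Scheme.{u}} [X.Over (Spec (CommRingCat.of k))] (x : KPt k X) : X :=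
  x.1 (IsLocalRing.closedPoint k)

theorem apply_eq_pnt {k : Type u} [Field k] {X : Scheme.{u}} [X.Over (Spec (CommRingCat.of k))] (x : KPt k X)
    (p : Spec (CommRingCat.of k)) : x.1 p = pnt x := by
  rw [pnt, Subsingleton.elim (α := PrimeSpectrum k) p (IsLocalRing.closedPoint k)]

section basic

variable {k : Type u} [Field k] {X : Scheme.{u}} [X.Over (Spec (CommRingCat.of k))] (hX : IsCurve k X)

include hX in
theorem isEff (x : KPt k X) : BlowUp.IsEffCartierIdeal x.1.ker :=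
  have := hX.proper
  have : SmoothOfRelativeDimension 1 (X ↘ Spec (CommRingCat.of k)) := JacAlg.smoothOfRelDim hX.curve
  isEff_ker (X ↘ Spec (CommRingCat.of k)) x.1 x.2

/-- The class of the ideal of a rational point. -/
noncomputable def pcl (x : KPt k X) : Pic X := dcl x.1.ker (isEff hX x)

theorem deg_pcl (x : KPt k X) : deg k X (pcl hX x) = -1 := dg_ker hX.curve x.1 x.2 _

theorem exists_section (x : KPt k X) : ∃ (M : X.Modules) (hM : PicF.IsInvertible M) (s : Γ(M, ⊤)),
    IsZeroIdeal M s x.1.ker ∧ mk M hM = (pcl hX x)⁻¹ ∧ s ≠ 0 := by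
  obtain ⟨M, hM, s, hs⟩ := exists_section_of_isEffCartier (isEff hX x)
  refine ⟨M, hM, s, hs, mk_eq_inv_dcl hM s hs _, ?_⟩
  rintro rfl
  have := hX.integral
  obtain ⟨U, m, a, t, hxU, hm, ha, hg, -⟩ := exists_data hM (0 : Γ(M, ⊤)) hs (isEff hX x) (pnt x)
  have h0 : a = 0 := by
    apply hm.ext
    rw [← ha, map_zero, zero_smul]
  have h1 := (hg U le_rfl).1
  rw [h0, map_zero] at h1
  have : Nonempty U.1 := ⟨⟨_, hxU⟩⟩
  exact zero_notMem_nonZeroDivisors h1

theorem h0_inv_pcl_pos (x : KPt k X) : 0 < h k X 0 (pcl hX x)⁻¹ := by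
  obtain ⟨M, hM, s, -, h1, h2⟩ := exists_section hX x
  rw [← h1, ← nontrivial_iff hX hM 0]
  refine ⟨(secOf M).symm s, 0, fun h => h2 ?_⟩
  have := congrArg (secOf M) h
  rwa [AddEquiv.apply_symm_apply, map_zero] at this

theorem h0_mul_pcl_le (c : Pic X) (x : KPt k X) : h k X 0 (c * pcl hX x) ≤ h k X 0 c := by
  have := h0_le_mul hX (c * pcl hX x) (pcl hX x)⁻¹ (h0_inv_pcl_pos hX x)
  rwa [mul_inv_cancel_right] at this

theorem h1_le_mul_pcl (c : Pic X) (x : KPt k X) : h k X 1 c ≤ h k X 1 (c * pcl hX x) := by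
  have := h1_mul_le hX (c * pcl hX x) (pcl hX x)⁻¹ (h0_inv_pcl_pos hX x)
  rwa [mul_inv_cancel_right] at this

/-- `h⁰` drops by at most one. -/
theorem h0_le_mul_pcl_add_one (c : Pic X) (x : KPt k X) : h k X 0 c ≤ h k X 0 (c * pcl hX x) + 1 := by
  have h1 := rr hX c
  have h2 := rr hX (c * pcl hX x)
  rw [deg_mul hX, deg_pcl] at h2
  have h3 := h1_le_mul_pcl hX c x
  omega

include hX in
/-- A section in the image of `N ⊗ O(x)(-x)` does not generate at `x`. -/
theorem not_isGen_of_mem {L : X.Modules} {x : KPt k X}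
    {N M : X.Modules} (hN : PicF.IsInvertible N) (hM : PicF.IsInvertible M) {t : Γ(M, ⊤)}
    (ht : IsZeroIdeal M t x.1.ker) (e : CohB1.tensorMod N M ≅ L) (n : Γ(N, ⊤)) (V : X.Opens) (hV : pnt x ∈ V)
    (hg : IsGen (res L (le_top : V ≤ ⊤) (e.hom.app ⊤ ((mulSec N t).app ⊤ n)))) : False := by
  have := hX.proper
  have hcl : IsClosedImmersion x.1 := by
    have : IsClosedImmersion (x.1 ≫ (X ↘ Spec (CommRingCat.of k))) := by rw [x.2]; infer_instance
    exact IsClosedImmersion.of_comp _ (X ↘ Spec (CommRingCat.of k))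
  obtain ⟨U₁, n₁, hx₁, hn₁⟩ := (isInvertible_iff N).mp hN (pnt x)
  obtain ⟨U, m, hxU, hUV, hm⟩ := exists_affine_gen hM (pnt x) (V ⊓ U₁) ⟨hV, hx₁⟩
  obtain ⟨a, ha⟩ := hm.exists_eq (res M le_top t)
  have h1 := ht U m hm a ha
  have hn := hn₁.res (hUV.trans inf_le_right : U.1 ≤ U₁)
  obtain ⟨b, hb⟩ := hn.exists_eq (res N le_top n)
  have h2 : res L (le_top : U.1 ≤ ⊤) (e.hom.app ⊤ ((mulSec N t).app ⊤ n)) =
      (b * a) • e.hom.app U.1 (tmul (res N (hUV.trans inf_le_right : U.1 ≤ U₁) n₁) m) := by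
    rw [← app_res, ← app_res, mulSec_app, hb, ha, tmul_smul, smul_tmul, smul_smul, Scheme.Modules.Hom.app_smul, mul_comm]
  have h3 : IsGen (e.hom.app U.1 (tmul (res N (hUV.trans inf_le_right : U.1 ≤ U₁) n₁) m)) :=
    (hn.tmul hm).app e.hom
  have h4 : IsGen (res L (le_top : U.1 ≤ ⊤) (e.hom.app ⊤ ((mulSec N t).app ⊤ n))) := by
    have := hg.res (hUV.trans inf_le_left : U.1 ≤ V)
    rwa [res_res] at this
  rw [h2, h3.smul_iff] at h4
  have h5 : IsUnit a := isUnit_of_mul_isUnit_right h4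
  have h6 : a ∈ x.1.ker.ideal U := by rw [h1]; exact Ideal.mem_span_singleton_self _
  rw [Scheme.Hom.ker_apply, RingHom.mem_ker] at h6
  have h7 : IsUnit ((x.1.app U.1).hom a) := h5.map _
  rw [h6] at h7
  have : Nonempty (x.1 ⁻¹ᵁ U.1 : (Spec (CommRingCat.of k)).Opens) := ⟨⟨IsLocalRing.closedPoint k, hxU⟩⟩
  exact not_isUnit_zero h7

/-- If some section of `L` generates at `x`, then `h⁰` drops when passing to `L(-x)`. -/
theorem h0_mul_pcl_add_one {L : X.Modules} (hL : PicF.IsInvertible L) (s : Γ(L, ⊤)) (x : KPt k X) (V : X.Opens)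
    (hV : pnt x ∈ V) (hg : IsGen (res L (le_top : V ≤ ⊤) s)) :
    h k X 0 (mk L hL * pcl hX x) + 1 = h k X 0 (mk L hL) := by
  have := hX.integral
  refine le_antisymm ?_ (h0_le_mul_pcl_add_one hX _ x)
  rw [Nat.succ_le_iff]
  by_contra hcon
  push Not at hcon
  have h1 := le_antisymm (h0_mul_pcl_le hX (mk L hL) x) hcon
  obtain ⟨N, hN, hN'⟩ := exists_mk (mk L hL * pcl hX x)
  obtain ⟨M, hM, t, ht, hM', ht0⟩ := exists_section hX x
  have h2 : mk L hL = mk (CohB1.tensorMod N M) (isInvertible_tensorMod hN hM) := by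
    rw [← mk_mul_mk hN hM, ← hN', hM', mul_inv_cancel_right]
  obtain ⟨e⟩ := (mk_eq_iff _ _).1 h2.symm
  have ht0' : (secOf M).symm t ≠ 0 := fun h => ht0 (by
    have := congrArg (secOf M) h
    rwa [AddEquiv.apply_symm_apply, map_zero] at this)
  have h3 := mulPair_injective k hN hM ht0'
  have f1 := finite_HH hX hN 0
  have f2 := finite_HH hX (isInvertible_tensorMod hN hM) 0
  have h4 : Module.finrank k (Coh.HH X N 0) = Module.finrank k (Coh.HH X (CohB1.tensorMod N M) 0) := by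
    rw [← h_mk k X 0 hN, ← h_mk k X 0 (isInvertible_tensorMod hN hM), ← h2, ← hN', h1]
  have h5 := (LinearMap.injective_iff_surjective_of_finrank_eq_finrank h4).1 h3
  obtain ⟨y, hy⟩ := h5 ((secOf (CohB1.tensorMod N M)).symm (e.inv.app ⊤ s))
  have h6 : (mulSec N t).app ⊤ (secOf N y) = e.inv.app ⊤ s := by
    have := congrArg (secOf (CohB1.tensorMod N M)) hy
    rw [AddEquiv.apply_symm_apply, mulPair_apply, secOf_hmap, AddEquiv.apply_symm_apply] at this
    exact this
  have h7 : e.hom.app ⊤ ((mulSec N t).app ⊤ (secOf N y)) = s := by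
    rw [h6]
    change (e.inv ≫ e.hom).app ⊤ s = s
    rw [e.inv_hom_id]
    rfl
  exact not_isGen_of_mem hX hN hM ht e (secOf N y) V hV (by rw [h7]; exact hg)

/-- If `h⁰(c) > 0` then `h⁰(c(-x)) + 1 = h⁰(c)` for `x` in a nonempty open set. -/
theorem exists_open_drop {c : Pic X} (hc : 0 < h k X 0 c) :
    ∃ U : X.Opens, (U : Set X).Nonempty ∧ ∀ x : KPt k X, pnt x ∈ U → h k X 0 (c * pcl hX x) + 1 = h k X 0 c := by
  have := hX.integral
  obtain ⟨L, hL, rfl⟩ := exists_mk c
  obtain ⟨s, hs⟩ := exists_ne_zero hX hL hc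
  have hs' : secOf L s ≠ 0 := fun h => hs ((secOf L).map_eq_zero_iff.mp h)
  obtain ⟨W, hW, hg⟩ := exists_isGen hL hs'
  exact ⟨W, hW, fun x hx => h0_mul_pcl_add_one hX hL (secOf L s) x W hx hg⟩

end basic

section algClosed

variable {k : Type u} [Field k] [IsAlgClosed k] {X : Scheme.{u}} [X.Over (Spec (CommRingCat.of k))] (hX : IsCurve k X)

include hX in
theorem KPt.ext' {x y : KPt k X} (hxy : pnt x = pnt y) : x = y := by
  have := hX.proper
  exact Subtype.ext (ext_of_apply_closedPoint_eq (X ↘ Spec (CommRingCat.of k)) x.2 y.2 hxy)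

include hX in
theorem isClosed_pnt (x : KPt k X) : IsClosed ({pnt x} : Set X) := by
  have := hX.proper
  exact (pointEquivClosedPoint (X ↘ Spec (CommRingCat.of k)) x).2

include hX in
theorem exists_kpt (U : X.Opens) (hU : (U : Set X).Nonempty) : ∃ x : KPt k X, pnt x ∈ U := by
  have := hX.proper
  have : JacobsonSpace X := LocallyOfFiniteType.jacobsonSpace (X ↘ Spec (CommRingCat.of k))
  obtain ⟨p, hpU, hp⟩ := nonempty_inter_closedPoints hU U.isOpen.isLocallyClosed
  refine ⟨(pointEquivClosedPoint (X ↘ Spec (CommRingCat.of k))).symm ⟨p, hp⟩, ?_⟩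
  have h1 : pnt ((pointEquivClosedPoint (X ↘ Spec (CommRingCat.of k))).symm ⟨p, hp⟩) = p :=
    congrArg Subtype.val ((pointEquivClosedPoint (X ↘ Spec (CommRingCat.of k))).apply_symm_apply ⟨p, hp⟩)
  rw [h1]
  exact hpU

/-- A class with sections is the class of a sum of points. -/
theorem exists_pts {c : Pic X} (hc : 0 < h k X 0 c) : ∃ (d : ℕ) (x : Fin d → KPt k X),
    c = ∏ i, (pcl hX (x i))⁻¹ := by
  obtain ⟨L, hL, rfl⟩ := exists_mk c
  obtain ⟨s, hs⟩ := exists_ne_zero hX hL hc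
  have hs' : secOf L s ≠ 0 := fun h => hs ((secOf L).map_eq_zero_iff.mp h)
  let f := X ↘ Spec (CommRingCat.of k)
  have hp := hX.proper
  have hsm := hX.smooth
  have h1 : SmoothOfRelativeDimension 1 f := JacAlg.smoothOfRelDim hX.curve
  have hiso : IsIso (pullback.fst f (Over.mk (𝟙 (Spec (CommRingCat.of k)))).hom) :=
    inferInstanceAs (IsIso (pullback.fst f (𝟙 (Spec (CommRingCat.of k)))))
  obtain ⟨d, x, hx⟩ := JacAlg.exists_divisor hX.curve k (𝟙 _)
    ((Scheme.Modules.pullback (pullback.fst f (Over.mk (𝟙 (Spec (CommRingCat.of k)))).hom)).obj L)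
    (isInvertible_pullback _ hL) (pullTop _ (secOf L s))
    (fun h0 => hs' (JacAlg.eq_zero_of_pullTop_eq_zero _ hL _ h0))
  refine ⟨d, fun i => ⟨(x i).1, (x i).2⟩, ?_⟩
  have h2 := congrArg (pull (ui f)) hx
  rw [← pull_mk _ hL, map_prod] at h2
  have h3 : pull (ui f) (pull (pullback.fst f (Over.mk (𝟙 (Spec (CommRingCat.of k)))).hom) (mk L hL)) = mk L hL := by
    rw [← pull_comp]
    have := ui_fst f
    exact (congrArg (fun z => pull z (mk L hL)) this).trans (pull_id _)
  rw [h3] at h2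
  rw [h2]
  refine Finset.prod_congr rfl fun i _ => ?_
  rw [map_inv]
  exact congrArg Inv.inv (pull_ui_gcl f (x i).1 (x i).2)

omit [IsAlgClosed k] in
theorem deg_prod_pcl {d : ℕ} (x : Fin d → KPt k X) : deg k X (∏ i, (pcl hX (x i))⁻¹) = d := by
  rw [deg_prod hX]
  simp only [deg_inv hX, deg_pcl, neg_neg]
  simp

omit [IsAlgClosed k] in
theorem h0_prod_pcl_pos {d : ℕ} (x : Fin d → KPt k X) : 0 < h k X 0 (∏ i, (pcl hX (x i))⁻¹) :=
  h0_prod_pos hX _ _ fun i _ => h0_inv_pcl_pos hX (x i)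

/-- A class of degree `d` has sections iff it is the class of a sum of `d` points. -/
theorem h0_pos_iff {c : Pic X} {d : ℕ} (hd : deg k X c = d) :
    0 < h k X 0 c ↔ ∃ x : Fin d → KPt k X, c = ∏ i, (pcl hX (x i))⁻¹ := by
  constructor
  · intro hc
    obtain ⟨d', x, hx⟩ := exists_pts hX hc
    rw [hx, deg_prod_pcl] at hd
    obtain rfl : d' = d := by exact_mod_cast hd
    exact ⟨x, hx⟩
  · rintro ⟨x, rfl⟩
    exact h0_prod_pcl_pos hX x

/-! ### Uniqueness -/

include hX in
theorem support_ker (x : KPt k X) : (x.1.ker.support : Set X) = {pnt x} := by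
  have := hX.noeth
  have h1 : Set.range x.1 = {pnt x} := by
    ext p
    rw [Set.mem_range, Set.mem_singleton_iff]
    constructor
    · rintro ⟨q, rfl⟩; exact apply_eq_pnt x q
    · rintro rfl; exact ⟨_, rfl⟩
  rw [Scheme.Hom.support_ker, h1, (isClosed_pnt hX x).closure_eq]

include hX in
theorem mem_support_prod (s : Multiset (KPt k X)) (p : X) :
    p ∈ ((s.map fun x : KPt k X => x.1.ker).prod.support : Set X) ↔ ∃ x ∈ s, p = pnt x := by
  induction s using Multiset.induction_on with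
  | empty =>
    rw [Multiset.map_zero, Multiset.prod_zero, Scheme.IdealSheafData.one_eq_top]
    simp
  | cons x s ih =>
    rw [Multiset.map_cons, Multiset.prod_cons, Scheme.IdealSheafData.support_mul]
    have h1 : p ∈ ((x.1.ker.support ⊔ (s.map fun x : KPt k X => x.1.ker).prod.support : Closeds X) : Set X) ↔
        p ∈ (x.1.ker.support : Set X) ∨ p ∈ ((s.map fun x : KPt k X => x.1.ker).prod.support : Set X) := Iff.rfl
    rw [h1, ih, support_ker hX, Set.mem_singleton_iff]
    simp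

include hX in
theorem multiset_eq (s t : Multiset (KPt k X))
    (h : (s.map fun x : KPt k X => x.1.ker).prod = (t.map fun x : KPt k X => x.1.ker).prod) : s = t := by
  induction s using Multiset.induction_on generalizing t with
  | empty =>
    by_contra hne
    obtain ⟨y, hy⟩ := Multiset.exists_mem_of_ne_zero (Ne.symm hne)
    have h1 := (mem_support_prod hX t (pnt y)).2 ⟨y, hy, rfl⟩
    rw [← h, mem_support_prod hX] at h1
    simp at h1
  | cons x s ih =>
    have h1 := (mem_support_prod hX (x ::ₘ s) (pnt x)).2 ⟨x, Multiset.mem_cons_self _ _, rfl⟩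
    rw [h, mem_support_prod hX] at h1
    obtain ⟨y, hy, hxy⟩ := h1
    obtain rfl := KPt.ext' hX hxy
    obtain ⟨t', rfl⟩ := Multiset.exists_cons_of_mem hy
    rw [Multiset.map_cons, Multiset.prod_cons, Multiset.map_cons, Multiset.prod_cons] at h
    rw [ih t' (Picfga.SecGraph.mul_left_cancel_of_isEffCartier (isEff hX x) h)]

omit [IsAlgClosed k] in
theorem exists_isEff_prod {d : ℕ} (x : Fin d → KPt k X) :
    ∃ hE : BlowUp.IsEffCartierIdeal (∏ i, (x i).1.ker), (dcl _ hE)⁻¹ = ∏ i, (pcl hX (x i))⁻¹ := by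
  obtain ⟨hE, h1⟩ := dcl_prod (fun i => (x i).1.ker) (fun i => isEff hX (x i))
  refine ⟨hE, ?_⟩
  rw [Finset.prod_inv_distrib, h1]
  rfl

omit [IsAlgClosed k] in
include hX in
/-- Two zero ideals of sections of a class with `h⁰ = 1` coincide. -/
theorem zeroIdeal_eq {c : Pic X} (hc : h k X 0 c = 1) {I I' : X.IdealSheafData} (hI : BlowUp.IsEffCartierIdeal I)
    (hI' : BlowUp.IsEffCartierIdeal I') (h1 : (dcl I hI)⁻¹ = c) (h2 : (dcl I' hI')⁻¹ = c) : I = I' := by
  have := hX.integral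
  obtain ⟨M, hM, s, hs⟩ := exists_section_of_isEffCartier hI
  obtain ⟨N, hN, t, ht⟩ := exists_section_of_isEffCartier hI'
  have hMc : mk M hM = c := (mk_eq_inv_dcl hM s hs hI).trans h1
  have hNc : mk N hN = c := (mk_eq_inv_dcl hN t ht hI').trans h2
  obtain ⟨e⟩ := (mk_eq_iff _ _).1 (hMc.trans hNc.symm)
  have hs' := isZeroIdeal_of_iso e hs
  have hne : ∀ (N : X.Modules) (hN : PicF.IsInvertible N) (t : Γ(N, ⊤)) (I : X.IdealSheafData)
      (_ : BlowUp.IsEffCartierIdeal I) (_ : IsZeroIdeal N t I), t ≠ 0 := by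
    rintro N hN t I hI ht rfl
    obtain ⟨U, m, a, t, hxU, hm, ha, hg, -⟩ := exists_data hN (0 : Γ(N, ⊤)) ht hI (genericPoint X)
    have h0 : a = 0 := by
      apply hm.ext
      rw [← ha, map_zero, zero_smul]
    have h1 := (hg U le_rfl).1
    rw [h0, map_zero] at h1
    have : Nonempty U.1 := ⟨⟨_, hxU⟩⟩
    exact zero_notMem_nonZeroDivisors h1
  have hs0 := hne N hN _ I hI hs'
  have ht0 := hne N hN _ I' hI' ht
  rw [← hNc, h_mk] at hc
  have ht0' : (secOf N).symm t ≠ 0 := fun h => ht0 (by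
    have := congrArg (secOf N) h
    rwa [AddEquiv.apply_symm_apply, map_zero] at this)
  obtain ⟨a, ha⟩ := (finrank_eq_one_iff_of_nonzero' _ ht0').1 hc ((secOf N).symm (e.hom.app ⊤ s))
  have h3 : (show Γ(X, ⊤) from Coh.toGlobal (X ↘ Spec (CommRingCat.of k)) a) • t = e.hom.app ⊤ s := by
    have := congrArg (secOf N) ha
    rw [AddEquiv.apply_symm_apply] at this
    rw [← this]
    change _ = secOf N ((Coh.toGlobal (X ↘ Spec (CommRingCat.of k)) a) • ((secOf N).symm t))
    rw [secOf_smul, AddEquiv.apply_symm_apply]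
  have ha0 : a ≠ 0 := by
    rintro rfl
    apply hs0
    rw [← h3]
    have h6 : (show Γ(X, ⊤) from Coh.toGlobal (X ↘ Spec (CommRingCat.of k)) (0 : k)) = 0 :=
      map_zero (Coh.toGlobal (X ↘ Spec (CommRingCat.of k)))
    rw [h6, zero_smul]
  have h4 : IsUnit (show Γ(X, ⊤) from Coh.toGlobal (X ↘ Spec (CommRingCat.of k)) a) :=
    (isUnit_iff_ne_zero.2 ha0).map (Coh.toGlobal (X ↘ Spec (CommRingCat.of k)))
  have h5 := isZeroIdeal_unit_smul h4 ht
  rw [h3] at h5
  exact isZeroIdeal_unique hN hs' h5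

/-- If `h⁰(c) = 1` and `c` is the class of `Σ x_i` and of `Σ y_j` then the points agree up to order. -/
theorem map_eq_of_h0_eq_one {d d' : ℕ} (x : Fin d → KPt k X) (y : Fin d' → KPt k X)
    (hxy : ∏ i, (pcl hX (x i))⁻¹ = ∏ i, (pcl hX (y i))⁻¹) (h1 : h k X 0 (∏ i, (pcl hX (x i))⁻¹) = 1) :
    Finset.univ.val.map x = Finset.univ.val.map y := by
  obtain ⟨hE, h2⟩ := exists_isEff_prod hX x
  obtain ⟨hE', h3⟩ := exists_isEff_prod hX y
  have h4 := zeroIdeal_eq hX h1 hE hE' h2 (h3.trans hxy.symm)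
  apply multiset_eq hX
  rw [Multiset.map_map, Multiset.map_map]
  exact h4

omit [IsAlgClosed k] in
/-- Two families with the same multiset of values differ by a permutation. -/
theorem exists_perm {ι κ : Type*} [Fintype ι] (f g : ι → κ) (h : Finset.univ.val.map f = Finset.univ.val.map g) :
    ∃ e : Equiv.Perm ι, ∀ i, f (e i) = g i := by
  classical
  have hcard : ∀ k : κ, Fintype.card {i // g i = k} = Fintype.card {i // f i = k} := by
    intro k
    have h1 := congrArg (Multiset.count k) h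
    rw [Multiset.count_map, Multiset.count_map] at h1
    rw [Fintype.card_subtype, Fintype.card_subtype]
    simp only [Finset.card, Finset.filter_val]
    simpa [eq_comm] using h1.symm
  let e : ∀ k : κ, {i // g i = k} ≃ {i // f i = k} := fun k => Fintype.equivOfCardEq (hcard k)
  let E : ι ≃ ι := ((Equiv.sigmaFiberEquiv g).symm.trans (Equiv.sigmaCongrRight e)).trans
    (Equiv.sigmaFiberEquiv f)
  refine ⟨E, fun i => ?_⟩
  exact (e (g i) ⟨i, rfl⟩).2

theorem exists_perm_of_h0_eq_one {d : ℕ} (x y : Fin d → KPt k X)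
    (hxy : ∏ i, (pcl hX (x i))⁻¹ = ∏ i, (pcl hX (y i))⁻¹) (h1 : h k X 0 (∏ i, (pcl hX (x i))⁻¹) = 1) :
    ∃ e : Equiv.Perm (Fin d), ∀ i, y i = x (e i) := by
  obtain ⟨e, he⟩ := exists_perm x y (map_eq_of_h0_eq_one hX x y hxy h1)
  exact ⟨e, fun i => (he i).symm⟩

end algClosed

end K532.CurvePts
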