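import Groth.Prelude.Def_Jac
import Groth.Agent.Sga7.H732.Abel
import Groth.Agent.Etcore.FibreDeg
import Groth.Agent.Ega2.QCohLocal
import Groth.Agent.JacVar.K532.Base
import Groth.Agent.Sga7.H758.EndRing

/-!
# Admissible families of line bundles of degree `d` on a curve, in terms of the Picard group

For a smooth proper geometrically integral curve `f : C ⟶ Spec k` over any field `k`:
* `ok_iff`: `(ModFun.PicDeg f d).ok T L` iff `L` is invertible and `chiAt` of its class is `chiAt` of the unit plus `d`.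
* `r_iff`: two invertible modules are identified iff their classes have the same normalisation.
-/

set_option autoImplicit false
universe u
open CategoryTheory CategoryTheory.Limits AlgebraicGeometry MonObj MonoidalCategory CartesianMonoidalCategory

namespace K532.Fine

open Groth.Agent Groth.Agent.Grpsch.PicGrp Groth.Agent.Fga.RigGrp Groth.Agent.Fga.JacSum Groth.Agent.Fga
open Groth.Agent.Fga.JacSurj Groth.Agent.Picfga.ChiDef Groth.Agent.Sga7.H732.Hedge Groth.Agent.Fdesc.LocGen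

variable {k : Type u} [Field k] {C : Scheme.{u}} (f : C ⟶ Spec (CommRingCat.of k))

/-- The dimension of the base change of a curve. -/
theorem dim_XT [LocallyOfFiniteType f] (hdim : topologicalKrullDim C = 1) {K : Type u} [Field K]
    (t : Spec (CommRingCat.of K) ⟶ Spec (CommRingCat.of k)) :
    topologicalKrullDim (PicF.XT f (Over.mk t)) = 1 := by
  rw [← hdim]
  exact Etcore.DimBaseChange.topologicalKrullDim_eq (Field.toIsField k)
    (Field.toIsField K) f _ _ _ (IsPullback.of_hasPullback f t)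

theorem deg_eq [IsProper f] (hdim : topologicalKrullDim C = 1) {K : Type u} [Field K]
    (t : Spec (CommRingCat.of K) ⟶ Spec (CommRingCat.of k)) (L : (PicF.XT f (Over.mk t)).Modules)
    (hL : PicF.IsInvertible L) :
    (letI := overK f t
     Curv2.deg K (PicF.XT f (Over.mk t)) L 1) = chiK f t (mk L hL) - chiK f t 1 := by
  let _ : (PicF.XT f (Over.mk t)).Over (Spec (CommRingCat.of K)) := ⟨PicF.XTproj f (Over.mk t)⟩
  have h1 : IsProper (PicF.XT f (Over.mk t) ↘ Spec (CommRingCat.of K)) :=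
    inferInstanceAs (IsProper (pullback.snd f t))
  have h2 := Etcore.DegZero.eulerCharLE_eq K (PicF.XT f (Over.mk t)) (dim_XT f hdim t)
  rw [Curv2.deg, ← h2, ← h2, one_def, chiK_mk, chiK_mk]
  simp only [Nat.cast_one, _root_.one_mul]
  rfl

/-- Admissibility for the problem of line bundles of degree `d`. -/
theorem ok_iff [IsProper f] (hdim : topologicalKrullDim C = 1) (d : ℤ)
    (T : Over (Spec (CommRingCat.of k))) (L : (PicF.XT f T).Modules) :
    (ModFun.PicDeg f d).ok T L ↔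
      ∃ hL : PicF.IsInvertible L, ∀ τ : T.left, chiAt f T τ (mk L hL) = chiAt f T τ 1 + d := by
  have hBC := JacFib.bcStep f
  constructor
  · rintro ⟨⟨-, h1⟩, h2⟩
    have hL : PicF.IsInvertible L := Ega2.QCohLocal.isFinLocFreeOfRank_one_iff.mp h1
    refine ⟨hL, fun τ => ?_⟩
    let Ω := AlgebraicClosure (T.left.residueField τ)
    let φ : CommRingCat.of (T.left.residueField τ) ⟶ CommRingCat.of Ω :=
      CommRingCat.ofHom (algebraMap (T.left.residueField τ) Ω)
    let y : Spec (CommRingCat.of Ω) ⟶ T.left := Spec.map φ ≫ fsr T.left τ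
    have h3 := h2 Ω y
    have h4 := deg_eq f hdim (y ≫ T.hom)
      ((Scheme.Modules.pullback (PicF.XTmap f (Over.homMk y rfl : Over.mk (y ≫ T.hom) ⟶ T))).obj L)
      (isInvertible_pullback _ hL)
    have h5 := h4.symm.trans h3
    have h6 := chiPt_comp hBC φ T (fsr T.left τ) (mk L hL)
    have h7 := chiPt_comp hBC φ T (fsr T.left τ) 1
    rw [chiAt, chiAt, ← h6, ← h7, chiPt, chiPt, map_one]
    exact eq_add_of_sub_eq' h5
  · rintro ⟨hL, h⟩
    refine ⟨⟨trivial, Ega2.QCohLocal.isFinLocFreeOfRank_one_iff.mpr hL⟩, fun Ω _ _ y => ?_⟩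
    refine (deg_eq f hdim (y ≫ T.hom) _ (isInvertible_pullback _ hL)).trans ?_
    let τ : T.left := y (IsLocalRing.closedPoint Ω)
    have hy : ∀ z, y z = τ := fun z => by
      rw [Subsingleton.elim (α := PrimeSpectrum Ω) z (IsLocalRing.closedPoint Ω)]
    have h1 := chiPt_eq_chiAt hBC T y τ hy (mk L hL)
    have h2 := chiPt_eq_chiAt hBC T y τ hy 1
    have h3 := h τ
    rw [← h1, ← h2, chiPt, chiPt, map_one] at h3
    exact sub_eq_of_eq_add' h3

/-- The class of an admissible family. -/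
noncomputable def cls [IsProper f] (hdim : topologicalKrullDim C = 1) {d : ℤ} {T : Over (Spec (CommRingCat.of k))}
    {L : (PicF.XT f T).Modules} (hL : (ModFun.PicDeg f d).ok T L) : Pic (PicF.XT f T) :=
  mk L ((ok_iff f hdim d T L).1 hL).1

/-- Identification of families in terms of normalised classes. -/
theorem r_iff {T : Over (Spec (CommRingCat.of k))} (σ : Spec (CommRingCat.of k) ⟶ C)
    (hσ : σ ≫ f = 𝟙 (Spec (CommRingCat.of k))) (L M : (PicF.XT f T).Modules) (hL : PicF.IsInvertible L)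
    (hM : PicF.IsInvertible M) :
    (ModFun.modProb f).r T L M ↔ norm f σ hσ T (mk L hL) = norm f σ hσ T (mk M hM) := by
  constructor
  · rintro ⟨N, hN, ⟨e⟩⟩
    have h1 : mk M hM = mk L hL * pull (PicF.XTproj f T) (mk N hN) := by
      rw [pull_mk, mk_mul_mk]
      exact mk_congr e
    rw [h1, map_mul, norm_pull_XTproj, _root_.mul_one]
  · intro h
    obtain ⟨N, hN, h1⟩ := exists_mk (pull (PicF.secT f σ hσ T) (mk M hM / mk L hL))
    refine ⟨N, hN, ?_⟩
    have h2 : mk M hM = mk L hL * pull (PicF.XTproj f T) (mk N hN) := by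
      rw [← h1]
      have h3 : norm f σ hσ T (mk M hM / mk L hL) = 1 := by rw [map_div, h, div_self']
      rw [norm_apply, div_eq_one] at h3
      rw [← h3, mul_div_cancel]
    rw [pull_mk, mk_mul_mk] at h2
    exact (mk_eq_iff _ _).1 h2

theorem norm_field (σ : Spec (CommRingCat.of k) ⟶ C) (hσ : σ ≫ f = 𝟙 (Spec (CommRingCat.of k))) {K : Type u} [Field K]
    (t : Spec (CommRingCat.of K) ⟶ Spec (CommRingCat.of k)) (c : Pic (PicF.XT f (Over.mk t))) :
    norm f σ hσ (Over.mk t) c = c := by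
  rw [norm_apply]
  have h : pull (PicF.secT f σ hσ (Over.mk t)) c = 1 := pic_spec_local K _
  rw [h, map_one, div_one]

theorem chiAt_norm (σ : Spec (CommRingCat.of k) ⟶ C) (hσ : σ ≫ f = 𝟙 (Spec (CommRingCat.of k)))
    (T : Over (Spec (CommRingCat.of k))) (τ : T.left) (c : Pic (PicF.XT f T)) :
    chiAt f T τ (norm f σ hσ T c) = chiAt f T τ c := by
  rw [chiAt, chiPt, pull_norm, norm_field]
  rfl

section jac

variable {f} {σ : Spec (CommRingCat.of k) ⟶ C} {hσ : σ ≫ f = 𝟙 (Spec (CommRingCat.of k))}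

theorem deg_norm_cls [IsProper f] (hdim : topologicalKrullDim C = 1) {T : Over (Spec (CommRingCat.of k))}
    {L : (PicF.XT f T).Modules} (hL : (ModFun.PicDeg f 0).ok T L) :
    FGA.HasFibreDegreeZeroCl f T (toCl (norm f σ hσ T (cls f hdim hL))) := by
  rw [Sga7.H732.Abel.deg_iff]
  intro τ
  rw [chiAt_norm]
  have h := ((ok_iff f hdim 0 T L).1 hL).2 τ
  rwa [add_zero] at h

theorem exists_family [IsProper f] (hdim : topologicalKrullDim C = 1) {T : Over (Spec (CommRingCat.of k))}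
    (c : Pic (PicF.XT f T)) (hc : FGA.HasFibreDegreeZeroCl f T (toCl c)) :
    ∃ (L : (PicF.XT f T).Modules) (hL : (ModFun.PicDeg f 0).ok T L), cls f hdim hL = c := by
  obtain ⟨L, hL, rfl⟩ := exists_mk c
  rw [Sga7.H732.Abel.deg_iff] at hc
  refine ⟨L, (ok_iff f hdim 0 T L).2 ⟨hL, fun τ => ?_⟩, rfl⟩
  rw [add_zero]
  exact hc τ

theorem cls_pull [IsProper f] (hdim : topologicalKrullDim C = 1) {d : ℤ} {T T' : Over (Spec (CommRingCat.of k))}
    (g : T' ⟶ T) {L : (PicF.XT f T).Modules} (hL : (ModFun.PicDeg f d).ok T L)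
    (hL' : (ModFun.PicDeg f d).ok T' ((ModFun.PicDeg f d).pull g L)) :
    cls f hdim hL' = pull (PicF.XTmap f g) (cls f hdim hL) := rfl

theorem ok_pull [IsProper f] (hdim : topologicalKrullDim C = 1) {d : ℤ} {T T' : Over (Spec (CommRingCat.of k))}
    (g : T' ⟶ T) {L : (PicF.XT f T).Modules} (hL : (ModFun.PicDeg f d).ok T L) :
    (ModFun.PicDeg f d).ok T' ((ModFun.PicDeg f d).pull g L) := by
  obtain ⟨h1, h2⟩ := (ok_iff f hdim d T L).1 hL
  refine (ok_iff f hdim d T' _).2 ⟨isInvertible_pullback _ h1, fun τ => ?_⟩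
  have h3 := chiAt_pull (JacFib.bcStep f) g τ (mk L h1)
  have h4 := chiAt_pull (JacFib.bcStep f) g τ 1
  rw [map_one] at h4
  refine h3.trans ?_
  rw [h2, ← h4]

theorem ok_of_r [IsProper f] (hdim : topologicalKrullDim C = 1) (σ : Spec (CommRingCat.of k) ⟶ C)
    (hσ : σ ≫ f = 𝟙 (Spec (CommRingCat.of k))) {d : ℤ} {T : Over (Spec (CommRingCat.of k))}
    {L M : (PicF.XT f T).Modules} (hL : (ModFun.PicDeg f d).ok T L) (hM : PicF.IsInvertible M)
    (h : (ModFun.modProb f).r T L M) : (ModFun.PicDeg f d).ok T M := by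
  obtain ⟨h1, h2⟩ := (ok_iff f hdim d T L).1 hL
  refine (ok_iff f hdim d T M).2 ⟨hM, fun τ => ?_⟩
  rw [← chiAt_norm f σ hσ, ← (r_iff f σ hσ L M h1 hM).1 h, chiAt_norm, h2]

variable [IsProper f] (hdim : topologicalKrullDim C = 1) {J₀ : Over (Spec (CommRingCat.of k))} [GrpObj J₀]
  {ξ₀ : Pic (PicF.XT f J₀)} (h₀ : IsJac f σ hσ J₀ ξ₀)

/-- The classifying morphism of a family of degree zero. -/
noncomputable def psi : (ModFun.PicDeg f 0).Hom ⊤ J₀ where
  app T L _ hL := (h₀.univ T (norm f σ hσ T (cls f hdim hL)) (norm_mem f σ hσ T _) (deg_norm_cls hdim hL)).choose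
  natural := by
    intro T T' g L _ _ hL hL'
    have h1 := (h₀.univ T (norm f σ hσ T (cls f hdim hL)) (norm_mem f σ hσ T _) (deg_norm_cls hdim hL)).choose_spec.1
    have h2 := (h₀.univ T' (norm f σ hσ T' (cls f hdim hL')) (norm_mem f σ hσ T' _)
      (deg_norm_cls hdim hL')).choose_spec.2
    symm
    apply h2
    rw [XTmap_comp, pull_comp, h1, pull_norm]
    rfl
  resp := by
    intro T L M _ hL hM hr
    have h1 := (r_iff f σ hσ L M ((ok_iff f hdim 0 T L).1 hL).1 ((ok_iff f hdim 0 T M).1 hM).1).1 hr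
    have h2 : norm f σ hσ T (cls f hdim hL) = norm f σ hσ T (cls f hdim hM) := h1
    congr 1
    simp only [h2]

theorem pull_psi {T : Over (Spec (CommRingCat.of k))} {L : (PicF.XT f T).Modules} (hT : (⊤ : ObjectProperty _) T)
    (hL : (ModFun.PicDeg f 0).ok T L) :
    pull (PicF.XTmap f ((psi hdim h₀).app T L hT hL)) ξ₀ = norm f σ hσ T (cls f hdim hL) :=
  (h₀.univ T (norm f σ hσ T (cls f hdim hL)) (norm_mem f σ hσ T _) (deg_norm_cls hdim hL)).choose_spec.1

theorem isBestApprox : ModFun.IsBestApprox ⊤ (ModFun.PicDeg f 0) J₀ (psi hdim h₀) := by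
  intro N φ
  obtain ⟨L₀, hL₀, h1⟩ := exists_family hdim ξ₀ h₀.deg
  have h2 : (psi hdim h₀).app J₀ L₀ trivial hL₀ = 𝟙 J₀ := by
    apply Sga7.H732.Abel.cls_injective h₀ J₀
    rw [Sga7.H732.Abel.cls_apply, Sga7.H732.Abel.cls_apply, pull_psi, h1, norm_of_mem _ _ _ h₀.mem, XTmap_id, pull_id]
  refine ⟨φ.app J₀ L₀ trivial hL₀, fun T L hT hL => ?_, fun g hg => ?_⟩
  · rw [← φ.natural _ L₀ trivial trivial hL₀ (ok_pull hdim _ hL₀)]
    apply φ.resp
    refine (r_iff f σ hσ _ _ ((ok_iff f hdim 0 T L).1 hL).1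
      ((ok_iff f hdim 0 T _).1 (ok_pull hdim ((psi hdim h₀).app T L hT hL) hL₀)).1).2 ?_
    have h3 := pull_psi hdim h₀ hT hL
    change norm f σ hσ T (cls f hdim hL) = norm f σ hσ T (cls f hdim (ok_pull hdim _ hL₀))
    rw [cls_pull hdim _ hL₀, h1, h3, norm_of_mem _ _ _ (norm_mem f σ hσ T _)]
  · rw [hg J₀ L₀ trivial hL₀, h2, Category.id_comp]

/-- A Jacobian in the sense of coarse moduli is isomorphic to a Jacobian in the sense of rigidified classes. -/
theorem exists_iso {J : Over (Spec (CommRingCat.of k))} [GrpObj J] {ψ : (ModFun.PicDeg f 0).Hom ⊤ J}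
    (hJ : Jac.IsJacobian f ⊤ J ψ) :
    ∃ e : J ≅ J₀, IsMonHom e.hom ∧ ∀ (T : Over (Spec (CommRingCat.of k))) (L : (PicF.XT f T).Modules)
      (hT : (⊤ : ObjectProperty _) T) (hL : (ModFun.PicDeg f 0).ok T L),
      ψ.app T L hT hL ≫ e.hom = (psi hdim h₀).app T L hT hL := by
  obtain ⟨a, ha, -⟩ := hJ.coarse.2.1 J₀ (psi hdim h₀)
  obtain ⟨b, hb, -⟩ := isBestApprox hdim h₀ J ψ
  have hab : a ≫ b = 𝟙 J := by
    obtain ⟨c, hc, huc⟩ := hJ.coarse.2.1 J ψ
    rw [huc (a ≫ b) fun T L hT hL => by rw [← Category.assoc, ← ha, ← hb],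
      huc (𝟙 J) fun T L hT hL => by rw [Category.comp_id]]
  have hba : b ≫ a = 𝟙 J₀ := by
    obtain ⟨c, hc, huc⟩ := isBestApprox hdim h₀ J₀ (psi hdim h₀)
    rw [huc (b ≫ a) fun T L hT hL => by rw [← Category.assoc, ← hb, ← ha],
      huc (𝟙 J₀) fun T L hT hL => by rw [Category.comp_id]]
  let e : J ≅ J₀ := ⟨a, b, hab, hba⟩
  refine ⟨e, ?_, fun T L hT hL => (ha T L hT hL).symm⟩
  obtain ⟨L₀, hL₀, h1⟩ := exists_family hdim ξ₀ h₀.deg
  have key : ∀ {T : Over (Spec (CommRingCat.of k))} (x : T ⟶ J₀),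
      (psi hdim h₀).app T _ trivial (ok_pull hdim x hL₀) = x := by
    intro T x
    apply Sga7.H732.Abel.cls_injective h₀ T
    rw [Sga7.H732.Abel.cls_apply, Sga7.H732.Abel.cls_apply]
    refine (pull_psi hdim h₀ trivial (ok_pull hdim x hL₀)).trans ?_
    rw [cls_pull hdim x hL₀, h1, norm_of_mem _ _ _ (pull_mem _ h₀.mem)]
  have hmul : ∀ {T : Over (Spec (CommRingCat.of k))} (x y : T ⟶ J₀), (x * y) ≫ b = (x ≫ b) * (y ≫ b) := by
    intro T x y
    have h2 := hb T _ trivial (ok_pull hdim x hL₀)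
    have h3 := hb T _ trivial (ok_pull hdim y hL₀)
    have h4 := hb T _ trivial (ok_pull hdim (x * y) hL₀)
    rw [key] at h2 h3 h4
    rw [← h2, ← h3, ← h4]
    have h5 : cls f hdim (ok_pull hdim (x * y) hL₀) =
        cls f hdim (ok_pull hdim x hL₀) * cls f hdim (ok_pull hdim y hL₀) := by
      rw [cls_pull hdim _ hL₀, cls_pull hdim _ hL₀, cls_pull hdim _ hL₀, h1, h₀.mul]
    have h6 := (mk_eq_iff _ _).1 (h5.trans (mk_mul_mk _ _))
    exact hJ.mul T trivial _ _ _ (ok_pull hdim x hL₀) (ok_pull hdim y hL₀) (ok_pull hdim (x * y) hL₀) h6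
  apply Sga7.H758.EndRing.isMonHom_of_mul
  intro T x y
  change (x * y) ≫ a = (x ≫ a) * (y ≫ a)
  have h2 : (x * y) ≫ a ≫ b = ((x ≫ a) * (y ≫ a)) ≫ b := by
    rw [hmul, Category.assoc, Category.assoc, hab, Category.comp_id, Category.comp_id, Category.comp_id]
  calc (x * y) ≫ a = ((x * y) ≫ a ≫ b) ≫ a := by rw [hab, Category.comp_id]
    _ = (((x ≫ a) * (y ≫ a)) ≫ b) ≫ a := by rw [h2]
    _ = (x ≫ a) * (y ≫ a) := by rw [Category.assoc, hba, Category.comp_id]

omit [IsProper f] in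
include h₀ in
/-- Transport of the universal rigidified class along an isomorphism of group schemes. -/
theorem isJac_of_iso [QuasiCompact f] [IsSeparated f] {J : Over (Spec (CommRingCat.of k))} [GrpObj J] (e : J ≅ J₀) [IsMonHom e.hom] :
    IsJac f σ hσ J (pull (PicF.XTmap f e.hom) ξ₀) where
  mem := pull_mem _ h₀.mem
  deg := Sga7.H732.Abel.deg_pull _ _ h₀.deg
  mul g h := by
    rw [← pull_comp, ← XTmap_comp, ← pull_comp, ← XTmap_comp, ← pull_comp, ← XTmap_comp, MonObj.mul_comp, h₀.mul]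
  univ T c hc hd := by
    obtain ⟨g, hg, hu⟩ := h₀.univ T c hc hd
    refine ⟨g ≫ e.inv, ?_, fun h hh => ?_⟩
    · change pull _ (pull _ ξ₀) = c
      rw [← pull_comp, ← XTmap_comp, Category.assoc, e.inv_hom_id, Category.comp_id, hg]
    · change pull _ (pull _ ξ₀) = c at hh
      rw [← pull_comp, ← XTmap_comp] at hh
      rw [← hu (h ≫ e.hom) hh, Category.assoc, e.hom_inv_id, Category.comp_id]

end jac

end K532.Fine
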