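import Mathlib.Algebra.Group.TypeTags.Basic
import Mathlib.Tactic

/-!
# A tactic for identities in commutative groups
-/

/-- Identities in commutative groups (multiplicative notation), with symbolic natural exponents. -/
macro "cgroup" : tactic => `(tactic| (apply Additive.ofMul.injective; simp only [ofMul_mul, ofMul_inv, ofMul_pow, ofMul_one, ofMul_div, inv_pow]; module))
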