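import Groth.Agent.JacVar.K531.Albanese
import Groth.Agent.JacVar.K531.GoodPt
import Groth.Agent.Models.H65.PicDeg
import Groth.Agent.JacVar.K532.CurvePts
import Groth.Prelude.Def_SymProd

/-!
# The good locus at rational points

`goodCl_iff`: over a field `k`, at a `k`-point `z` of the base, `GoodCl` says that the class of the fibre
has `h¹ = 0` and `h⁰ = 1`.
-/

set_option autoImplicit false
set_option backward.isDefEq.respectTransparency false
universe u
open CategoryTheory CategoryTheory.Limits AlgebraicGeometry Opposite TopologicalSpace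
  MonoidalCategory

namespace K532.Good

open Groth.Agent Groth.Agent.Grpsch Groth.Agent.Grpsch.PicGrp Groth.Agent.Fga.RigGrp Groth.Agent.Fga.JacSum
open Groth.Agent.Fdesc.LocGen Groth.Agent.Picfga Groth.Agent.Picfga.ChiDef Groth.Agent.Picfga.P1Def Groth.Agent.Picfga.PicGood
open K531.Albanese K531.GoodHH K531.GoodPt K532.CurvePic K532.UnitBase K532.CurvePts

variable {k : Type u} [Field k] {X : Scheme.{u}} [X.Over (Spec (CommRingCat.of k))] (hX : IsCurve k X)

include hX in
theorem h1van_ui (P : P1Data (X ↘ Spec (CommRingCat.of k)))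
    (M : (PicF.XT (X ↘ Spec (CommRingCat.of k)) (Over.mk (𝟙 (Spec (CommRingCat.of k))))).Modules)
    (hM : PicF.IsInvertible M) :
    H1van P (Over.mk (𝟙 _)) M ↔ h k X 1 (pull (ui (X ↘ Spec (CommRingCat.of k))) (mk M hM)) = 0 := by
  have := hX.proper
  let fst := pullback.fst (X ↘ Spec (CommRingCat.of k)) (𝟙 (Spec (CommRingCat.of k)))
  let N := (Scheme.Modules.pullback (ui (X ↘ Spec (CommRingCat.of k)))).obj M
  have hN : PicF.IsInvertible N := isInvertible_pullback _ hM
  have h0 : pullback.fst (X ↘ Spec (CommRingCat.of k)) (𝟙_ (Over (Spec (CommRingCat.of k)))).hom ≫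
      ui (X ↘ Spec (CommRingCat.of k)) = 𝟙 _ := by
    rw [← cancel_epi (ui (X ↘ Spec (CommRingCat.of k))), ui_fst_assoc, Category.comp_id]
  have h1 : mk ((Scheme.Modules.pullback fst).obj N) (isInvertible_pullback _ hN) = mk M hM := by
    have h2 : mk ((Scheme.Modules.pullback fst).obj N) (isInvertible_pullback _ hN) =
        pull (pullback.fst (X ↘ Spec (CommRingCat.of k)) (𝟙_ (Over (Spec (CommRingCat.of k)))).hom)
          (pull (ui (X ↘ Spec (CommRingCat.of k))) (mk M hM)) := rfl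
    rw [h2, ← pull_comp, h0, pull_id]
  obtain ⟨e⟩ := (mk_eq_iff (isInvertible_pullback _ hN) hM).mp h1
  obtain ⟨e'⟩ := nonempty_equiv (X ↘ Spec (CommRingCat.of k)) N hN 1
  rw [← h1van_iso_iff P e, h1van_iff P (𝟙 _) _ (isInvertible_pullback _ hN), pull_mk, h_mk]
  have h3 := finite_HH hX hN 1
  rw [← e'.toEquiv.subsingleton_congr]
  exact Module.finrank_zero_iff.symm

theorem h0one_ui [IsProper (X ↘ Spec (CommRingCat.of k))]
    (M : (PicF.XT (X ↘ Spec (CommRingCat.of k)) (Over.mk (𝟙 (Spec (CommRingCat.of k))))).Modules)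
    (hM : PicF.IsInvertible M) :
    H0one (X ↘ Spec (CommRingCat.of k)) (Over.mk (𝟙 _)) M ↔
      h k X 0 (pull (ui (X ↘ Spec (CommRingCat.of k))) (mk M hM)) = 1 := by
  let fst := pullback.fst (X ↘ Spec (CommRingCat.of k)) (𝟙 (Spec (CommRingCat.of k)))
  let N := (Scheme.Modules.pullback (ui (X ↘ Spec (CommRingCat.of k)))).obj M
  have hN : PicF.IsInvertible N := isInvertible_pullback _ hM
  have h0 : pullback.fst (X ↘ Spec (CommRingCat.of k)) (𝟙_ (Over (Spec (CommRingCat.of k)))).hom ≫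
      ui (X ↘ Spec (CommRingCat.of k)) = 𝟙 _ := by
    rw [← cancel_epi (ui (X ↘ Spec (CommRingCat.of k))), ui_fst_assoc, Category.comp_id]
  have h1 : mk ((Scheme.Modules.pullback fst).obj N) (isInvertible_pullback _ hN) = mk M hM := by
    have h2 : mk ((Scheme.Modules.pullback fst).obj N) (isInvertible_pullback _ hN) =
        pull (pullback.fst (X ↘ Spec (CommRingCat.of k)) (𝟙_ (Over (Spec (CommRingCat.of k)))).hom)
          (pull (ui (X ↘ Spec (CommRingCat.of k))) (mk M hM)) := rfl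
    rw [h2, ← pull_comp, h0, pull_id]
  obtain ⟨e⟩ := (mk_eq_iff (isInvertible_pullback _ hN) hM).mp h1
  obtain ⟨e'⟩ := nonempty_equiv (X ↘ Spec (CommRingCat.of k)) N hN 0
  rw [← h0one_iso_iff (X ↘ Spec (CommRingCat.of k)) e, h0one_iff (𝟙 _) _, pull_mk, h_mk]
  let _ := overK (X ↘ Spec (CommRingCat.of k)) (𝟙 (Spec (CommRingCat.of k)))
  exact (e'.finrank_eq ▸ Iff.rfl)

include hX in
/-- `GoodCl` at a rational point. -/
theorem goodCl_iff (P : P1Data (X ↘ Spec (CommRingCat.of k))) {Z : Over (Spec (CommRingCat.of k))}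
    (c : Pic (PicF.XT (X ↘ Spec (CommRingCat.of k)) Z)) (z : 𝟙_ (Over (Spec (CommRingCat.of k))) ⟶ Z)
    (τ : (𝟙_ (Over (Spec (CommRingCat.of k)))).left) :
    GoodCl P Z c (z.left τ) ↔
      h k X 1 (pull (ui (X ↘ Spec (CommRingCat.of k))) (pull (PicF.XTmap (X ↘ Spec (CommRingCat.of k)) z) c)) = 0 ∧
      h k X 0 (pull (ui (X ↘ Spec (CommRingCat.of k))) (pull (PicF.XTmap (X ↘ Spec (CommRingCat.of k)) z) c)) = 1 := by
  have := hX.proper
  induction c using PicGrp.ind with | _ N hN => ?_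
  rw [goodCl_mk_iff, good_iff_point P N hN (K := k) (𝟙_ (Over (Spec (CommRingCat.of k)))) (Iso.refl _) z τ,
    pull_mk]
  exact and_congr (h1van_ui hX P _ (isInvertible_pullback _ hN)) (h0one_ui _ (isInvertible_pullback _ hN))

section points

variable [IsAlgClosed k]

/-- Points in general position impose independent conditions. -/
theorem exists_drop {c : Pic X} {m n : ℕ} (hc : h k X 0 c = m + n) :
    ∃ p : Fin n → KPt k X, h k X 0 (c * ∏ i, pcl hX (p i)) = m := by
  induction n generalizing c with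
  | zero => exact ⟨fun i => i.elim0, by simpa using hc⟩
  | succ n ih =>
    obtain ⟨U, hU, h1⟩ := exists_open_drop hX (c := c) (by omega)
    obtain ⟨x, hx⟩ := exists_kpt hX U hU
    have h2 := h1 x hx
    obtain ⟨p, hp⟩ := ih (c := c * pcl hX x) (by omega)
    refine ⟨Fin.cons x p, ?_⟩
    rw [Fin.prod_univ_succ]
    simp only [Fin.cons_zero, Fin.cons_succ]
    rwa [← mul_assoc]

/-- `g` points in general position. -/
theorem exists_general (hX : IsCurve k X) : ∃ p : Fin (gen k X) → KPt k X,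
    h k X 1 (∏ i, (pcl hX (p i))⁻¹) = 0 ∧ h k X 0 (∏ i, (pcl hX (p i))⁻¹) = 1 := by
  obtain ⟨p, hp⟩ := exists_drop hX (c := om hX) (m := 0) (n := gen k X) (by rw [h0_om, zero_add])
  have h1 : h k X 1 (∏ i, (pcl hX (p i))⁻¹) = 0 := by
    rw [serre hX, Finset.prod_inv_distrib, inv_inv]
    exact hp
  refine ⟨p, h1, ?_⟩
  have h2 := rr hX (∏ i, (pcl hX (p i))⁻¹)
  rw [h1, deg_prod_pcl] at h2
  omega

omit [IsAlgClosed k] in
theorem exists_open_h0 (n : ℕ) (a : Fin n → ℤ) (e : ℤ) (q : KPt k X) (p : Fin n → KPt k X)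
    (h1 : h k X 1 ((∏ i, pcl hX (p i) ^ a i) * pcl hX q ^ e) = 0)
    (h0 : h k X 0 ((∏ i, pcl hX (p i) ^ a i) * pcl hX q ^ e) = 1) :
    ∃ U : (SymProd.fibPow (X ↘ Spec (CommRingCat.of k)) n).Opens,
      (U : Set ↥(SymProd.fibPow (X ↘ Spec (CommRingCat.of k)) n)).Nonempty ∧
      ∀ (x : Spec (CommRingCat.of k) ⟶ SymProd.fibPow (X ↘ Spec (CommRingCat.of k)) n)
        (hx : x ≫ WidePullback.base (fun (_ : Fin n) => (X ↘ Spec (CommRingCat.of k))) = 𝟙 _)
        (_ : ∀ p, x.base p ∈ U),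
        h k X 0 ((∏ i, pcl hX ⟨x ≫ WidePullback.π (fun (_ : Fin n) => (X ↘ Spec (CommRingCat.of k))) i,
          by rw [Category.assoc, WidePullback.π_arrow, hx]⟩ ^ a i) * pcl hX q ^ e) = 1 := by
  have hprop := hX.proper
  have hs : SmoothOfRelativeDimension 1 (X ↘ Spec (CommRingCat.of k)) := Fga.JacAlg.smoothOfRelDim hX.curve
  let f := X ↘ Spec (CommRingCat.of k)
  obtain ⟨P⟩ := CurveP1.exists_p1Data hX.curve
  let Z : Over (Spec (CommRingCat.of k)) := Over.mk (WidePullback.base fun _ : Fin n => f)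
  let ξ : ∀ i : Fin n, Pt f Z := fun i => ⟨WidePullback.π (fun _ : Fin n => f) i, WidePullback.π_arrow _ i⟩
  let c : Pic (PicF.XT f Z) := (∏ i, gcl f (ξ i) ^ a i) * gcl f (Pt.ofSection q.2 Z) ^ e
  have key : ∀ z : 𝟙_ (Over (Spec (CommRingCat.of k))) ⟶ Z, ∀ y : Fin n → KPt k X,
      (∀ i, z.left ≫ WidePullback.π (fun _ : Fin n => f) i = (y i).1) →
      pull (ui f) (pull (PicF.XTmap f z) c) = (∏ i, pcl hX (y i) ^ a i) * pcl hX q ^ e := by
    intro z y hy
    have h2 : ∀ i, (ξ i).comp z = pt f (y i).1 (y i).2 := fun i => Subtype.ext (hy i)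
    have h3 : (Pt.ofSection q.2 Z).comp z = pt f q.1 q.2 := by
      rw [Pt.ofSection_comp]
      exact Subtype.ext (Category.id_comp _)
    simp only [c, map_mul, map_prod, map_zpow, pull_gcl, h2, h3]
    congr 1
    · refine Finset.prod_congr rfl fun i _ => ?_
      congr 1
      exact pull_ui_gcl f (y i).1 (y i).2
    · congr 1
      exact pull_ui_gcl f q.1 q.2
  let τ : (𝟙_ (Over (Spec (CommRingCat.of k)))).left := IsLocalRing.closedPoint k
  refine ⟨⟨{z | GoodCl P Z c z}, isOpen_goodCl P Z c⟩, ?_, ?_⟩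
  · let z : 𝟙_ (Over (Spec (CommRingCat.of k))) ⟶ Z :=
      Over.homMk (WidePullback.lift (𝟙 _) (fun i => (p i).1) (fun i => (p i).2)) (WidePullback.lift_base _ _ _ _)
    refine ⟨z.left τ, ?_⟩
    change GoodCl P Z c (z.left τ)
    rw [goodCl_iff hX P c z τ, key z p fun i => WidePullback.lift_π _ _ _ _ _]
    exact ⟨h1, h0⟩
  · intro x hx hxU
    let z : 𝟙_ (Over (Spec (CommRingCat.of k))) ⟶ Z := Over.homMk x hx
    have h2 : GoodCl P Z c (z.left τ) := hxU τ
    rw [goodCl_iff hX P c z τ, key z (fun i => ⟨x ≫ WidePullback.π (fun _ : Fin n => f) i, by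
      rw [Category.assoc, WidePullback.π_arrow, hx]⟩) fun i => rfl] at h2
    exact h2.2

omit [IsAlgClosed k] in
/-- The class of a tensor product of point ideals. -/
theorem mk_tensorList_ofFn {n : ℕ} (y : Fin n → KPt k X)
    (h : PicF.IsInvertible (FGA.tensorList (List.ofFn fun i => ClSub.idealMod (y i).1.ker))) :
    mk _ h = ∏ i, pcl hX (y i) := by
  have h1 := Models.H65.PicDeg.mk_tensorList (List.finRange n) (fun i => ClSub.idealMod (y i).1.ker)
    (fun i => Dix.IdealModCartier.isInvertible_idealMod (isEff hX (y i)))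
    (by rwa [List.ofFn_eq_map] at h)
  have h2 : mk _ h = mk (FGA.tensorList ((List.finRange n).map fun i => ClSub.idealMod (y i).1.ker))
    (by rwa [List.ofFn_eq_map] at h) := by
    congr 1
    rw [List.ofFn_eq_map]
  rw [h2, h1, ← List.ofFn_eq_map, List.prod_ofFn]
  rfl

theorem prod_two {G : Type*} [CommMonoid G] {g : ℕ} (F : Fin (2 * g) → G) :
    ∏ i, F i = (∏ i : Fin g, F (Fin.cast (two_mul g).symm (Fin.castAdd g i))) *
      ∏ i : Fin g, F (Fin.cast (two_mul g).symm (Fin.natAdd g i)) := by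
  rw [← Fin.prod_congr' F (two_mul g).symm, Fin.prod_univ_add]

omit [IsAlgClosed k] in
include hX in
theorem isInvertible_list {n : ℕ} (y : Fin n → KPt k X) :
    PicF.IsInvertible (FGA.tensorList (List.ofFn fun i => ClSub.idealMod (y i).1.ker)) := by
  refine Models.H65.PicDeg.isInvertible_tensorList fun N hN => ?_
  obtain ⟨i, rfl⟩ := List.mem_ofFn.1 hN
  exact Dix.IdealModCartier.isInvertible_idealMod (isEff hX (y i))

/-- `h⁰(D + D' - gP) = 1` generically. -/
theorem partA (hX : IsCurve k X) (σ : Spec (CommRingCat.of k) ⟶ X) (hσ : σ ≫ (X ↘ Spec (CommRingCat.of k)) = 𝟙 _)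
    (g : ℕ) (hg : gen k X = g) :
    ∃ U : (SymProd.fibPow (X ↘ Spec (CommRingCat.of k)) (2 * g)).Opens,
      (U : Set ↥(SymProd.fibPow (X ↘ Spec (CommRingCat.of k)) (2 * g))).Nonempty ∧
      ∀ (x : Spec (CommRingCat.of k) ⟶ SymProd.fibPow (X ↘ Spec (CommRingCat.of k)) (2 * g))
        (hx : x ≫ WidePullback.base (fun (_ : Fin (2 * g)) => (X ↘ Spec (CommRingCat.of k))) = 𝟙 _)
        (_ : ∀ p, x.base p ∈ U) (M : X.Modules) (_ : PicF.IsInvertible M)
        (_ : Nonempty (CohB1.tensorMod M (FGA.tensorList (List.ofFn fun i : Fin (2 * g) =>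
          ClSub.idealMod (x ≫ WidePullback.π (fun (_ : Fin (2 * g)) => (X ↘ Spec (CommRingCat.of k))) i).ker)) ≅
          CohB1.tensorPow (ClSub.idealMod σ.ker) g)),
        Module.finrank k (Coh.HH X M 0) = 1 := by
  subst hg
  let q : KPt k X := ⟨σ, hσ⟩
  obtain ⟨P, hP1, hP0⟩ := exists_general hX
  have hI : PicF.IsInvertible (CohB1.tensorPow (ClSub.idealMod σ.ker) (gen k X)) :=
    isInvertible_tensorPow (Dix.IdealModCartier.isInvertible_idealMod (isEff hX q)) _
  have hIc : mk _ hI = pcl hX q ^ gen k X :=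
    PicGrp.mk_tensorPow (Dix.IdealModCartier.isInvertible_idealMod (isEff hX q)) _
  let p : Fin (2 * gen k X) → KPt k X := fun i =>
    Fin.addCases P (fun _ => q) (Fin.cast (two_mul _) i)
  have hp : (∏ i, pcl hX (p i) ^ (-1 : ℤ)) * pcl hX q ^ (gen k X : ℤ) = ∏ i, (pcl hX (P i))⁻¹ := by
    rw [prod_two]
    simp only [p, Fin.cast_cast, Fin.cast_eq_self, Fin.addCases_left, Fin.addCases_right, zpow_neg, zpow_one,
      Finset.prod_const, Finset.card_univ, Fintype.card_fin, zpow_natCast, inv_pow, inv_mul_cancel_right]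
  obtain ⟨U, hU, h1⟩ := exists_open_h0 hX (2 * gen k X) (fun _ => -1) (gen k X) q p
    (by rw [hp]; exact hP1) (by rw [hp]; exact hP0)
  refine ⟨U, hU, fun x hx hxU M hM hMD => ?_⟩
  have h2 := h1 x hx hxU
  rw [← h_mk k X 0 hM]
  let y : Fin (2 * gen k X) → KPt k X := fun i =>
    ⟨x ≫ WidePullback.π (fun _ : Fin (2 * gen k X) => (X ↘ Spec (CommRingCat.of k))) i,
      by rw [Category.assoc, WidePullback.π_arrow, hx]⟩
  have h3 : mk M hM * (∏ i, pcl hX (y i)) = pcl hX q ^ gen k X := by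
    rw [← mk_tensorList_ofFn hX y (isInvertible_list hX y), ← hIc, mk_mul_mk, mk_eq_iff]
    exact hMD
  rw [← eq_mul_inv_iff_mul_eq] at h3
  rw [h3]
  rw [← h2]
  congr 1
  simp only [zpow_neg, zpow_one, zpow_natCast, Finset.prod_inv_distrib]
  exact mul_comm _ _

/-- `h⁰(D' - D + gP) = 1` generically. -/
theorem partB (hX : IsCurve k X) (σ : Spec (CommRingCat.of k) ⟶ X) (hσ : σ ≫ (X ↘ Spec (CommRingCat.of k)) = 𝟙 _)
    (g : ℕ) (hg : gen k X = g) :
    ∃ V : (SymProd.fibPow (X ↘ Spec (CommRingCat.of k)) (2 * g)).Opens,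
      (V : Set ↥(SymProd.fibPow (X ↘ Spec (CommRingCat.of k)) (2 * g))).Nonempty ∧
      ∀ (x : Spec (CommRingCat.of k) ⟶ SymProd.fibPow (X ↘ Spec (CommRingCat.of k)) (2 * g))
        (hx : x ≫ WidePullback.base (fun (_ : Fin (2 * g)) => (X ↘ Spec (CommRingCat.of k))) = 𝟙 _)
        (_ : ∀ p, x.base p ∈ V) (M : X.Modules) (_ : PicF.IsInvertible M)
        (_ : Nonempty (CohB1.tensorMod M (CohB1.tensorMod
            (FGA.tensorList (List.ofFn fun i : Fin g => ClSub.idealMod
              (x ≫ WidePullback.π (fun (_ : Fin (2 * g)) => (X ↘ Spec (CommRingCat.of k)))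
                (Fin.cast (two_mul g).symm (Fin.natAdd g i))).ker))
            (CohB1.tensorPow (ClSub.idealMod σ.ker) g)) ≅
          FGA.tensorList (List.ofFn fun i : Fin g => ClSub.idealMod
            (x ≫ WidePullback.π (fun (_ : Fin (2 * g)) => (X ↘ Spec (CommRingCat.of k)))
              (Fin.cast (two_mul g).symm (Fin.castAdd g i))).ker))),
        Module.finrank k (Coh.HH X M 0) = 1 := by
  subst hg
  let q : KPt k X := ⟨σ, hσ⟩
  obtain ⟨P, hP1, hP0⟩ := exists_general hX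
  have hI : PicF.IsInvertible (CohB1.tensorPow (ClSub.idealMod σ.ker) (gen k X)) :=
    isInvertible_tensorPow (Dix.IdealModCartier.isInvertible_idealMod (isEff hX q)) _
  have hIc : mk _ hI = pcl hX q ^ gen k X :=
    PicGrp.mk_tensorPow (Dix.IdealModCartier.isInvertible_idealMod (isEff hX q)) _
  let p : Fin (2 * gen k X) → KPt k X := fun i =>
    Fin.addCases (fun _ => q) P (Fin.cast (two_mul _) i)
  let a : Fin (2 * gen k X) → ℤ := fun i =>
    Fin.addCases (motive := fun _ => ℤ) (fun _ => 1) (fun _ => -1) (Fin.cast (two_mul (gen k X)) i)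
  have hp : (∏ i, pcl hX (p i) ^ a i) * pcl hX q ^ (-(gen k X : ℤ)) = ∏ i, (pcl hX (P i))⁻¹ := by
    rw [prod_two]
    simp only [p, a, Fin.cast_cast, Fin.cast_eq_self, Fin.addCases_left, Fin.addCases_right, zpow_neg, zpow_one,
      Finset.prod_const, Finset.card_univ, Fintype.card_fin, zpow_natCast]
    exact mul_inv_cancel_comm _ _
  obtain ⟨U, hU, h1⟩ := exists_open_h0 hX (2 * gen k X) a (-(gen k X : ℤ)) q p
    (by rw [hp]; exact hP1) (by rw [hp]; exact hP0)
  refine ⟨U, hU, fun x hx hxU M hM hMD => ?_⟩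
  have h2 := h1 x hx hxU
  rw [← h_mk k X 0 hM]
  let y : Fin (2 * gen k X) → KPt k X := fun i =>
    ⟨x ≫ WidePullback.π (fun _ : Fin (2 * gen k X) => (X ↘ Spec (CommRingCat.of k))) i,
      by rw [Category.assoc, WidePullback.π_arrow, hx]⟩
  have h3 : mk M hM * ((∏ i, pcl hX (y (Fin.cast (two_mul _).symm (Fin.natAdd _ i)))) *
      pcl hX q ^ gen k X) = ∏ i, pcl hX (y (Fin.cast (two_mul _).symm (Fin.castAdd _ i))) := by
    rw [← mk_tensorList_ofFn hX _ (isInvertible_list hX _), ← mk_tensorList_ofFn hX _ (isInvertible_list hX _),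
      ← hIc, mk_mul_mk, mk_mul_mk, mk_eq_iff]
    exact hMD
  rw [← eq_mul_inv_iff_mul_eq] at h3
  rw [h3]
  refine Eq.trans ?_ h2
  congr 1
  rw [prod_two]
  simp only [a, y, Fin.cast_cast, Fin.cast_eq_self, Fin.addCases_left, Fin.addCases_right, zpow_neg, zpow_one,
    zpow_natCast, Finset.prod_inv_distrib, mul_inv, mul_assoc]

end points

end K532.Good
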