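import Groth.Agent.JacVar.K532.ThetaClass
import Groth.Agent.JacVar.K532.Good
import Groth.Agent.Divis.EffCartier
import Groth.Agent.Fga.IntAdd

/-!
# The ideal of translates of `Θ⁻`

* `IT j n b`: the ideal of the reduced closed subscheme `t_b((W^n)⁻¹)`.
* `comap_vanishingIdeal_iso`, `IT_eq_comap`.
* `pull_La`: the pullback of an inverse of the ideal module along the Abel map, from the case of divisors in
  general position.
-/

set_option autoImplicit false
universe u
open CategoryTheory CategoryTheory.Limits AlgebraicGeometry MonoidalCategory CartesianMonoidalCategory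
open scoped MonObj

namespace K532.ThetaIdeal

open Groth.Agent Groth.Agent.Grpsch.PicGrp Groth.Agent.Fga.RigGrp Groth.Agent.Sga7.H732.Hedge
open Groth.Agent.Sga7.H732 K532.UnitBase K532.CurvePic K532.CurvePts K532.Dict Groth.Agent.Fga.JacSum
open Groth.Agent.Fga.JacFactor K532.Setup K532.KPts K532.Wr K532.MultPts K532.Theta1 Groth.Agent.Grpsch.Cube
open K532.NonHyp K532.ThetaClass Groth.Agent.Divis.EffCartier

section iso

variable {X Y : Scheme.{u}}

theorem comap_vanishingIdeal_le (f : X ⟶ Y) (Z : TopologicalSpace.Closeds Y) :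
    (Scheme.IdealSheafData.vanishingIdeal Z).comap f ≤
      Scheme.IdealSheafData.vanishingIdeal (Z.preimage f.continuous) := by
  rw [← Scheme.IdealSheafData.le_support_iff_le_vanishingIdeal, Scheme.IdealSheafData.support_comap]
  have h1 : Z ≤ (Scheme.IdealSheafData.vanishingIdeal Z).support :=
    Scheme.IdealSheafData.le_support_iff_le_vanishingIdeal.2 le_rfl
  exact fun x hx => h1 hx

/-- Reduced ideals pull back to reduced ideals along isomorphisms. -/
theorem comap_vanishingIdeal_iso (f : X ⟶ Y) (g : Y ⟶ X) (h1 : f ≫ g = 𝟙 X) (h2 : g ≫ f = 𝟙 Y)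
    (Z : TopologicalSpace.Closeds Y) :
    (Scheme.IdealSheafData.vanishingIdeal Z).comap f =
      Scheme.IdealSheafData.vanishingIdeal (Z.preimage f.continuous) := by
  refine le_antisymm (comap_vanishingIdeal_le f Z) ?_
  have h3 := comap_vanishingIdeal_le g (Z.preimage f.continuous)
  have h4 : (Z.preimage f.continuous).preimage g.continuous = Z := by
    apply TopologicalSpace.Closeds.ext
    change g.base ⁻¹' (f.base ⁻¹' (Z : Set Y)) = Z
    rw [← Set.preimage_comp]
    have : ⇑f.base ∘ ⇑g.base = id := by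
      funext y
      change f (g y) = y
      rw [← Scheme.Hom.comp_apply, h2]
      rfl
    rw [this, Set.preimage_id]
  rw [h4] at h3
  have h5 : ((Scheme.IdealSheafData.vanishingIdeal (Z.preimage f.continuous)).comap g).comap f ≤
      (Scheme.IdealSheafData.vanishingIdeal Z).comap f := Scheme.IdealSheafData.comap_mono f h3
  rw [← Scheme.IdealSheafData.comap_comp, h1, Scheme.IdealSheafData.comap_id] at h5
  exact h5

end iso

section theta

variable {k : Type u} [Field k] {C : Scheme.{u}} {f : C ⟶ Spec (CommRingCat.of k)}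
  {J : Over (Spec (CommRingCat.of k))} [GrpObj J] (j : Over.mk f ⟶ J)

/-- The ideal of `t_b((W^n)⁻¹)`. -/
noncomputable def IT (n : ℕ) (b : 𝟙_ (Over (Spec (CommRingCat.of k))) ⟶ J) : J.left.IdealSheafData :=
  Scheme.IdealSheafData.vanishingIdeal
    ⟨closure ((Jac.transl J b).left.base '' (((𝟙 J)⁻¹).left.base '' W j n)), isClosed_closure⟩

theorem transl_image (b : 𝟙_ (Over (Spec (CommRingCat.of k))) ⟶ J) (A : Set J.left) :
    (Jac.transl J b).left.base '' A = (Jac.transl J b⁻¹).left.base ⁻¹' A := by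
  have e1 : ∀ x, (Jac.transl J b⁻¹).left ((Jac.transl J b).left x) = x := fun x => by
    rw [← Scheme.Hom.comp_apply, ← Over.comp_left, transl_transl]; rfl
  have e2 : ∀ x, (Jac.transl J b).left ((Jac.transl J b⁻¹).left x) = x := fun x => by
    rw [← Scheme.Hom.comp_apply, ← Over.comp_left, transl_transl']; rfl
  ext x
  constructor
  · rintro ⟨y, hy, rfl⟩
    change (Jac.transl J b⁻¹).left ((Jac.transl J b).left y) ∈ A
    rwa [e1]
  · intro hx
    exact ⟨_, hx, e2 x⟩

instance isIso_transl (b : 𝟙_ (Over (Spec (CommRingCat.of k))) ⟶ J) : IsIso (Jac.transl J b).left := by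
  have h1 := congrArg (fun q => q.left) (transl_transl (J := J) b)
  have h2 := congrArg (fun q => q.left) (transl_transl' (J := J) b)
  exact ⟨_, h1, h2⟩

theorem IT_eq_comap [IsProper f] [IsProper J.hom] (n : ℕ) (b : 𝟙_ (Over (Spec (CommRingCat.of k))) ⟶ J) :
    IT j n b = (IT j n 1).comap (Jac.transl J b⁻¹).left := by
  have h1 := congrArg (fun q => q.left) (transl_transl (J := J) b⁻¹)
  have h2 := congrArg (fun q => q.left) (transl_transl' (J := J) b⁻¹)
  have ht : (Jac.transl J (1 : 𝟙_ (Over (Spec (CommRingCat.of k))) ⟶ J)) = 𝟙 J := by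
    rw [Jac.transl, MonObj.comp_one, mul_one]
  have hcl : IsClosed (((𝟙 J)⁻¹).left.base '' W j n) := isClosed_inv (isClosed_W j n)
  rw [IT, IT, comap_vanishingIdeal_iso _ _ h1 h2]
  congr 1
  apply TopologicalSpace.Closeds.ext
  change closure _ = (Jac.transl J b⁻¹).left.base ⁻¹' closure _
  rw [ht]
  have h3 : (𝟙 J : J ⟶ J).left.base '' (((𝟙 J)⁻¹).left.base '' W j n) = ((𝟙 J)⁻¹).left.base '' W j n := by
    ext x
    constructor
    · rintro ⟨y, hy, rfl⟩
      exact hy
    · intro hx
      exact ⟨x, hx, rfl⟩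
  rw [h3, hcl.closure_eq, (isClosed_transl b hcl).closure_eq, transl_image]

end theta

section curve

variable {k : Type u} [Field k] [IsAlgClosed k] {C : Scheme.{u}} [C.Over (Spec (CommRingCat.of k))] (hX : IsCurve k C)
  {σ : Spec (CommRingCat.of k) ⟶ C} {hσ : σ ≫ (C ↘ Spec (CommRingCat.of k)) = 𝟙 (Spec (CommRingCat.of k))}
  {J : Over (Spec (CommRingCat.of k))} [GrpObj J] {ξ : Pic (PicF.XT (C ↘ Spec (CommRingCat.of k)) J)}
  (h : IsJac (C ↘ Spec (CommRingCat.of k)) σ hσ J ξ) [IsProper (C ↘ Spec (CommRingCat.of k))] [IsProper J.hom]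
  [GeometricallyIntegral J.hom] [IsCommMonObj J]
  [SmoothOfRelativeDimension 1 (C ↘ Spec (CommRingCat.of k))]
  {j : Over.mk (C ↘ Spec (CommRingCat.of k)) ⟶ J} (hj : IsAbel h j)

/-- The formula for the pulled back ideal of a translate by a divisor in general position. -/
def K1 (hX : IsCurve k C) (j : Over.mk (C ↘ Spec (CommRingCat.of k)) ⟶ J) (n : ℕ) : Prop :=
  ∀ D : Fin (n + 1) → KPt k C, Function.Injective D → CurvePic.h k C 0 (∏ i, (pcl hX (D i))⁻¹) = 1 →
    (IT j n (List.ofFn fun i => pm _ (D i).1 (D i).2 ≫ j).prod).comap j.left = ⨅ i, (D i).1.ker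

omit [IsAlgClosed k] [GeometricallyIntegral J.hom]
  [SmoothOfRelativeDimension 1 (C ↘ Spec (CommRingCat.of k))] in
theorem isEff_IT_one (n : ℕ) {b : 𝟙_ (Over (Spec (CommRingCat.of k))) ⟶ J} (hE : BlowUp.IsEffCartierIdeal (IT j n b)) :
    BlowUp.IsEffCartierIdeal (IT j n 1) := by
  have h1 := IT_eq_comap j n b
  rw [h1] at hE
  have h2 := isEff_comap_flat hE (Jac.transl J b).left
  rw [← Scheme.IdealSheafData.comap_comp, ← Over.comp_left, transl_transl, Over.id_left,
    Scheme.IdealSheafData.comap_id] at h2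
  exact h2

omit [IsAlgClosed k] [GeometricallyIntegral J.hom]
  [SmoothOfRelativeDimension 1 (C ↘ Spec (CommRingCat.of k))] in
theorem isEff_IT (n : ℕ) (hE : BlowUp.IsEffCartierIdeal (IT j n 1)) (b : 𝟙_ (Over (Spec (CommRingCat.of k))) ⟶ J) :
    BlowUp.IsEffCartierIdeal (IT j n b) := by
  rw [IT_eq_comap j n b]
  exact isEff_comap_flat hE _

/-- Pullback of the class of an effective Cartier ideal. -/
theorem pull_dcl {X Y : Scheme.{u}} (g : X ⟶ Y) {I : Y.IdealSheafData} (hI : BlowUp.IsEffCartierIdeal I)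
    (hI' : BlowUp.IsEffCartierIdeal (I.comap g)) : pull g (dcl I hI) = dcl (I.comap g) hI' := by
  rw [dcl, dcl, pull_mk, mk_eq_iff]
  exact Dix.IdealModCartier.pullback_idealMod g hI hI'

omit [IsAlgClosed k] [GeometricallyIntegral J.hom]
  [SmoothOfRelativeDimension 1 (C ↘ Spec (CommRingCat.of k))] in
theorem Fc_eq (n : ℕ) (hE : BlowUp.IsEffCartierIdeal (IT j n 1)) (b : 𝟙_ (Over (Spec (CommRingCat.of k))) ⟶ J) :
    Fc j (dcl (IT j n 1) hE)⁻¹ b = (pull j.left (dcl (IT j n b) (isEff_IT n hE b)))⁻¹ := by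
  have h1 := IT_eq_comap j n b
  have h2 : BlowUp.IsEffCartierIdeal ((IT j n 1).comap (Jac.transl J b⁻¹).left) := by
    rw [← h1]; exact isEff_IT n hE b
  have h3 := pull_dcl (Jac.transl J b⁻¹).left hE h2
  have h4 : dcl (IT j n b) (isEff_IT n hE b) = dcl _ h2 := dcl_congr h1 _
  rw [Fc, pl_comp]
  unfold pl
  rw [map_inv, map_inv, h3, h4]

include hj in
/-- The class of the pullback, for all divisors of degree `g`. -/
theorem pull_IT {n : ℕ} (hn : gen k C = n + 1) (hK1 : K1 hX j n) (hE : BlowUp.IsEffCartierIdeal (IT j n 1))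
    (D : Fin (n + 1) → KPt k C) :
    (pull j.left (dcl (IT j n (List.ofFn fun i => pm _ (D i).1 (D i).2 ≫ j).prod) (isEff_IT n hE _)))⁻¹ =
      ∏ i, (pcl hX (D i))⁻¹ := by
  rw [← Fc_eq n hE]
  refine class_eq hX h hj _ hn (fun D hD h0 => ?_) D
  rw [Fc_eq n hE]
  have h1 := hK1 D hD h0
  rw [← prod_ker_eq_iInf hX D hD] at h1
  obtain ⟨hE1, h2⟩ := exists_isEff_prod hX D
  rw [← h2]
  have h3 : BlowUp.IsEffCartierIdeal
      ((IT j n (List.ofFn fun i => pm _ (D i).1 (D i).2 ≫ j).prod).comap j.left) := by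
    rw [h1]; exact hE1
  rw [pull_dcl j.left _ h3, dcl_congr h1 h3]

include hj in
/-- The pullback of an inverse of the ideal module. -/
theorem pull_La {n : ℕ} (hn : gen k C = n + 1) (hK1 : K1 hX j n) (D : Fin (n + 1) → KPt k C)
    (La : J.left.Modules) (hLa : PicF.IsInvertible La)
    (hLI : ClSub.IsInverseOf La (ClSub.idealMod (IT j n (List.ofFn fun i => pm _ (D i).1 (D i).2 ≫ j).prod)))
    (MD : C.Modules) (hMD : PicF.IsInvertible MD)
    (hMDD : Nonempty (CohB1.tensorMod MD (FGA.tensorList (List.ofFn fun i => ClSub.idealMod (D i).1.ker)) ≅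
      Coh.structureModule C)) :
    Nonempty ((Scheme.Modules.pullback j.left).obj La ≅ MD) := by
  obtain ⟨e⟩ := id hLI
  have hI := Fga.IntAdd.isInvertible_of_tensor e
  have hEb := Dix.IdealModCartier.isEffCartierIdeal_of_isInvertible hI
  have hE := isEff_IT_one n hEb
  have h1 := pull_IT hX h hj hn hK1 hE D
  have h2 : mk La hLa = (dcl _ hEb)⁻¹ := Models.H65.PicDeg.mk_of_isInverseOf hLa hI hLI
  have h3 : mk MD hMD = ∏ i, (pcl hX (D i))⁻¹ := by
    rw [Finset.prod_inv_distrib, eq_inv_iff_mul_eq_one,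
      ← Good.mk_tensorList_ofFn hX D (Good.isInvertible_list hX D), mk_mul_mk, mk_eq_one_iff]
    exact hMDD
  rw [← map_inv] at h1
  have h4 : pull j.left (mk La hLa) = mk MD hMD := by
    rw [h2, h3]
    exact h1
  rw [pull_mk, mk_eq_iff] at h4
  exact h4

end curve

end K532.ThetaIdeal
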