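import Groth.Agent.JacVar.K532.Theta1
import Groth.Agent.Grpsch.Cube
import Groth.Agent.Desc.K390.PnSec
import Groth.Agent.CurvesC.DegZeroSec512

/-!
# Sections of a line bundle on a group variety which restrict to curves with `h⁰ ≤ 1`

`J` a proper geometrically integral group scheme over an algebraically closed field, `j : X ⟶ J` a curve which
generates `J`, `L` an invertible module with `h⁰(X, j_b^* L) ≤ 1` for `b` outside a proper closed subset.
Then `h⁰(J, L) ≤ 1`.
-/

set_option autoImplicit false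
universe u
open CategoryTheory CategoryTheory.Limits AlgebraicGeometry MonoidalCategory CartesianMonoidalCategory
open TopologicalSpace
open scoped MonObj

namespace K532.H0Gen

open Groth.Agent Groth.Agent.Grpsch.PicGrp Groth.Agent.Fga.RigGrp Groth.Agent.Sga7.H732.Hedge
open Groth.Agent.Sga7.H732 K532.UnitBase K532.CurvePic K532.CurvePts K532.Dict Groth.Agent.Fga.JacSum
open Groth.Agent.Fga.JacFactor K532.Setup K532.KPts K532.Wr K532.MultPts K532.Theta1 Groth.Agent.Grpsch.Cube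
open Groth.Agent.Fdesc.LocGen Groth.Agent.VarietyA.CurveLin

/-- The locus where a section generates. -/
noncomputable abbrev nv {X : Scheme.{u}} {L : X.Modules} (t : Γ(L, ⊤)) : X.Opens := CohB1.genLocus L (homOf t)

theorem eq_zero_of_nv {X : Scheme.{u}} [IsReduced X] {L : X.Modules} (hL : PicF.IsInvertible L) (t : Γ(L, ⊤))
    (h : nv t = ⊥) : t = 0 := by
  have h1 := CurvesC.DegZeroSec512.eq_zero_of_genLocus_eq_bot hL (homOf t) h
  have h2 := sec_homOf t ⊤
  rw [h1] at h2
  have h3 : sec (0 : Coh.structureModule X ⟶ L) ⊤ = 0 := rfl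
  rw [h3] at h2
  have h4 : res L (le_top : (⊤ : X.Opens) ≤ ⊤) t = t := by
    simp
  rw [← h4, ← h2]

theorem homOf_zero {X : Scheme.{u}} {L : X.Modules} : homOf (0 : Γ(L, ⊤)) = 0 := by
  apply hom_ext_sec
  rw [sec_homOf, map_zero]
  rfl

theorem notMem_nv_zero {X : Scheme.{u}} {L : X.Modules} (x : X) : x ∉ nv (0 : Γ(L, ⊤)) := by
  intro h
  rw [nv, homOf_zero] at h
  have h7 : CohB1.genLocus L 0 ≤ ⊥ := (Ega2.FiniteSet.genLocus_zero).le
  exact h7 h

theorem nv_pullTop {X Y : Scheme.{u}} (f : Y ⟶ X) {M : X.Modules} (hM : PicF.IsInvertible M) (s : Γ(M, ⊤)) :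
    nv (pullTop f s) = f ⁻¹ᵁ (nv s) := K390.PnSec.genLocus_pullTop f hM s

/-- The action of the base field on sections. -/
noncomputable abbrev sc {k : Type u} [Field k] {X : Scheme.{u}} (f : X ⟶ Spec (CommRingCat.of k)) (a : k) : Γ(X, ⊤) :=
  Coh.toGlobal f a

theorem app_sc {k : Type u} [Field k] {X Y : Scheme.{u}} (f : X ⟶ Spec (CommRingCat.of k))
    (g : Y ⟶ X) (a : k) : (g.appTop (sc f a) : Γ(Y, ⊤)) = sc (g ≫ f) a := by
  change g.appTop.hom ((f.appTop).hom _) = ((g ≫ f).appTop).hom _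
  rw [Scheme.Hom.comp_appTop]
  rfl

theorem isUnit_sc {k : Type u} [Field k] {X : Scheme.{u}} (f : X ⟶ Spec (CommRingCat.of k)) {a : k} (ha : a ≠ 0) :
    IsUnit (sc f a) := (isUnit_iff_ne_zero.2 ha).map (Coh.toGlobal f)

theorem nv_unit_smul {X : Scheme.{u}} {L : X.Modules} {a : Γ(X, ⊤)} (ha : IsUnit a) (t : Γ(L, ⊤)) :
    nv t ≤ nv (a • t) := by
  rw [le_genLocus_iff, sec_homOf]
  have h1 : IsGen (sec (homOf t) (nv t)) := isGen_sec_genLocus _
  rw [sec_homOf] at h1
  rw [res_smul]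
  exact h1.unit_smul (ha.map _)

section curve

variable {k : Type u} [Field k] {X : Scheme.{u}} [X.Over (Spec (CommRingCat.of k))] (hX : IsCurve k X)

include hX in
/-- If `h⁰ ≤ 1`, a section vanishing at a point where another section does not vanish is zero. -/
theorem eq_zero_of_h0_le {M : X.Modules} (hM : PicF.IsInvertible M) (h1 : h k X 0 (mk M hM) ≤ 1)
    (s t : Γ(M, ⊤)) (x : X) (hs : x ∈ nv s) (ht : x ∉ nv t) : t = 0 := by
  have hfin := finite_HH hX hM 0
  have hs0 : (secOf M).symm s ≠ 0 := by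
    intro h0
    have h2 := congrArg (secOf M) h0
    rw [AddEquiv.apply_symm_apply, map_zero] at h2
    rw [h2] at hs
    exact notMem_nv_zero _ hs
  have hf1 : Module.finrank k (Coh.HH X M 0) = 1 := by
    refine le_antisymm h1 ?_
    have : Nontrivial (Coh.HH X M 0) := ⟨_, _, hs0⟩
    exact Module.finrank_pos
  obtain ⟨a, ha⟩ := (finrank_eq_one_iff_of_nonzero' _ hs0).1 hf1 ((secOf M).symm t)
  have h3 : sc (X ↘ Spec (CommRingCat.of k)) a • s = t := by
    have := congrArg (secOf M) ha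
    rw [AddEquiv.apply_symm_apply] at this
    rw [← this]
    change _ = secOf M ((Coh.toGlobal (X ↘ Spec (CommRingCat.of k)) a) • ((secOf M).symm s))
    rw [secOf_smul, AddEquiv.apply_symm_apply]
  by_cases ha0 : a = 0
  · rw [← h3, ha0]
    have h6 : sc (X ↘ Spec (CommRingCat.of k)) (0 : k) = 0 := map_zero (Coh.toGlobal (X ↘ Spec (CommRingCat.of k)))
    rw [h6, zero_smul]
  · exfalso
    apply ht
    rw [← h3]
    exact nv_unit_smul (isUnit_sc _ ha0) s hs

end curve

section point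

variable {k : Type u} [Field k] {J : Scheme.{u}} (q : J ⟶ Spec (CommRingCat.of k))
  (x : Spec (CommRingCat.of k) ⟶ J) (hx : x ≫ q = 𝟙 _) {L : J.Modules} (hL : PicF.IsInvertible L)

include hx hL in
/-- Given a section which does not vanish at a rational point, every section is a multiple of it up to a section
vanishing at this point. -/
theorem exists_sub (s t : Γ(L, ⊤)) (hs : x (IsLocalRing.closedPoint k) ∈ nv s) :
    ∃ a : k, x (IsLocalRing.closedPoint k) ∉ nv (t - sc q a • s) := by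
  have h1 : nv (pullTop x s) = ⊤ := by
    rw [nv_pullTop x hL, eq_top_iff]
    intro p _
    have : p = IsLocalRing.closedPoint k := Subsingleton.elim (α := PrimeSpectrum k) _ _
    rw [this]
    exact hs
  have h2 : IsGen (sec (homOf (pullTop x s)) ⊤) := (le_genLocus_iff _ _).1 h1.ge
  rw [sec_homOf] at h2
  obtain ⟨b, hb⟩ := h2.exists_eq (res _ (le_top : (⊤ : (Spec (CommRingCat.of k)).Opens) ≤ ⊤) (pullTop x t))
  obtain ⟨a, ha⟩ : ∃ a : k, sc (𝟙 (Spec (CommRingCat.of k))) a = b := by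
    refine ⟨(Scheme.ΓSpecIso (CommRingCat.of k)).hom.hom b, ?_⟩
    change (Scheme.Hom.appTop (𝟙 (Spec (CommRingCat.of k)))).hom
      ((Scheme.ΓSpecIso (CommRingCat.of k)).inv.hom ((Scheme.ΓSpecIso (CommRingCat.of k)).hom.hom b)) = b
    have h3 : (Scheme.ΓSpecIso (CommRingCat.of k)).inv.hom ((Scheme.ΓSpecIso (CommRingCat.of k)).hom.hom b) = b :=
      (Scheme.ΓSpecIso (CommRingCat.of k)).commRingCatIsoToRingEquiv.symm_apply_apply b
    rw [h3, Scheme.Hom.id_appTop]
    rfl
  refine ⟨a, fun hmem => ?_⟩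
  have h4 : pullTop x (t - sc q a • s) = 0 := by
    have e1 : pullTop x (t - sc q a • s) = pullTop x t - pullTop x (sc q a • s) :=
      map_sub (K390.PnSec.pullTopHom x L) t (sc q a • s)
    have e2 : pullTop x (sc q a • s) = (x.appTop (sc q a) : Γ(Spec (CommRingCat.of k), ⊤)) • pullTop x s := pullSec_smul x (sc q a) s
    have e3 : (x.appTop (sc q a) : Γ(Spec (CommRingCat.of k), ⊤)) = b := by
      rw [app_sc, ← ha]
      have : x ≫ q = 𝟙 _ := hx
      rw [this]
    have e4 : ∀ w : Γ((Scheme.Modules.pullback x).obj L, ⊤),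
        res _ (le_top : (⊤ : (Spec (CommRingCat.of k)).Opens) ≤ ⊤) w = w := fun w => by simp
    rw [e4, e4] at hb
    rw [e1, e2, e3, hb, sub_self]
  have h5 : IsLocalRing.closedPoint k ∈ nv (pullTop x (t - sc q a • s)) := by
    rw [nv_pullTop x hL]
    exact hmem
  rw [h4] at h5
  exact notMem_nv_zero _ h5

end point

section step

variable {k : Type u} [Field k] {X : Scheme.{u}} [X.Over (Spec (CommRingCat.of k))] (hX : IsCurve k X)
  {J : Over (Spec (CommRingCat.of k))} [GrpObj J]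
  (j : Over.mk (X ↘ Spec (CommRingCat.of k)) ⟶ J) {L : J.left.Modules} (hL : PicF.IsInvertible L)

include hX hL in
/-- A section vanishing at a point of a good curve, where another section does not vanish, vanishes on the curve. -/
theorem step (s t : Γ(L, ⊤)) (b : 𝟙_ (Over (Spec (CommRingCat.of k))) ⟶ J)
    (c₀ c : 𝟙_ (Over (Spec (CommRingCat.of k))) ⟶ Over.mk (X ↘ Spec (CommRingCat.of k)))
    (hb : h k X 0 (pl (j ≫ Jac.transl J b) (mk L hL)) ≤ 1)
    (hs : pa ((c₀ ≫ j) * b) ∈ nv s) (ht : pa ((c₀ ≫ j) * b) ∉ nv t) : pa ((c ≫ j) * b) ∉ nv t := by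
  have hint := hX.integral
  let φ : X ⟶ J.left := (j ≫ Jac.transl J b).left
  have e : ∀ c : 𝟙_ (Over (Spec (CommRingCat.of k))) ⟶ Over.mk (X ↘ Spec (CommRingCat.of k)),
      φ (pa c) = pa ((c ≫ j) * b) := by
    intro c
    change (j ≫ Jac.transl J b).left (pa c) = _
    rw [← pa_comp, ← Category.assoc, comp_transl']
  have hφ : PicF.IsInvertible ((Scheme.Modules.pullback φ).obj L) := isInvertible_pullback φ hL
  have hb' : h k X 0 (mk _ hφ) ≤ 1 := by
    have h1 : pl (j ≫ Jac.transl J b) (mk L hL) = mk _ hφ := pull_mk φ hL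
    rwa [h1] at hb
  have h1 : pullTop φ t = 0 := by
    refine eq_zero_of_h0_le hX hφ hb' (pullTop φ s) (pullTop φ t) (pa c₀) ?_ ?_
    · rw [nv_pullTop φ hL]
      change φ (pa c₀) ∈ nv s
      rw [e]
      exact hs
    · rw [nv_pullTop φ hL]
      change ¬ (φ (pa c₀) ∈ nv t)
      rw [e]
      exact ht
  intro h2
  have h3 : pa c ∈ nv (pullTop φ t) := by
    rw [nv_pullTop φ hL]
    change φ (pa c) ∈ nv t
    rw [e]
    exact h2
  rw [h1] at h3
  exact notMem_nv_zero _ h3

/-- The partial products. -/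
noncomputable def F {T : Over (Spec (CommRingCat.of k))} (c c' : ℕ → (T ⟶ Over.mk (X ↘ Spec (CommRingCat.of k))))
    (x₀ : 𝟙_ (Over (Spec (CommRingCat.of k))) ⟶ J) : ℕ → (T ⟶ J)
  | 0 => toUnit T ≫ x₀
  | m + 1 => (c m ≫ j) * ((c' m ≫ j)⁻¹ * F c c' x₀ m)

variable [IsAlgClosed k]

include hX hL in
theorem induct {T : Over (Spec (CommRingCat.of k))} [IrreducibleSpace T.left] [LocallyOfFiniteType T.hom]
    (c c' : ℕ → (T ⟶ Over.mk (X ↘ Spec (CommRingCat.of k)))) (x₀ : 𝟙_ (Over (Spec (CommRingCat.of k))) ⟶ J)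
    (τ₀ : 𝟙_ (Over (Spec (CommRingCat.of k))) ⟶ T) (z₀ : 𝟙_ (Over (Spec (CommRingCat.of k))) ⟶
      Over.mk (X ↘ Spec (CommRingCat.of k)))
    (hτ : ∀ i, τ₀ ≫ c i = z₀) (hτ' : ∀ i, τ₀ ≫ c' i = z₀) (B : Closeds J.left)
    (hB : ∀ b : 𝟙_ (Over (Spec (CommRingCat.of k))) ⟶ J, pa b ∉ B → h k X 0 (pl (j ≫ Jac.transl J b) (mk L hL)) ≤ 1)
    (hx₀ : pa ((z₀ ≫ j)⁻¹ * x₀) ∉ B) (s t : Γ(L, ⊤)) (hs : pa x₀ ∈ nv s) (ht : pa x₀ ∉ nv t) (m : ℕ)
    (τ : 𝟙_ (Over (Spec (CommRingCat.of k))) ⟶ T) : pa (τ ≫ F j c c' x₀ m) ∉ nv t := by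
  have hF₀ : ∀ m, τ₀ ≫ F j c c' x₀ m = x₀ := by
    intro m
    induction m with
    | zero =>
      have h1 : τ₀ ≫ toUnit T = 𝟙 _ := toUnit_unique _ _
      rw [F, ← Category.assoc, h1, Category.id_comp]
    | succ m ih =>
      rw [F, MonObj.comp_mul, MonObj.comp_mul, GrpObj.comp_inv, ih, ← Category.assoc, ← Category.assoc, hτ, hτ',
        mul_inv_cancel_left]
  induction m generalizing τ with
  | zero =>
    have h1 : τ ≫ toUnit T = 𝟙 _ := toUnit_unique _ _
    rw [F, ← Category.assoc, h1, Category.id_comp]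
    exact ht
  | succ m ih =>
    let G : T ⟶ J := (c' m ≫ j)⁻¹ * F j c c' x₀ m
    let A : Set T.left := (F j c c' x₀ (m + 1)).left ⁻¹' ((nv t : Set J.left)ᶜ)
    have hA : IsClosed A := ((nv t).isOpen.isClosed_compl).preimage (F j c c' x₀ (m + 1)).left.continuous
    let O : Set T.left := ((F j c c' x₀ m).left ⁻¹' (nv s : Set J.left)) ∩ (G.left ⁻¹' ((B : Set J.left)ᶜ))
    have hO : IsOpen O := ((nv s).isOpen.preimage (F j c c' x₀ m).left.continuous).inter
      (B.isClosed.isOpen_compl.preimage G.left.continuous)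
    have hτO : pa τ₀ ∈ O := by
      constructor
      · change (F j c c' x₀ m).left (pa τ₀) ∈ nv s
        rw [← pa_comp, hF₀]
        exact hs
      · change ¬ (G.left (pa τ₀) ∈ B)
        rw [← pa_comp]
        change ¬ (pa (τ₀ ≫ ((c' m ≫ j)⁻¹ * F j c c' x₀ m)) ∈ B)
        rw [MonObj.comp_mul, GrpObj.comp_inv, hF₀, ← Category.assoc, hτ']
        exact hx₀
    have hstep : ∀ τ : 𝟙_ (Over (Spec (CommRingCat.of k))) ⟶ T, pa τ ∈ O → pa τ ∈ A := by
      rintro τ ⟨h1, h2⟩
      change ¬ ((F j c c' x₀ (m + 1)).left (pa τ) ∈ nv t)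
      rw [← pa_comp, F, MonObj.comp_mul, ← Category.assoc]
      refine step hX j hL s t (τ ≫ ((c' m ≫ j)⁻¹ * F j c c' x₀ m)) (τ ≫ c' m) (τ ≫ c m) (hB _ ?_) ?_ ?_
      · rw [pa_comp]
        exact h2
      · rw [MonObj.comp_mul, GrpObj.comp_inv, ← Category.assoc, mul_inv_cancel_left, pa_comp]
        exact h1
      · rw [MonObj.comp_mul, GrpObj.comp_inv, ← Category.assoc, mul_inv_cancel_left]
        exact ih τ
    have huniv : (Set.univ : Set T.left) ⊆ A ∪ Oᶜ := by
      refine closed_subset isClosed_univ (hA.union hO.isClosed_compl) fun τ _ => ?_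
      by_cases hτ : pa τ ∈ O
      · exact Or.inl (hstep τ hτ)
      · exact Or.inr hτ
    have hirr := IrreducibleSpace.isIrreducible_univ T.left
    rcases (isPreirreducible_iff_isClosed_union_isClosed.1 hirr.2) A Oᶜ hA hO.isClosed_compl huniv with h1 | h1
    · have h2 := h1 (Set.mem_univ (pa τ))
      change ¬ ((F j c c' x₀ (m + 1)).left (pa τ) ∈ nv t) at h2
      rwa [← pa_comp] at h2
    · exact absurd hτO (h1 (Set.mem_univ (pa τ₀)))

omit [IsAlgClosed k] in
theorem comp_F [IsCommMonObj J] {T : Over (Spec (CommRingCat.of k))}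
    (c c' : ℕ → (T ⟶ Over.mk (X ↘ Spec (CommRingCat.of k)))) (x₀ : 𝟙_ (Over (Spec (CommRingCat.of k))) ⟶ J)
    (τ : 𝟙_ (Over (Spec (CommRingCat.of k))) ⟶ T) (m : ℕ) (h : ∀ i < m, τ ≫ c' i ≫ j = 1) :
    τ ≫ F j c c' x₀ m = (∏ i ∈ Finset.range m, (τ ≫ c i ≫ j)) * x₀ := by
  induction m with
  | zero =>
    have h1 : τ ≫ toUnit T = 𝟙 _ := toUnit_unique _ _
    rw [F, ← Category.assoc, h1, Category.id_comp, Finset.range_zero, Finset.prod_empty, one_mul]
  | succ m ih =>
    rw [F, MonObj.comp_mul, MonObj.comp_mul, GrpObj.comp_inv, h m (Nat.lt_succ_self m), inv_one, one_mul,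
      ih fun i hi => h i (hi.trans (Nat.lt_succ_self m)), Finset.prod_range_succ, ← mul_assoc,
      mul_comm (τ ≫ c m ≫ j)]

include hX hL in
/-- **Sections of a line bundle which restricts to general translates of a generating curve with `h⁰ ≤ 1`.** -/
theorem h0_eq_one [IsCommMonObj J] [IsProper J.hom] [GeometricallyIntegral J.hom]
    [GeometricallyIntegral (X ↘ Spec (CommRingCat.of k))]
    (z₀ : 𝟙_ (Over (Spec (CommRingCat.of k))) ⟶ Over.mk (X ↘ Spec (CommRingCat.of k))) (hz₀ : z₀ ≫ j = 1)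
    (m : ℕ) (hgen : ∀ y : 𝟙_ (Over (Spec (CommRingCat.of k))) ⟶ J,
      ∃ D : Fin m → (𝟙_ (Over (Spec (CommRingCat.of k))) ⟶ Over.mk (X ↘ Spec (CommRingCat.of k))),
        y = (List.ofFn fun i => D i ≫ j).prod)
    (B : Closeds J.left) (hBne : (B : Set J.left) ≠ Set.univ)
    (hB : ∀ b : 𝟙_ (Over (Spec (CommRingCat.of k))) ⟶ J, pa b ∉ B → h k X 0 (pl (j ≫ Jac.transl J b) (mk L hL)) ≤ 1)
    (s : Γ(L, ⊤)) (hs : s ≠ 0) :
    letI : J.left.Over (Spec (CommRingCat.of k)) := ⟨J.hom⟩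
    Module.finrank k (Coh.HH J.left L 0) = 1 := by
  let _ : J.left.Over (Spec (CommRingCat.of k)) := ⟨J.hom⟩
  have hint : IsIntegral J.left := GeometricallyIntegral.isIntegral_of_subsingleton J.hom
  have hprop := hX.proper
  have hnv : ((nv s : Set J.left)).Nonempty := by
    by_contra hne
    apply hs
    apply eq_zero_of_nv hL
    rw [Set.not_nonempty_iff_eq_empty] at hne
    exact TopologicalSpace.Opens.ext hne
  have hBc : ((B : Set J.left)ᶜ).Nonempty := Set.nonempty_compl.2 hBne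
  obtain ⟨x₀, hx₀s, hx₀B⟩ := exists_pa_mem (X := J)
    (nonempty_preirreducible_inter (nv s).isOpen B.isClosed.isOpen_compl hnv hBc)
    (((nv s).isOpen.inter B.isClosed.isOpen_compl).isLocallyClosed)
  -- the power
  let f := X ↘ Spec (CommRingCat.of k)
  let N : ℕ := 2 * m + 1
  let T : Over (Spec (CommRingCat.of k)) := Over.mk (WidePullback.base fun (_ : Fin N) => f)
  have hT : IsIntegral T.left := isIntegral_pow f N
  have hTp : IsProper T.hom := isProper_pow f N
  let c : ℕ → (T ⟶ Over.mk f) := fun i => pr f N (Fin.ofNat N i)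
  let c' : ℕ → (T ⟶ Over.mk f) := fun i => pr f N (Fin.ofNat N (m + i))
  let τ₀ : 𝟙_ (Over (Spec (CommRingCat.of k))) ⟶ T := tup fun _ => z₀
  have hval : ∀ t : Γ(L, ⊤), ∃ a : k, t = sc J.hom a • s := by
    intro t
    obtain ⟨a, ha⟩ := exists_sub J.hom x₀.left (w x₀) hL s t hx₀s
    refine ⟨a, ?_⟩
    have key : ∀ y : 𝟙_ (Over (Spec (CommRingCat.of k))) ⟶ J, pa y ∉ nv (t - sc J.hom a • s) := by
      intro y
      obtain ⟨D, hD⟩ := hgen (y * x₀⁻¹)
      let τ : 𝟙_ (Over (Spec (CommRingCat.of k))) ⟶ T := tup fun l : Fin N =>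
        if hl : (l : ℕ) < m then D ⟨l, hl⟩ else z₀
      have h1 := induct hX j hL c c' x₀ τ₀ z₀ (fun i => tup_pr _ _) (fun i => tup_pr _ _) B hB
        (by rw [hz₀, inv_one, one_mul]; exact hx₀B) s (t - sc J.hom a • s) hx₀s ha m τ
      have h2 : ∀ i < m, τ ≫ c' i ≫ j = 1 := by
        intro i hi
        have h3 : τ ≫ c' i = z₀ := by
          refine (tup_pr _ _).trans ?_
          have h4 : ((Fin.ofNat N (m + i) : Fin N) : ℕ) = m + i := Nat.mod_eq_of_lt (by omega)
          rw [dif_neg (by rw [h4]; omega)]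
        rw [← Category.assoc, h3, hz₀]
      rw [comp_F j c c' x₀ τ m h2] at h1
      have h5 : ∏ i ∈ Finset.range m, (τ ≫ c i ≫ j) = y * x₀⁻¹ := by
        rw [hD, List.prod_ofFn, Finset.prod_range]
        refine Finset.prod_congr rfl fun i _ => ?_
        rw [← Category.assoc]
        congr 1
        refine (tup_pr _ _).trans ?_
        have h4 : ((Fin.ofNat N (i : ℕ) : Fin N) : ℕ) = i := Nat.mod_eq_of_lt (by omega)
        rw [dif_pos (by rw [h4]; exact i.2)]
        congr 1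
        exact Fin.ext h4
      rw [h5, inv_mul_cancel_right] at h1
      exact h1
    have h1 : nv (t - sc J.hom a • s) = ⊥ := by
      by_contra hne
      have h2 : ((nv (t - sc J.hom a • s) : Set J.left)).Nonempty := by
        rw [Set.nonempty_iff_ne_empty]
        intro h3
        exact hne (TopologicalSpace.Opens.ext h3)
      obtain ⟨y, hy⟩ := exists_pa_mem (X := J) h2 (nv (t - sc J.hom a • s)).isOpen.isLocallyClosed
      exact key y hy
    exact sub_eq_zero.1 (eq_zero_of_nv hL _ h1)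
  have hs' : (secOf L).symm s ≠ 0 := fun h0 => hs (by
    have := congrArg (secOf L) h0
    rwa [AddEquiv.apply_symm_apply, map_zero] at this)
  refine finrank_eq_one ((secOf L).symm s) hs' fun w => ?_
  obtain ⟨a, ha⟩ := hval (secOf L w)
  refine ⟨a, (secOf L).injective ?_⟩
  rw [ha]
  change secOf L ((Coh.toGlobal (J.left ↘ Spec (CommRingCat.of k)) a) • ((secOf L).symm s)) = _
  rw [secOf_smul, AddEquiv.apply_symm_apply]
  rfl

end step

end K532.H0Gen
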