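import Groth.Agent.JacVar.K532.ThetaAmple
import Groth.Agent.JacVar.K532.H0Gen

/-!
# `h⁰(J, Θ) = 1`

`k` algebraically closed, `Θ_J` the theta line bundle on the Jacobian attached to `N` of degree `g - 1`.
-/

set_option autoImplicit false
universe u
open CategoryTheory CategoryTheory.Limits AlgebraicGeometry MonoidalCategory CartesianMonoidalCategory
open TopologicalSpace
open scoped MonObj

namespace K532.ThetaH0

open Groth.Agent Groth.Agent.Grpsch.PicGrp Groth.Agent.Fga.RigGrp Groth.Agent.Sga7.H732.Hedge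
open Groth.Agent.Sga7.H732 K532.UnitBase K532.CurvePic K532.CurvePts K532.Dict Groth.Agent.Fga.JacSum
open Groth.Agent.Fga.JacFactor K532.Setup K532.KPts K532.Wr K532.MultPts K532.Theta1 Groth.Agent.Grpsch.Cube
open K532.NonHyp K532.ThetaClass Groth.Agent.Divis.EffCartier K532.ThetaIdeal K532.Lam K532.ThetaAmple K532.H0Gen

section curve

variable {k : Type u} [Field k] [IsAlgClosed k] {C : Scheme.{u}} [C.Over (Spec (CommRingCat.of k))] (hX : IsCurve k C)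
  {σ : Spec (CommRingCat.of k) ⟶ C} {hσ : σ ≫ (C ↘ Spec (CommRingCat.of k)) = 𝟙 (Spec (CommRingCat.of k))}
  {J : Over (Spec (CommRingCat.of k))} [GrpObj J] {ξ : Pic (PicF.XT (C ↘ Spec (CommRingCat.of k)) J)}
  (h : IsJac (C ↘ Spec (CommRingCat.of k)) σ hσ J ξ) [IsProper (C ↘ Spec (CommRingCat.of k))] [IsProper J.hom]
  [GeometricallyIntegral J.hom] [IsCommMonObj J]
  [SmoothOfRelativeDimension 1 (C ↘ Spec (CommRingCat.of k))]
  {j : Over.mk (C ↘ Spec (CommRingCat.of k)) ⟶ J} (hj : IsAbel h j)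

omit [GeometricallyIntegral J.hom] in
include hX hj in
/-- The bad locus. -/
theorem exists_bad {n : ℕ} (hn : gen k C = n + 1) (ν : 𝟙_ (Over (Spec (CommRingCat.of k))) ⟶ J) :
    ∃ B : Closeds J.left, (B : Set J.left) ≠ Set.univ ∧
      ∀ b : 𝟙_ (Over (Spec (CommRingCat.of k))) ⟶ J, pa b ∉ B →
        CurvePic.h k C 0 (kcl h (b * ν⁻¹) * (pcl hX (sg hσ) ^ (n + 1))⁻¹) ≤ 1 := by
  set q := pcl hX (sg hσ) with hq
  obtain ⟨κ, hκ⟩ := exists_kcl hX h (c := om hX * q ^ (2 * n)) (by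
    rw [deg_mul hX, deg_pow hX, deg_om hX, hq, deg_pcl, hn]
    push_cast
    ring)
  have hcomp : ∀ b : 𝟙_ (Over (Spec (CommRingCat.of k))) ⟶ J, b ≫ rho (κ * ν) = κ * ν * b⁻¹ := by
    intro b
    have h1 : toUnit (𝟙_ (Over (Spec (CommRingCat.of k)))) = 𝟙 _ := toUnit_unique _ _
    rw [comp_rho, h1, Category.id_comp]
  refine ⟨⟨(rho (κ * ν)).left ⁻¹' W j (n - 1), (isClosed_W j (n - 1)).preimage (rho (κ * ν)).left.continuous⟩, ?_, ?_⟩
  · intro huniv
    obtain ⟨a, ha⟩ := ThetaCartier.exists_notMem_W hX h hj hn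
    have hWa : pa a ∉ W j (n - 1) := by
      rw [mem_W_iff_h0 hX h hj] at ha ⊢
      rcases Nat.eq_zero_or_pos n with rfl | hpos
      · exact ha
      · obtain ⟨m, rfl⟩ : ∃ m, n = m + 1 := ⟨n - 1, by omega⟩
        have h1 : kcl h a * (pcl hX (sg hσ))⁻¹ ^ (m + 1 - 1) =
            kcl h a * (pcl hX (sg hσ))⁻¹ ^ (m + 1) * pcl hX (sg hσ) := by
          rw [Nat.add_sub_cancel, pow_succ, mul_assoc, inv_mul_cancel_right]
        rw [h1]
        have h2 := h0_mul_pcl_le hX (kcl h a * (pcl hX (sg hσ))⁻¹ ^ (m + 1)) (sg hσ)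
        omega
    have h2 : pa (a⁻¹ * (κ * ν)) ∈ (rho (κ * ν)).left ⁻¹' W j (n - 1) := by
      have := Set.mem_univ (pa (a⁻¹ * (κ * ν)))
      rw [← huniv] at this
      exact this
    have h3 : (rho (κ * ν)).left (pa (a⁻¹ * (κ * ν))) = pa a := by
      rw [← pa_comp, hcomp, mul_inv_rev, inv_inv, mul_inv_cancel_left]
    change (rho (κ * ν)).left (pa (a⁻¹ * (κ * ν))) ∈ W j (n - 1) at h2
    rw [h3] at h2
    exact hWa h2
  · intro b hb
    have h1 : pa (κ * ν * b⁻¹) ∉ W j (n - 1) := by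
      intro h2
      apply hb
      change (rho (κ * ν)).left (pa b) ∈ W j (n - 1)
      rwa [← pa_comp, hcomp]
    rw [mem_W_iff_h0 hX h hj, ← hq] at h1
    set c := kcl h (b * ν⁻¹) * (q ^ (n + 1))⁻¹ with hc
    have hdc : deg k C c = n + 1 := by
      rw [hc, deg_mul hX, deg_kcl hX h, deg_inv hX, deg_pow hX, hq, deg_pcl]
      push_cast
      ring
    have hrr := rr' hX c
    rw [hdc, hn] at hrr
    have h0 : CurvePic.h k C 0 (om hX * c⁻¹) = 0 := by
      rcases Nat.eq_zero_or_pos n with rfl | hpos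
      · by_contra hne
        have h2 := h0_le_deg hX (Nat.pos_of_ne_zero hne)
        rw [deg_mul hX, deg_om hX, deg_inv hX, hdc, hn] at h2
        push_cast at h2
        omega
      · obtain ⟨m, rfl⟩ : ∃ m, n = m + 1 := ⟨n - 1, by omega⟩
        have h2 : om hX * c⁻¹ = kcl h (κ * ν * b⁻¹) * q⁻¹ ^ (m + 1 - 1) := by
          have e1 : kcl h (κ * ν * b⁻¹) = kcl h κ * (kcl h (b * ν⁻¹))⁻¹ := by
            rw [← map_inv, ← map_mul, mul_inv_rev, inv_inv, mul_assoc]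
          have e2 : q ^ (2 * (m + 1)) = q ^ (m + 1 + 1) * q ^ m := by
            rw [← pow_add]; congr 1; omega
          rw [e1, hκ, hc, Nat.add_sub_cancel, inv_pow, e2]
          cgroup
        rw [h2]
        omega
    omega

variable {hdim : topologicalKrullDim C = 1} {ψ : (ModFun.PicDeg (C ↘ Spec (CommRingCat.of k)) 0).Hom ⊤ J}
  (hψ : Compat (C ↘ Spec (CommRingCat.of k)) hdim σ hσ J ψ ξ) [Smooth (C ↘ Spec (CommRingCat.of k))]
  [GeometricallyConnected (C ↘ Spec (CommRingCat.of k))]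

omit [GeometricallyIntegral J.hom] [IsProper J.hom] [IsAlgClosed k] [IsProper (C ↘ Spec (CommRingCat.of k))]
  [SmoothOfRelativeDimension 1 (C ↘ Spec (CommRingCat.of k))] [Smooth (C ↘ Spec (CommRingCat.of k))]
  [GeometricallyConnected (C ↘ Spec (CommRingCat.of k))] in
theorem rho_transl (ν b : 𝟙_ (Over (Spec (CommRingCat.of k))) ⟶ J) :
    ((j ≫ (𝟙 J)⁻¹) ≫ Jac.transl J b) ≫ rho ν = j ≫ Jac.transl J (b * ν⁻¹)⁻¹ := by
  have e1 : (j ≫ (𝟙 J)⁻¹) ≫ Jac.transl J b = j⁻¹ * (toUnit _ ≫ b) := by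
    rw [comp_transl, GrpObj.comp_inv, Category.comp_id]
  rw [e1, comp_rho, comp_transl, mul_inv_rev, mul_inv_rev, inv_inv, inv_inv, MonObj.comp_mul, GrpObj.comp_inv]
  rw [← mul_assoc, mul_comm]

include hX hj hψ in
theorem h0_theta {n : ℕ} (hn : gen k C = n + 1) {N : C.Modules} (hN : PicF.IsInvertible N)
    (hbase : (Over.homMk σ hσ : 𝟙_ (Over (Spec (CommRingCat.of k))) ⟶ Over.mk (C ↘ Spec (CommRingCat.of k))) ≫ j = 1)
    (hdeg : deg k C (mk N hN) = (gen k C : ℤ) - 1) {ΘJ : J.left.Modules}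
    (hΘJ : Jac.IsThetaLB (C ↘ Spec (CommRingCat.of k)) 0 ψ N ΘJ)
    (s : Γ(ΘJ, ⊤)) (hs : s ≠ 0) :
    letI : J.left.Over (Spec (CommRingCat.of k)) := ⟨J.hom⟩
    Module.finrank k (Coh.HH J.left ΘJ 0) = 1 := by
  have hE := ThetaCartier.isEff_theta hX h hj hn
  have hgi : GeometricallyIntegral (C ↘ Spec (CommRingCat.of k)) := Base.geometricallyIntegral _
  obtain ⟨ν, hν⟩ := mk_theta hX h hj hψ hn hE hN hdeg hΘJ
  obtain ⟨B, hB1, hB2⟩ := exists_bad hX h hj hn ν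
  refine h0_eq_one hX (j ≫ (𝟙 J)⁻¹) hΘJ.1 (Over.homMk σ hσ) ?_ (n + 1) ?_ B hB1 ?_ s hs
  · rw [← Category.assoc, hbase, GrpObj.comp_inv, Category.comp_id, inv_one]
  · intro y
    obtain ⟨D, hD⟩ := exists_D hX h hj hn y⁻¹
    refine ⟨fun i => pm _ (D i).1 (D i).2, ?_⟩
    rw [← inv_inv y, hD, List.prod_ofFn, List.prod_ofFn, ← Finset.prod_inv_distrib]
    refine Finset.prod_congr rfl fun i _ => ?_
    rw [← Category.assoc, GrpObj.comp_inv, Category.comp_id]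
  · intro b hb
    have h1 : pl ((j ≫ (𝟙 J)⁻¹) ≫ Jac.transl J b) (mk ΘJ hΘJ.1) =
        kcl h (b * ν⁻¹) * (pcl hX (sg hσ) ^ (n + 1))⁻¹ := by
      rw [hν, ← pl_comp, rho_transl]
      have h2 := Fc_theta hX h hj hn hbase hE (b * ν⁻¹)
      rw [mul_inv_eq_iff_eq_mul, Fc_theta_one hX h hj hn hbase hE] at h2
      exact h2
    rw [h1]
    exact hB2 b hb

end curve

section frozen

variable {k : Type u} [Field k] [IsAlgClosed k] {C : Scheme.{u}} [C.Over (Spec (CommRingCat.of k))]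
    [IsProper (C ↘ Spec (CommRingCat.of k))] [Smooth (C ↘ Spec (CommRingCat.of k))]
    [GeometricallyConnected (C ↘ Spec (CommRingCat.of k))] (hdim : topologicalKrullDim ↥C = 1)
    {J : Over (Spec (CommRingCat.of k))} [GrpObj J]
    {ψ : (ModFun.PicDeg (C ↘ Spec (CommRingCat.of k)) 0).Hom ⊤ J} [IsCommMonObj J]

include hdim in
/-- **`h⁰(J, Θ) = 1`.** -/
theorem theta_h0 (hJ : Jac.IsJacobian (C ↘ Spec (CommRingCat.of k)) ⊤ J ψ)
    (g : ℕ) (hg : Curv2.genus k C = g) (hg1 : 1 ≤ g)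
    (N : C.Modules) (hN : PicF.IsInvertible N) (hNdeg : Curv2.deg k C N 1 = (g : ℤ) - 1)
    (ΘJ : J.left.Modules) (hΘJ : Jac.IsThetaLB (C ↘ Spec (CommRingCat.of k)) 0 ψ N ΘJ) :
    letI : J.left.Over (Spec (CommRingCat.of k)) := ⟨J.hom⟩
    Module.finrank k (Coh.HH J.left ΘJ 0) = 1 := by
  obtain ⟨hX, hp, hgi, hs, σ, hσ, ξ, h, j, hj, hψ, hbase⟩ := exists_setup hdim hJ
  obtain ⟨s, hs0, -⟩ := theta_sec hdim hJ N ΘJ hΘJ
  have hn : gen k C = (g - 1) + 1 := by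
    change Curv2.genus k C = _
    omega
  have hdeg : deg k C (mk N hN) = (gen k C : ℤ) - 1 := by
    rw [deg_mk k C hdim, hNdeg, ← hg]
  refine h0_theta hX h hj hψ hn hN hbase hdeg hΘJ (Groth.Agent.Fdesc.LocGen.sec s ⊤) ?_
  intro h0
  apply hs0
  rw [← Groth.Agent.Fdesc.LocGen.homOf_sec s, h0]
  exact homOf_zero

end frozen

end K532.ThetaH0
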