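import Groth.Agent.JacVar.K532.SecMul
import Groth.Agent.Etcore.DegZero
import Groth.Agent.S1612
import Groth.Agent.S1518
import Groth.Agent.S1520
import Groth.Agent.S1564
import Groth.Agent.VarietyA.CurveFin
import Groth.Agent.CurvesB.OmegaInv

/-!
# Cohomology of classes of invertible modules on a smooth proper curve

For a smooth proper curve `X` over a field `k` with `H⁰(X, O) = k`:
* `h k X i c`: the dimension of `H^i` of a class `c : Pic X`; `deg k X c`: its degree; `om`: the class of `Ω`.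
* `rr`: Riemann-Roch; `serre`: `h¹(c) = h⁰(ω c⁻¹)`.
* `h0_le_mul`, `h1_mul_le`: monotonicity under multiplication by effective classes.
-/

set_option autoImplicit false
universe u
open CategoryTheory CategoryTheory.Limits AlgebraicGeometry Opposite TopologicalSpace

namespace K532.CurvePic

open Groth.Agent Groth.Agent.Grpsch.PicGrp Groth.Agent.VarietyA.CurveLin K532.SecMul
open Groth.Agent.Fdesc.LocGen

section defs

variable (k : Type u) [Field k] (X : Scheme.{u}) [X.Over (Spec (CommRingCat.of k))]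

/-- The dimension of `H^i` of a class. -/
noncomputable def h (i : ℕ) (c : Pic X) : ℕ :=
  Quotient.lift (s := isoSetoid X) (fun L => Module.finrank k (Coh.HH X L.1 i))
    (fun _ _ ⟨e⟩ => (CurvesA.HHMap.equivOver k e i).finrank_eq) c

theorem h_mk (i : ℕ) {L : X.Modules} (hL : PicF.IsInvertible L) :
    h k X i (mk L hL) = Module.finrank k (Coh.HH X L i) := rfl

/-- The degree of a class. -/
noncomputable abbrev deg (c : Pic X) : ℤ := Etcore.DegZero.dg k X c

/-- The genus. -/
noncomputable abbrev gen : ℕ := Curv2.genus k X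

theorem deg_mk [IsProper (X ↘ (Spec (CommRingCat.of k)))] (hdim : topologicalKrullDim X = 1) {L : X.Modules}
    (hL : PicF.IsInvertible L) : deg k X (mk L hL) = Curv2.deg k X L 1 := by
  rw [deg, Etcore.DegZero.dg_mk, Etcore.DegZero.eulerCharLE_eq k X hdim, Etcore.DegZero.eulerCharLE_eq k X hdim,
    Curv2.deg]
  push_cast
  ring

theorem gen_eq : (gen k X : ℤ) = Module.finrank k (Coh.HH X (Coh.structureModule X) 1) := rfl

end defs

/-- A smooth proper curve over a field with only the constants as global functions. -/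
structure IsCurve (k : Type u) [Field k] (X : Scheme.{u}) [X.Over (Spec (CommRingCat.of k))] : Prop where
  curve : Curve.IsSmoothProperCurve k X (X ↘ (Spec (CommRingCat.of k)))
  h0 : Module.finrank k (Coh.HH X (Coh.structureModule X) 0) = 1

theorem isCurve_of_isAlgClosed (k : Type u) [Field k] [IsAlgClosed k] (X : Scheme.{u})
    [X.Over (Spec (CommRingCat.of k))] (hX : Curve.IsSmoothProperCurve k X (X ↘ (Spec (CommRingCat.of k)))) :
    IsCurve k X := by
  refine ⟨hX, ?_⟩
  obtain ⟨h1, h2, h3, h4⟩ := hX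
  exact VarietyA.CurveFin.finrank_h0_structure k X

section basic

variable {k : Type u} [Field k] {X : Scheme.{u}} [X.Over (Spec (CommRingCat.of k))] (hX : IsCurve k X)

include hX

theorem IsCurve.proper : IsProper (X ↘ (Spec (CommRingCat.of k))) := hX.curve.1

theorem IsCurve.smooth : Smooth (X ↘ (Spec (CommRingCat.of k))) := hX.curve.2.1

theorem IsCurve.integral : IsIntegral X := hX.curve.2.2.1

theorem IsCurve.dim : topologicalKrullDim X = 1 := hX.curve.2.2.2

theorem IsCurve.noeth : IsNoetherian X :=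
  have := hX.proper
  CurvesC.CurveCoh.noetherianSpace k X

theorem finite_HH {L : X.Modules} (hL : PicF.IsInvertible L) (i : ℕ) : Module.Finite k (Coh.HH X L i) :=
  have := hX.proper
  have := hX.integral
  VarietyA.CurveFin.finite_HH k X hL i

theorem deg_mul (a b : Pic X) : deg k X (a * b) = deg k X a + deg k X b :=
  have := hX.proper
  have := hX.integral
  Etcore.DegZero.dg_mul k X hX.dim a b

theorem deg_inv (a : Pic X) : deg k X a⁻¹ = - deg k X a :=
  have := hX.proper
  have := hX.integral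
  Etcore.DegZero.dg_inv k X hX.dim a

omit hX in
theorem deg_one : deg k X 1 = 0 := Etcore.DegZero.dg_one k X

theorem deg_pow (a : Pic X) (n : ℕ) : deg k X (a ^ n) = n * deg k X a :=
  have := hX.proper
  have := hX.integral
  Etcore.DegZero.dg_pow k X hX.dim a n

theorem deg_prod {ι : Type*} (s : Finset ι) (a : ι → Pic X) :
    deg k X (∏ i ∈ s, a i) = ∑ i ∈ s, deg k X (a i) := by
  classical
  induction s using Finset.induction_on with
  | empty => rw [Finset.prod_empty, Finset.sum_empty, deg_one]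
  | insert i s hi ih => rw [Finset.prod_insert hi, Finset.sum_insert hi, deg_mul hX, ih]

/-- Riemann-Roch. -/
theorem rr (c : Pic X) : (h k X 0 c : ℤ) - h k X 1 c = deg k X c + 1 - gen k X := by
  have := hX.proper
  obtain ⟨L, hL, rfl⟩ := exists_mk c
  rw [deg_mk k X hX.dim hL, h_mk, h_mk, Curv2.deg]
  rw [CurvesC.CurveCoh.euler_eq k X hX.dim, CurvesC.CurveCoh.euler_eq k X hX.dim, hX.h0]
  rw [gen_eq]
  push_cast
  ring

theorem nontrivial_iff {L : X.Modules} (hL : PicF.IsInvertible L) (i : ℕ) :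
    Nontrivial (Coh.HH X L i) ↔ 0 < h k X i (mk L hL) := by
  have := finite_HH hX hL i
  rw [h_mk, Module.finrank_pos_iff]

theorem exists_ne_zero {L : X.Modules} (hL : PicF.IsInvertible L) {i : ℕ} (hpos : 0 < h k X i (mk L hL)) :
    ∃ s : Coh.HH X L i, s ≠ 0 := by
  have := (nontrivial_iff hX hL i).2 hpos
  exact exists_ne 0

/-- Multiplication by a nonzero section is injective on `H⁰`. -/
theorem h0_le_mul (c d : Pic X) (hd : 0 < h k X 0 d) : h k X 0 c ≤ h k X 0 (c * d) := by
  have := hX.integral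
  obtain ⟨N, hN, rfl⟩ := exists_mk c
  obtain ⟨M, hM, rfl⟩ := exists_mk d
  obtain ⟨s, hs⟩ := exists_ne_zero hX hM hd
  have := finite_HH hX (isInvertible_tensorMod hN hM) 0
  rw [mk_mul_mk, h_mk, h_mk]
  exact LinearMap.finrank_le_finrank_of_injective (mulPair_injective k hN hM hs)

/-- Multiplication by a nonzero section is surjective on `H¹`. -/
theorem h1_mul_le (c d : Pic X) (hd : 0 < h k X 0 d) : h k X 1 (c * d) ≤ h k X 1 c := by
  have := hX.integral
  have := hX.noeth
  obtain ⟨N, hN, rfl⟩ := exists_mk c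
  obtain ⟨M, hM, rfl⟩ := exists_mk d
  obtain ⟨s, hs⟩ := exists_ne_zero hX hM hd
  have := finite_HH hX hN 1
  rw [mk_mul_mk, h_mk, h_mk]
  exact LinearMap.finrank_le_finrank_of_surjective (mulPair_surjective k hX.dim.le hN hM hs)

theorem h0_le_h1 (c d : Pic X) (hcd : 0 < h k X 1 (c * d)) : h k X 0 d ≤ h k X 1 c := by
  have := hX.integral
  have := hX.noeth
  obtain ⟨N, hN, rfl⟩ := exists_mk c
  obtain ⟨M, hM, rfl⟩ := exists_mk d
  have := finite_HH hX hN 1
  rw [mk_mul_mk] at hcd
  have := (nontrivial_iff hX (isInvertible_tensorMod hN hM) 1).2 hcd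
  rw [h_mk, h_mk]
  exact finrank_h0_le_h1 k hX.dim.le hN hM

theorem h0_mul_pos {c d : Pic X} (hc : 0 < h k X 0 c) (hd : 0 < h k X 0 d) : 0 < h k X 0 (c * d) :=
  hc.trans_le (h0_le_mul hX c d hd)

theorem h0_one : h k X 0 1 = 1 := by
  rw [one_def, h_mk, hX.h0]

theorem h0_pow_pos {c : Pic X} (hc : 0 < h k X 0 c) (n : ℕ) : 0 < h k X 0 (c ^ n) := by
  induction n with
  | zero => rw [pow_zero, h0_one hX]; exact Nat.one_pos
  | succ n ih => rw [pow_succ]; exact h0_mul_pos hX ih hc

theorem h0_prod_pos {ι : Type*} (s : Finset ι) (c : ι → Pic X) (hc : ∀ i ∈ s, 0 < h k X 0 (c i)) :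
    0 < h k X 0 (∏ i ∈ s, c i) := by
  classical
  induction s using Finset.induction_on with
  | empty => rw [Finset.prod_empty, h0_one hX]; exact Nat.one_pos
  | insert i s hi ih =>
    rw [Finset.prod_insert hi]
    exact h0_mul_pos hX (hc i (Finset.mem_insert_self _ _)) (ih fun j hj => hc j (Finset.mem_insert_of_mem hj))

theorem exists_hom_ne_zero {L : X.Modules} (hL : PicF.IsInvertible L) (hpos : 0 < h k X 0 (mk L hL)) :
    ∃ s : Coh.structureModule X ⟶ L, s ≠ 0 := by
  obtain ⟨s, hs⟩ := exists_ne_zero hX hL hpos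
  refine ⟨homOf (secOf L s), fun h0 => hs ?_⟩
  apply (secOf L).map_eq_zero_iff.mp
  have h1 : sec (homOf (secOf L s)) ⊤ = secOf L s := by simp
  rw [← h1, h0]
  rfl

theorem deg_nonneg {c : Pic X} (hc : 0 < h k X 0 c) : 0 ≤ deg k X c := by
  have := hX.integral
  have := hX.proper
  obtain ⟨L, hL, rfl⟩ := exists_mk c
  obtain ⟨s, hs⟩ := exists_hom_ne_zero hX hL hc
  rw [deg_mk k X hX.dim hL]
  exact S1518.result k X hX.dim L hL s hs

theorem h0_eq_zero_of_deg_neg {c : Pic X} (hc : deg k X c < 0) : h k X 0 c = 0 := by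
  by_contra h0
  have := deg_nonneg hX (Nat.pos_of_ne_zero h0)
  omega

theorem eq_one_of_deg_nonpos {c : Pic X} (hc : 0 < h k X 0 c) (hd : deg k X c ≤ 0) : c = 1 := by
  have := hX.integral
  have := hX.proper
  obtain ⟨L, hL, rfl⟩ := exists_mk c
  obtain ⟨s, hs⟩ := exists_hom_ne_zero hX hL hc
  rw [deg_mk k X hX.dim hL] at hd
  exact (mk_eq_one_iff hL).2 (S1520.result k X hX.dim L hL s hs hd)

theorem h0_le_deg {c : Pic X} (hc : 0 < h k X 0 c) : (h k X 0 c : ℤ) ≤ deg k X c + 1 := by
  have := hX.integral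
  have := hX.proper
  obtain ⟨L, hL, rfl⟩ := exists_mk c
  rw [deg_mk k X hX.dim hL]
  exact (S1564.result k X hX.dim hX.h0 L hL ((nontrivial_iff hX hL 0).2 hc)).1

theorem gen_eq_zero_of_h0_eq {c : Pic X} (hc : 0 < h k X 0 c) (h1 : (h k X 0 c : ℤ) = deg k X c + 1)
    (h2 : 0 < deg k X c) : gen k X = 0 := by
  have := hX.integral
  have := hX.proper
  obtain ⟨L, hL, rfl⟩ := exists_mk c
  rw [deg_mk k X hX.dim hL] at h1 h2
  exact (S1564.result k X hX.dim hX.h0 L hL ((nontrivial_iff hX hL 0).2 hc)).2 h1 h2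

end basic

section omega

variable {k : Type u} [Field k] {X : Scheme.{u}} [X.Over (Spec (CommRingCat.of k))] (hX : IsCurve k X)

include hX in
theorem isInvertible_omega : PicF.IsInvertible (Omega.sheaf (X ↘ (Spec (CommRingCat.of k)))) := by
  have := hX.integral
  have := hX.proper
  have := hX.smooth
  exact CurvesB.OmegaInv.isInvertible_omega _ hX.dim

/-- The canonical class. -/
noncomputable def om : Pic X := mk (Omega.sheaf (X ↘ (Spec (CommRingCat.of k)))) (isInvertible_omega hX)

theorem h0_om : h k X 0 (om hX) = gen k X := (S1612.result k X hX.curve hX.h0).1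

theorem deg_om : deg k X (om hX) = 2 * (gen k X : ℤ) - 2 := by
  have := hX.proper
  rw [om, deg_mk k X hX.dim]
  exact (S1612.result k X hX.curve hX.h0).2

theorem h1_om : h k X 1 (om hX) = 1 := by
  have h1 := rr hX (om hX)
  rw [h0_om, deg_om] at h1
  omega

theorem h0_om_mul_inv_le (c : Pic X) : h k X 0 (om hX * c⁻¹) ≤ h k X 1 c := by
  apply h0_le_h1 hX
  rw [mul_comm, inv_mul_cancel_right, h1_om]
  exact Nat.one_pos

/-- Serre duality. -/
theorem serre (c : Pic X) : h k X 1 c = h k X 0 (om hX * c⁻¹) := by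
  have h1 := h0_om_mul_inv_le hX c
  have h2 := h0_om_mul_inv_le hX (om hX * c⁻¹)
  rw [show om hX * (om hX * c⁻¹)⁻¹ = c by rw [mul_inv_rev, inv_inv, mul_comm c, mul_inv_cancel_left]] at h2
  have h3 := rr hX c
  have h4 := rr hX (om hX * c⁻¹)
  rw [deg_mul hX, deg_inv hX, deg_om] at h4
  omega

theorem rr' (c : Pic X) : (h k X 0 c : ℤ) - h k X 0 (om hX * c⁻¹) = deg k X c + 1 - gen k X := by
  rw [← serre hX, rr hX]

end omega

end K532.CurvePic
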