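import Groth.Agent.Grpsch.PicGrp
import Groth.Agent.Picfga.ZeroHom
import Groth.Agent.VarietyA.CurveLin

/-!
# Multiplication by sections of invertible modules on cohomology

* `secOf_hmap`: naturality of `H⁰ = Γ`.
* `mulPair k N M n : H⁰(M) →ₗ (H^n(N) →ₗ H^n(N ⊗ M))`.
* `mulPair_injective`, `mulPair_surjective`: on an integral curve, multiplication by a nonzero section is injective
  on `H⁰` and surjective on `H¹`.
* `finrank_h0_le_h1`: `h⁰(M) ≤ h¹(N)` if `H¹(N ⊗ M) ≠ 0`.
-/

set_option autoImplicit false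
universe u
open CategoryTheory CategoryTheory.Limits AlgebraicGeometry Opposite TopologicalSpace

namespace K532.SecMul

open Groth.Agent Groth.Agent.Grpsch.PicGrp Groth.Agent.Picfga.ZeroHom Groth.Agent.VarietyA.CurveLin
open Groth.Agent.CohqB.HSeqMod Groth.Agent.Fdesc.LocGen

variable {X : Scheme.{u}}

theorem secOf_hmap {M N : X.Modules} (φ : M ⟶ N) (x : Coh.HH X M 0) :
    secOf N (hmap φ 0 x) = φ.app ⊤ (secOf M x) :=
  (Sheaf.H.equiv₀_naturality (VarietyA.H0Equiv.isTerminalTop X)
    ((SheafOfModules.toSheaf X.ringCatSheaf).map φ) x).symm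

theorem hom_ext' {F G : X.Modules} {φ ψ : F ⟶ G} (h : ∀ (U : X.Opens) (x : Γ(F, U)), φ.app U x = ψ.app U x) :
    φ = ψ := by
  apply Scheme.Modules.hom_ext
  intro U
  ext x
  exact h U x

theorem add_app' {F G : X.Modules} (φ ψ : F ⟶ G) (U : X.Opens) (x : Γ(F, U)) :
    (φ + ψ).app U x = φ.app U x + ψ.app U x := rfl

theorem mulSec_add (N : X.Modules) {M : X.Modules} (s t : Γ(M, ⊤)) :
    mulSec N (s + t) = mulSec N s + mulSec N t := by
  refine hom_ext' fun U x => ?_
  rw [add_app', mulSec_app, mulSec_app, mulSec_app, map_add, tmul_add]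

theorem mulSec_smul (N : X.Modules) {M : X.Modules} (c : Coh.Γtop X) (s : Γ(M, ⊤)) :
    mulSec N ((show Γ(X, ⊤) from c) • s) = mulSec N s ≫ Formal.smulModΓ _ c := by
  refine hom_ext' fun U x => ?_
  rw [mulSec_app, res_smul, tmul_smul]
  rfl

variable (k : Type u) [Field k] [X.Over (Spec (CommRingCat.of k))]

/-- Multiplication `H⁰(M) × H^n(N) → H^n(N ⊗ M)`. -/
noncomputable def mulPair (N M : X.Modules) (n : ℕ) :
    Coh.HH X M 0 →ₗ[k] (Coh.HH X N n →ₗ[k] Coh.HH X (CohB1.tensorMod N M) n) where
  toFun s := hmapₗ k (mulSec N (secOf M s)) n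
  map_add' s t := by
    ext x
    rw [map_add, mulSec_add]
    exact hmap_add_apply _ _ _ _
  map_smul' c s := by
    ext x
    have h : secOf M (c • s) =
      (show Γ(X, ⊤) from Coh.toGlobal (X ↘ Spec (CommRingCat.of k)) c) • secOf M s :=
      secOf_smul M _ s
    rw [h, mulSec_smul]
    exact hmap_comp_apply _ _ _ _

theorem mulPair_apply (N M : X.Modules) (n : ℕ) (s : Coh.HH X M 0) (x : Coh.HH X N n) :
    mulPair k N M n s x = hmap (mulSec N (secOf M s)) n x := rfl

section integral

variable [IsIntegral X]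

/-- A nonzero section generates over a nonempty open. -/
theorem exists_isGen {M : X.Modules} (hM : PicF.IsInvertible M) {s : Γ(M, ⊤)} (hs : s ≠ 0) :
    ∃ W : X.Opens, (W : Set X).Nonempty ∧ IsGen (res M (le_top : W ≤ ⊤) s) := by
  by_contra hcon
  push Not at hcon
  apply hs
  rw [isInvertible_iff] at hM
  choose U e hx he using hM
  refine res_ext M U (fun _ => le_top) (fun x _ => Opens.mem_iSup.2 ⟨x, hx x⟩) (fun x => ?_)
  obtain ⟨a, ha⟩ := (he x).exists_eq (res M le_top s)
  by_cases ha0 : a = 0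
  · rw [ha, ha0, zero_smul, map_zero]
  · exfalso
    have hne : ((X.basicOpen a : X.Opens) : Set X).Nonempty := by
      rw [Set.nonempty_iff_ne_empty]
      intro h
      apply ha0
      exact (basicOpen_eq_bot_iff a).1 (TopologicalSpace.Opens.ext h)
    refine hcon (X.basicOpen a) hne ?_
    have h1 : res M (le_top : X.basicOpen a ≤ ⊤) s = ores (X.basicOpen_le a) a • res M (X.basicOpen_le a) (e x) := by
      rw [← res_smul, ← ha, res_res]
    rw [h1]
    exact ((he x).res _).unit_smul (RingedSpace.isUnit_res_basicOpen _ a)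

omit [IsIntegral X] in
theorem mulSec_app_bijective {N M : X.Modules} (hN : PicF.IsInvertible N) {s : Γ(M, ⊤)} {W : X.Opens}
    (hW : IsGen (res M (le_top : W ≤ ⊤) s)) : Function.Bijective ((mulSec N s).app W) := by
  rw [isInvertible_iff] at hN
  choose U e hx he using hN
  have hc : W ≤ ⨆ x, W ⊓ U x := fun x hxW => Opens.mem_iSup.2 ⟨x, hxW, hx x⟩
  have hb : ∀ (x : X) (V : X.Opens) (hV : V ≤ W ⊓ U x), Function.Bijective ((mulSec N s).app V) := by
    intro x V hV
    have h1 : IsGen (res N (hV.trans inf_le_right) (e x)) := (he x).res _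
    have h2 : IsGen (res M (le_top : V ≤ ⊤) s) := by
      have := hW.res (hV.trans inf_le_left)
      rwa [res_res] at this
    have h3 : IsGen ((mulSec N s).app V (res N (hV.trans inf_le_right) (e x))) := by
      rw [mulSec_app]
      exact h1.tmul h2
    rw [← h1.bijective.of_comp_iff]
    convert h3.bijective using 1
    funext a
    simp only [Function.comp_apply]
    rw [Scheme.Modules.Hom.app_smul]
  constructor
  · intro a b hab
    refine res_ext N (fun x => W ⊓ U x) (fun x => inf_le_left) hc fun x => ?_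
    apply (hb x _ le_rfl).1
    rw [app_res, app_res]
    exact congrArg _ hab
  · intro n
    choose t ht using fun x => (hb x _ le_rfl).2 (res _ (inf_le_left : W ⊓ U x ≤ W) n)
    obtain ⟨m, hm⟩ := res_glue N (fun x => W ⊓ U x) (fun x => inf_le_left) hc t (by
      intro i j
      apply (hb i _ inf_le_left).1
      rw [app_res, app_res, ht, ht, res_res, res_res])
    refine ⟨m, res_ext _ (fun x => W ⊓ U x) (fun x => inf_le_left) hc fun x => ?_⟩
    rw [← ht x, ← hm x, app_res]

theorem mulPair_injective {N M : X.Modules} (hN : PicF.IsInvertible N) (hM : PicF.IsInvertible M)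
    {s : Coh.HH X M 0} (hs : s ≠ 0) : Function.Injective (mulPair k N M 0 s) := by
  have hs' : secOf M s ≠ 0 := fun h => hs ((secOf M).map_eq_zero_iff.mp h)
  obtain ⟨W, hWne, hW⟩ := exists_isGen hM hs'
  rw [injective_iff_map_eq_zero]
  intro x hx
  have h1 : (mulSec N (secOf M s)).app ⊤ (secOf N x) = 0 := by
    rw [← secOf_hmap]
    rw [mulPair_apply] at hx
    rw [hx, map_zero]
  have h2 : (mulSec N (secOf M s)).app W (res N le_top (secOf N x)) = 0 := by
    rw [app_res, h1, map_zero]
  have h3 : res N (le_top : W ≤ ⊤) (secOf N x) = 0 := by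
    apply (mulSec_app_bijective hN hW).1
    rw [h2, map_zero]
  have h4 : secOf N x = 0 := by
    by_contra h4
    obtain ⟨V, hVne, hV⟩ := exists_isGen hN h4
    have hne : ((W ⊓ V : X.Opens) : Set X).Nonempty :=
      nonempty_preirreducible_inter W.isOpen V.isOpen hWne hVne
    have h5 : IsGen (res N (le_top : W ⊓ V ≤ ⊤) (secOf N x)) := by
      have := hV.res (inf_le_right : W ⊓ V ≤ V)
      rwa [res_res] at this
    have h6 : res N (le_top : W ⊓ V ≤ ⊤) (secOf N x) = 0 := by
      have := congrArg (res N (inf_le_left : W ⊓ V ≤ W)) h3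
      rwa [res_res, map_zero] at this
    rw [h6] at h5
    have h7 : (1 : Γ(X, W ⊓ V)) = 0 := h5.ext (by simp)
    have : Nonempty (W ⊓ V : X.Opens) := hne.to_subtype
    exact one_ne_zero h7
  exact (secOf N).map_eq_zero_iff.mp h4

theorem mulPair_surjective [NoetherianSpace X] (hd : topologicalKrullDim X ≤ 1)
    {N M : X.Modules} (hN : PicF.IsInvertible N) (hM : PicF.IsInvertible M)
    {s : Coh.HH X M 0} (hs : s ≠ 0) : Function.Surjective (mulPair k N M 1 s) := by
  have hs' : secOf M s ≠ 0 := fun h => hs ((secOf M).map_eq_zero_iff.mp h)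
  obtain ⟨W, hWne, hW⟩ := exists_isGen hM hs'
  have : IrreducibleSpace X.carrier := inferInstanceAs (IrreducibleSpace X)
  have : QuasiSober X.carrier := inferInstanceAs (QuasiSober X)
  have : T0Space X.carrier := inferInstanceAs (T0Space X)
  have : NoetherianSpace X.carrier := inferInstanceAs (NoetherianSpace X)
  refine VarietyA.CurveH1.h1_map_surjective (X := X.carrier) hd
    ((CohqB.ToSheafExact.toAbF X).map (mulSec N (secOf M s))) W hWne ?_
  intro V hV
  have hV' : IsGen (res M (le_top : V ≤ ⊤) (secOf M s)) := by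
    have := hW.res hV
    rwa [res_res] at this
  exact (mulSec_app_bijective hN hV').2

/-- `h⁰(M) ≤ h¹(N)` if `H¹(N ⊗ M) ≠ 0`. -/
theorem finrank_h0_le_h1 [NoetherianSpace X] (hd : topologicalKrullDim X ≤ 1)
    {N M : X.Modules} (hN : PicF.IsInvertible N) (hM : PicF.IsInvertible M)
    [Module.Finite k (Coh.HH X N 1)] [Nontrivial (Coh.HH X (CohB1.tensorMod N M) 1)] :
    Module.finrank k (Coh.HH X M 0) ≤ Module.finrank k (Coh.HH X N 1) :=
  finrank_le_of_surjective (mulPair k N M 1) fun _ hs => mulPair_surjective k hd hN hM hs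

end integral

end K532.SecMul
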