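import Groth.Agent.JacVar.K532.Lam
import Groth.Agent.JacVar.K531.ThetaLoc
import Groth.Agent.S12003
import Groth.Agent.S14681
import Groth.Agent.Sga7.H780.JK

/-!
# The theta divisor is nondegenerate and ample (`k` algebraically closed)

* `mk_theta`: the class of a theta line bundle `Θ_J` attached to `N` is `ρ^* O(Θ⁻)`, `ρ(x) = ν x⁻¹`.
* `nondeg`: `t_a^* Θ_J ≅ Θ_J` for a rational point `a` implies `a = 1`.
* `exists_sec`: the canonical section. `isAmple`.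
-/

set_option autoImplicit false
universe u
open CategoryTheory CategoryTheory.Limits AlgebraicGeometry MonoidalCategory CartesianMonoidalCategory
open scoped MonObj

namespace K532.ThetaAmple

open Groth.Agent Groth.Agent.Grpsch.PicGrp Groth.Agent.Fga.RigGrp Groth.Agent.Sga7.H732.Hedge
open Groth.Agent.Sga7.H732 K532.UnitBase K532.CurvePic K532.CurvePts K532.Dict Groth.Agent.Fga.JacSum
open Groth.Agent.Fga.JacFactor K532.Setup K532.KPts K532.Wr K532.MultPts K532.Theta1 Groth.Agent.Grpsch.Cube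
open K532.NonHyp K532.ThetaClass Groth.Agent.Divis.EffCartier K532.ThetaIdeal K532.Lam

/-- The canonical section of the inverse of an effective Cartier ideal. -/
theorem exists_sec {X : Scheme.{u}} [Nonempty X] (I : X.IdealSheafData) (hI : BlowUp.IsEffCartierIdeal I)
    (L : X.Modules) (hL : PicF.IsInvertible L) (hLI : ClSub.IsInverseOf L (ClSub.idealMod I)) :
    ∃ s : Coh.structureModule X ⟶ L, s ≠ 0 ∧ (I.support : Set X) = (CohB1.genLocus L s : Set X)ᶜ := by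
  have hk : I.subschemeι.ker = I := Scheme.IdealSheafData.ker_subschemeι I
  have hs := Groth.Agent.Dix.Cast5.exists_section I.subschemeι (by rw [hk]; exact hI)
  rw [Scheme.IdealSheafData.range_subschemeι, hk] at hs
  obtain ⟨s, hs⟩ := hs
  have hIi := Groth.Agent.Dix.IdealModCartier.isInvertible_idealMod hI
  have hdi := Groth.Agent.Grpsch.PicGrp.isInvertible_dual hIi
  obtain ⟨e⟩ : Nonempty (Groth.Agent.Grpsch.PicGrp.dual (ClSub.idealMod I) ≅ L) := by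
    obtain ⟨e1⟩ := hLI
    have h1 : Groth.Agent.Grpsch.PicGrp.mk L hL * Groth.Agent.Grpsch.PicGrp.mk _ hIi = 1 :=
      Groth.Agent.Grpsch.PicGrp.mk_congr e1
    have h2 : Groth.Agent.Grpsch.PicGrp.mk _ hdi * Groth.Agent.Grpsch.PicGrp.mk _ hIi = 1 :=
      Groth.Agent.Grpsch.PicGrp.mk_congr (Groth.Agent.Ega2.Tens.swap _ _ ≪≫
        (@asIso _ _ _ _ (Groth.Agent.Grpsch.PicGrp.ev (ClSub.idealMod I)) (Groth.Agent.Grpsch.PicGrp.isIso_ev hIi)))
    exact (Groth.Agent.Grpsch.PicGrp.mk_eq_iff hdi hL).1 (mul_right_cancel (h2.trans h1.symm))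
  have hloc : (I.support : Set X) = (CohB1.genLocus L (s ≫ e.hom) : Set X)ᶜ := by
    rw [Groth.Agent.Ega2.SecCalc.genLocus_comp, hs, compl_compl]
  refine ⟨s ≫ e.hom, ?_, hloc⟩
  intro h0
  rw [h0, K518.Sec.genLocus_eq_bot_of_eq_zero] at hloc
  obtain ⟨x, hx⟩ := (Groth.Agent.Ega2.BlowBasic.dense_offSupport hI).nonempty
  have hx' : x ∉ (I.support : Set X) := hx
  rw [hloc] at hx'
  exact hx' (fun h => h)

section grp

variable {k : Type u} [Field k] {J : Over (Spec (CommRingCat.of k))} [GrpObj J] [IsCommMonObj J]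

/-- `x ↦ ν x⁻¹` -/
noncomputable def rho (ν : 𝟙_ (Over (Spec (CommRingCat.of k))) ⟶ J) : J ⟶ J :=
  Jac.transl J ν⁻¹ ≫ (𝟙 J)⁻¹

theorem comp_rho {T : Over (Spec (CommRingCat.of k))} (ν : 𝟙_ (Over (Spec (CommRingCat.of k))) ⟶ J) (x : T ⟶ J) :
    x ≫ rho ν = (toUnit T ≫ ν) * x⁻¹ := by
  rw [rho, ← Category.assoc, comp_transl, GrpObj.comp_inv, Category.comp_id, mul_inv_rev, GrpObj.comp_inv, inv_inv]

theorem rho_rho (ν : 𝟙_ (Over (Spec (CommRingCat.of k))) ⟶ J) : rho ν ≫ rho ν = 𝟙 J := by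
  rw [comp_rho]
  have h1 : rho ν = (toUnit J ≫ ν) * (𝟙 J)⁻¹ := by
    have := comp_rho ν (𝟙 J)
    rwa [Category.id_comp] at this
  rw [h1, mul_inv_rev, inv_inv]
  rw [mul_comm (𝟙 J), mul_inv_cancel_left]

theorem transl_rho (ν a : 𝟙_ (Over (Spec (CommRingCat.of k))) ⟶ J) :
    Jac.transl J a ≫ rho ν = rho ν ≫ Jac.transl J a⁻¹ := by
  have h1 : rho ν = (toUnit J ≫ ν) * (𝟙 J)⁻¹ := by
    have := comp_rho ν (𝟙 J)
    rwa [Category.id_comp] at this
  rw [comp_rho, comp_transl, h1, Jac.transl, mul_inv_rev, ← GrpObj.comp_inv]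
  rw [mul_comm (toUnit J ≫ a⁻¹), mul_assoc]

end grp

section curve

variable {k : Type u} [Field k] [IsAlgClosed k] {C : Scheme.{u}} [C.Over (Spec (CommRingCat.of k))] (hX : IsCurve k C)
  {σ : Spec (CommRingCat.of k) ⟶ C} {hσ : σ ≫ (C ↘ Spec (CommRingCat.of k)) = 𝟙 (Spec (CommRingCat.of k))}
  {J : Over (Spec (CommRingCat.of k))} [GrpObj J] {ξ : Pic (PicF.XT (C ↘ Spec (CommRingCat.of k)) J)}
  (h : IsJac (C ↘ Spec (CommRingCat.of k)) σ hσ J ξ) [IsProper (C ↘ Spec (CommRingCat.of k))] [IsProper J.hom]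
  [GeometricallyIntegral J.hom] [IsCommMonObj J]
  [SmoothOfRelativeDimension 1 (C ↘ Spec (CommRingCat.of k))]
  {j : Over.mk (C ↘ Spec (CommRingCat.of k)) ⟶ J} (hj : IsAbel h j)

include hX h hj in
/-- The stabiliser of the class of `Θ⁻` is trivial. -/
theorem nondeg0 {n : ℕ} (hn : gen k C = n + 1)
    (hbase : (Over.homMk σ hσ : 𝟙_ (Over (Spec (CommRingCat.of k))) ⟶ Over.mk (C ↘ Spec (CommRingCat.of k))) ≫ j = 1)
    (hE : BlowUp.IsEffCartierIdeal (IT j n 1)) (a : 𝟙_ (Over (Spec (CommRingCat.of k))) ⟶ J)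
    (ha : pl (Jac.transl J a) (dcl (IT j n 1) hE) = dcl (IT j n 1) hE) : a = 1 := by
  have h1 := Fc_theta hX h hj hn hbase hE a⁻¹
  have h2 : Fc j (dcl (IT j n 1) hE)⁻¹ a⁻¹ = Fc j (dcl (IT j n 1) hE)⁻¹ 1 := by
    rw [Fc, Fc, inv_inv, inv_one, transl_one, Category.comp_id, pl_comp, map_inv (pl (Jac.transl J a)), ha]
  rw [h2, mul_inv_cancel] at h1
  have h3 : kcl h a⁻¹ = kcl h 1 := by rw [← h1, map_one]
  have h4 := kcl_injective h h3
  rwa [inv_eq_one] at h4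

omit [SmoothOfRelativeDimension 1 (C ↘ Spec (CommRingCat.of k))] [IsAlgClosed k] [GeometricallyIntegral J.hom] in
theorem preimage_rho (n : ℕ) (ν : 𝟙_ (Over (Spec (CommRingCat.of k))) ⟶ J) :
    (rho ν).left.base ⁻¹' closure (((𝟙 J)⁻¹).left.base '' W j n) = (Jac.transl J ν).left.base '' W j n := by
  rw [(isClosed_inv (isClosed_W j n)).closure_eq]
  have e : ∀ (g g' : J ⟶ J) (x : J.left), (g ≫ g').left x = g'.left (g.left x) := fun g g' x => by
    rw [Over.comp_left, Scheme.Hom.comp_apply]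
  ext x
  constructor
  · rintro ⟨y, hy, hyx⟩
    refine ⟨y, hy, ?_⟩
    change ((𝟙 J)⁻¹ : J ⟶ J).left y = (rho ν).left x at hyx
    have h1 : (rho ν ≫ rho ν).left x = x := by rw [rho_rho]; rfl
    rw [e, ← hyx, ← e] at h1
    have h2 : ((𝟙 J)⁻¹ : J ⟶ J) ≫ rho ν = Jac.transl J ν := by
      rw [comp_rho, inv_inv, Jac.transl, mul_comm]
    rwa [h2] at h1
  · rintro ⟨y, hy, rfl⟩
    refine ⟨y, hy, ?_⟩
    change ((𝟙 J)⁻¹ : J ⟶ J).left y = (rho ν).left ((Jac.transl J ν).left y)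
    rw [← e]
    have h2 : Jac.transl J ν ≫ rho ν = ((𝟙 J)⁻¹ : J ⟶ J) := by
      rw [comp_rho, Jac.transl, mul_inv_rev, mul_inv_cancel_left]
    rw [h2]

variable {hdim : topologicalKrullDim C = 1} {ψ : (ModFun.PicDeg (C ↘ Spec (CommRingCat.of k)) 0).Hom ⊤ J}
  (hψ : Compat (C ↘ Spec (CommRingCat.of k)) hdim σ hσ J ψ ξ) [Smooth (C ↘ Spec (CommRingCat.of k))]
  [GeometricallyConnected (C ↘ Spec (CommRingCat.of k))]

omit [GeometricallyIntegral J.hom] in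
include hX hj hψ in
/-- The ideal of the theta locus. -/
theorem exists_ideal_theta {n : ℕ} (hn : gen k C = n + 1) {N : C.Modules} (hN : PicF.IsInvertible N)
    (hdeg : deg k C (mk N hN) = (gen k C : ℤ) - 1) :
    ∃ ν : 𝟙_ (Over (Spec (CommRingCat.of k))) ⟶ J, Scheme.IdealSheafData.vanishingIdeal
      ⟨Jac.thetaLocus (C ↘ Spec (CommRingCat.of k)) 0 ψ N, isClosed_closure⟩ = (IT j n 1).comap (rho ν).left := by
  obtain ⟨ν, hν⟩ := K531.ThetaLoc.exists_thetaLocus_eq hX h hψ hj hN hdeg (by omega)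
  refine ⟨ν, ?_⟩
  have h1 : (rho ν).left ≫ (rho ν).left = 𝟙 J.left := by
    rw [← Over.comp_left, rho_rho]; rfl
  rw [IT_one, comap_vanishingIdeal_iso _ _ h1 h1]
  congr 1
  apply TopologicalSpace.Closeds.ext
  refine hν.trans ?_
  have h2 : gen k C - 1 = n := by omega
  rw [h2]
  exact (preimage_rho n ν).symm

omit [GeometricallyIntegral J.hom] in
include hX hj hψ in
/-- The class of a theta line bundle. -/
theorem mk_theta {n : ℕ} (hn : gen k C = n + 1) (hE : BlowUp.IsEffCartierIdeal (IT j n 1))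
    {N : C.Modules} (hN : PicF.IsInvertible N)
    (hdeg : deg k C (mk N hN) = (gen k C : ℤ) - 1) {ΘJ : J.left.Modules}
    (hΘJ : Jac.IsThetaLB (C ↘ Spec (CommRingCat.of k)) 0 ψ N ΘJ) :
    ∃ ν : 𝟙_ (Over (Spec (CommRingCat.of k))) ⟶ J, mk ΘJ hΘJ.1 = pl (rho ν) (dcl (IT j n 1) hE)⁻¹ := by
  obtain ⟨ν, hν⟩ := exists_ideal_theta hX h hj hψ hn hN hdeg
  refine ⟨ν, ?_⟩
  have hiso : IsIso (rho ν).left := by
    have h1 : (rho ν).left ≫ (rho ν).left = 𝟙 J.left := by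
      rw [← Over.comp_left, rho_rho]; rfl
    exact ⟨_, h1, h1⟩
  obtain ⟨-, hLI⟩ := id hΘJ
  obtain ⟨e⟩ := id hLI
  have hI := Fga.IntAdd.isInvertible_of_tensor e
  have hE1 := Dix.IdealModCartier.isEffCartierIdeal_of_isInvertible hI
  have h2 : mk ΘJ hΘJ.1 = (dcl _ hE1)⁻¹ := Models.H65.PicDeg.mk_of_isInverseOf hΘJ.1 hI hLI
  have h3 : BlowUp.IsEffCartierIdeal ((IT j n 1).comap (rho ν).left) := isEff_comap_flat hE _
  rw [h2, map_inv, pull_dcl (rho ν).left hE h3, dcl_congr hν]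

include hX hj hψ in
theorem nondeg {n : ℕ} (hn : gen k C = n + 1) {N : C.Modules} (hN : PicF.IsInvertible N)
    (hbase : (Over.homMk σ hσ : 𝟙_ (Over (Spec (CommRingCat.of k))) ⟶ Over.mk (C ↘ Spec (CommRingCat.of k))) ≫ j = 1)
    (hdeg : deg k C (mk N hN) = (gen k C : ℤ) - 1) {ΘJ : J.left.Modules}
    (hΘJ : Jac.IsThetaLB (C ↘ Spec (CommRingCat.of k)) 0 ψ N ΘJ)
    (a : 𝟙_ (Over (Spec (CommRingCat.of k))) ⟶ J) (ha : pl (Jac.transl J a) (mk ΘJ hΘJ.1) = mk ΘJ hΘJ.1) : a = 1 := by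
  have hE := ThetaCartier.isEff_theta hX h hj hn
  obtain ⟨ν, hν⟩ := mk_theta hX h hj hψ hn hE hN hdeg hΘJ
  rw [hν, ← pl_comp, transl_rho, pl_comp] at ha
  have h1 := congrArg (fun c => pl (rho ν) c) ha
  simp only [← pl_comp, rho_rho] at h1
  have h2 : pl (𝟙 J) = MonoidHom.id _ := by
    ext c
    exact pull_id c
  rw [← Category.assoc, rho_rho, Category.id_comp, h2, map_inv (pl (Jac.transl J a⁻¹))] at h1
  have h3 := nondeg0 hX h hj hn hbase hE a⁻¹ (inv_injective h1)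
  rwa [inv_eq_one] at h3

end curve

section frozen

variable {k : Type u} [Field k] [IsAlgClosed k] {C : Scheme.{u}} [C.Over (Spec (CommRingCat.of k))]
    [IsProper (C ↘ Spec (CommRingCat.of k))] [Smooth (C ↘ Spec (CommRingCat.of k))]
    [GeometricallyConnected (C ↘ Spec (CommRingCat.of k))] (hdim : topologicalKrullDim ↥C = 1)
    {J : Over (Spec (CommRingCat.of k))} [GrpObj J]
    {ψ : (ModFun.PicDeg (C ↘ Spec (CommRingCat.of k)) 0).Hom ⊤ J}

/-- The data attached to a Jacobian over an algebraically closed field. -/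
theorem exists_setup (hJ : Jac.IsJacobian (C ↘ Spec (CommRingCat.of k)) ⊤ J ψ) :
    ∃ (_ : IsCurve k C) (_ : IsProper J.hom) (_ : GeometricallyIntegral J.hom)
      (_ : SmoothOfRelativeDimension 1 (C ↘ Spec (CommRingCat.of k)))
      (σ : Spec (CommRingCat.of k) ⟶ C) (hσ : σ ≫ (C ↘ Spec (CommRingCat.of k)) = 𝟙 (Spec (CommRingCat.of k)))
      (ξ : Pic (PicF.XT (C ↘ Spec (CommRingCat.of k)) J)) (h : IsJac (C ↘ Spec (CommRingCat.of k)) σ hσ J ξ)
      (j : Over.mk (C ↘ Spec (CommRingCat.of k)) ⟶ J), IsAbel h j ∧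
      Compat (C ↘ Spec (CommRingCat.of k)) hdim σ hσ J ψ ξ ∧
      (Over.homMk σ hσ : 𝟙_ (Over (Spec (CommRingCat.of k))) ⟶ Over.mk (C ↘ Spec (CommRingCat.of k))) ≫ j = 1 := by
  have hX' := Base.isSmoothProperCurve (C ↘ Spec (CommRingCat.of k)) hdim
  have hX := isCurve_of_isAlgClosed k C hX'
  have hs : SmoothOfRelativeDimension 1 (C ↘ Spec (CommRingCat.of k)) := Base.smoothOfRelDim _ hdim
  have hint := hX.integral
  obtain ⟨x, -⟩ := exists_kpt hX (⊤ : C.Opens) ⟨genericPoint C, trivial⟩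
  obtain ⟨ξ, h, hψ, hp, hgi⟩ := exists_isJac Sga7.H780.JK.jk hdim x.1 x.2 hJ
  obtain ⟨j, hj⟩ := Abel.exists_abel h hX'
  have hj' : IsAbel h j := hj
  refine ⟨hX, hp, hgi, hs, x.1, x.2, ξ, h, j, hj', hψ, ?_⟩
  apply kcl_injective h
  have := kcl_pm hX h hj' (sg x.2)
  rw [inv_mul_cancel] at this
  rw [map_one]
  exact this

variable [IsCommMonObj J]

include hdim in
/-- The stabiliser of a theta line bundle is trivial. -/
theorem theta_stab (hJ : Jac.IsJacobian (C ↘ Spec (CommRingCat.of k)) ⊤ J ψ)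
    (g : ℕ) (hg : Curv2.genus k C = g) (hg1 : 1 ≤ g)
    (N : C.Modules) (hN : PicF.IsInvertible N) (hNdeg : Curv2.deg k C N 1 = (g : ℤ) - 1)
    (ΘJ : J.left.Modules) (hΘJ : Jac.IsThetaLB (C ↘ Spec (CommRingCat.of k)) 0 ψ N ΘJ)
    (a : 𝟙_ (Over (Spec (CommRingCat.of k))) ⟶ J)
    (ha : Nonempty ((Scheme.Modules.pullback ((𝟙 J * (toUnit J ≫ a))).left).obj ΘJ ≅ ΘJ)) : a = 1 := by
  obtain ⟨hX, hp, hgi, hs, σ, hσ, ξ, h, j, hj, hψ, hbase⟩ := exists_setup hdim hJ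
  have hn : gen k C = (g - 1) + 1 := by
    change Curv2.genus k C = _
    omega
  have hdeg : deg k C (mk N hN) = (gen k C : ℤ) - 1 := by
    rw [deg_mk k C hdim, hNdeg, ← hg]
  refine nondeg hX h hj hψ hn hN hbase hdeg hΘJ a ?_
  have h1 : pl (Jac.transl J a) (mk ΘJ hΘJ.1) = mk _ (Groth.Agent.Fdesc.LocGen.isInvertible_pullback _ hΘJ.1) :=
    pull_mk (Jac.transl J a).left hΘJ.1
  rw [h1, mk_eq_iff]
  exact ha

omit [IsCommMonObj J] in
include hdim in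
/-- The theta line bundle is effective. -/
theorem theta_sec (hJ : Jac.IsJacobian (C ↘ Spec (CommRingCat.of k)) ⊤ J ψ)
    (N : C.Modules)
    (ΘJ : J.left.Modules) (hΘJ : Jac.IsThetaLB (C ↘ Spec (CommRingCat.of k)) 0 ψ N ΘJ) :
    ∃ s : Coh.structureModule J.left ⟶ ΘJ, s ≠ 0 ∧
      Jac.thetaLocus (C ↘ Spec (CommRingCat.of k)) 0 ψ N = (CohB1.genLocus ΘJ s : Set J.left)ᶜ := by
  obtain ⟨hX, hp, hgi, hs, σ, hσ, ξ, h, j, hj, hψ, hbase⟩ := exists_setup hdim hJ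
  have hint : IsIntegral J.left := GeometricallyIntegral.isIntegral_of_subsingleton J.hom
  obtain ⟨-, hLI⟩ := id hΘJ
  obtain ⟨e⟩ := id hLI
  have hI := Fga.IntAdd.isInvertible_of_tensor e
  have hE1 := Dix.IdealModCartier.isEffCartierIdeal_of_isInvertible hI
  obtain ⟨s, hs1, hs2⟩ := exists_sec _ hE1 ΘJ hΘJ.1 hLI
  refine ⟨s, hs1, ?_⟩
  rw [← hs2]
  exact (Scheme.IdealSheafData.coe_support_vanishingIdeal
    ⟨Jac.thetaLocus (C ↘ Spec (CommRingCat.of k)) 0 ψ N, isClosed_closure⟩).symm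

include hdim in
/-- **The theta line bundle is ample.** -/
theorem theta_ample (hJ : Jac.IsJacobian (C ↘ Spec (CommRingCat.of k)) ⊤ J ψ)
    (g : ℕ) (hg : Curv2.genus k C = g) (hg1 : 1 ≤ g)
    (N : C.Modules) (hN : PicF.IsInvertible N) (hNdeg : Curv2.deg k C N 1 = (g : ℤ) - 1)
    (ΘJ : J.left.Modules) (hΘJ : Jac.IsThetaLB (C ↘ Spec (CommRingCat.of k)) 0 ψ N ΘJ) : CohB1.IsAmple ΘJ := by
  obtain ⟨hX, hp, hgi, hs, σ, hσ, ξ, h, j, hj, hψ, hbase⟩ := exists_setup hdim hJ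
  obtain ⟨s, hs, -⟩ := theta_sec hdim hJ N ΘJ hΘJ
  refine S12003.result k J ΘJ hΘJ.1 s hs ?_
  refine (Set.finite_singleton (1 : 𝟙_ (Over (Spec (CommRingCat.of k))) ⟶ J)).subset ?_
  intro a ha
  exact theta_stab hdim hJ g hg hg1 N hN hNdeg ΘJ hΘJ a ha

end frozen

end K532.ThetaAmple
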