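import Groth.Agent.JacVar.K533.ThetaFam
import Groth.Agent.JacVar.K532.ThetaIdeal
import Groth.Agent.Divis.IdealComap

/-!
# The theta divisor and divisors in general position

`K1`: for distinct rational points `D_1, …, D_g` with `h⁰(O(∑ D_i)) = 1` the ideal of `(Θ⁻)_a`, `a = ∏ j(D_i)`, pulls
back along the Abel map to the intersection of the ideals of the `D_i`.
-/

set_option autoImplicit false
set_option backward.isDefEq.respectTransparency false
universe u
open CategoryTheory CategoryTheory.Limits AlgebraicGeometry MonoidalCategory CartesianMonoidalCategory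
open scoped MonObj

namespace K532.KOne

open Groth.Agent Groth.Agent.Grpsch.PicGrp Groth.Agent.Fga.RigGrp Groth.Agent.Sga7.H732.Hedge
open Groth.Agent.Sga7.H732 K532.UnitBase K532.CurvePic K532.CurvePts K532.Dict Groth.Agent.Fga.JacSum
open Groth.Agent.Fga.JacFactor K532.Setup K532.KPts K532.Wr K532.MultPts K532.Theta1
open K532.ThetaClass K532.ThetaIdeal K532.Good
open Groth.Agent.Picfga Groth.Agent.Picfga.ChiDef Groth.Agent.Picfga.P1Def Groth.Agent.Picfga.PicGood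
open Groth.Agent.Fdesc.LocGen Groth.Agent.Picfga.SecGraph Groth.Agent.Picfga.PtStep K533.ThetaFam K531.Perm

theorem comap_prod {X Y : Scheme.{u}} {n : ℕ} (I : Fin n → Y.IdealSheafData) (g : X ⟶ Y) :
    (∏ i, I i).comap g = ∏ i, (I i).comap g := by
  classical
  have : ∀ s : Finset (Fin n), (∏ i ∈ s, I i).comap g = ∏ i ∈ s, (I i).comap g := by
    intro s
    induction s using Finset.induction_on with
    | empty =>
      rw [Finset.prod_empty, Finset.prod_empty, Scheme.IdealSheafData.one_eq_top,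
        Scheme.IdealSheafData.one_eq_top, Scheme.IdealSheafData.comap_top]
    | insert i s hi ih =>
      rw [Finset.prod_insert hi, Finset.prod_insert hi, Divis.IdealComap.comap_mul, ih]
  exact this _

section base

variable {k : Type u} [Field k] {C : Scheme.{u}} (f : C ⟶ Spec (CommRingCat.of k))

theorem fst_ui' (T : Over (Spec (CommRingCat.of k))) :
    pullback.fst f T.hom ≫ ui f = PicF.XTmap f (toUnit T) := by
  apply pullback.hom_ext
  · rw [Category.assoc, ui_fst, Category.comp_id]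
    exact (Fga.RigGrp.XTmap_fst f (toUnit T)).symm
  · rw [Category.assoc]
    refine (congrArg (fun z => pullback.fst f T.hom ≫ z) (ui_proj f)).trans ?_
    rw [pullback.condition]
    have h1 := Fga.RigGrp.XTmap_XTproj f (toUnit T)
    rw [toUnit_left] at h1
    exact h1.symm

/-- The class of a constant section. -/
theorem pull_fst_dcl [SmoothOfRelativeDimension 1 f] [IsSeparated f] (T : Over (Spec (CommRingCat.of k)))
    (x : Spec (CommRingCat.of k) ⟶ C) (hx : x ≫ f = 𝟙 (Spec (CommRingCat.of k))) :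
    pull (pullback.fst f T.hom) (dcl x.ker (isEff_ker f x hx)) = gcl f (Pt.ofSection hx T) := by
  rw [← pull_ui_gcl f x hx, ← pull_comp, fst_ui', pull_gcl]
  exact congrArg (gcl f) (Subtype.ext (congrArg (fun q => q ≫ x) (toUnit_left T)))

end base

variable {k : Type u} [Field k] {C : Scheme.{u}} [C.Over (Spec (CommRingCat.of k))] (hX : IsCurve k C)

instance isAffine_unit : IsAffine (𝟙_ (Over (Spec (CommRingCat.of k)))).left :=
  inferInstanceAs (IsAffine (Spec _))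

omit [C.Over (Spec (CommRingCat.of k))] in
theorem isField_unit : IsField Γ((𝟙_ (Over (Spec (CommRingCat.of k)))).left, ⊤) :=
  K531.GoodHH.isField_Spec k

include hX in
/-- Vanishing of `H¹` at a rational point. -/
theorem h1van_point (P : P1Data (C ↘ Spec (CommRingCat.of k))) {Z : Over (Spec (CommRingCat.of k))}
    (M : (PicF.XT (C ↘ Spec (CommRingCat.of k)) Z).Modules) (hM : PicF.IsInvertible M)
    (z : 𝟙_ (Over (Spec (CommRingCat.of k))) ⟶ Z) (τ : (𝟙_ (Over (Spec (CommRingCat.of k)))).left) :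
    H1van P (ptOver Z (z.left τ)) (pb _ (ptHom Z (z.left τ)) M) ↔
      CurvePic.h k C 1 (pull (ui (C ↘ Spec (CommRingCat.of k)))
        (pull (PicF.XTmap (C ↘ Spec (CommRingCat.of k)) z) (mk M hM))) = 0 := by
  have := hX.proper
  rw [← K533.ThetaComap.h1van_pt_iff P z M hM τ,
    h1van_field_iff P (ptHom _ τ) isField_unit (isField_pt τ) _ (isInvertible_pullback _ hM), pull_mk]
  exact h1van_ui hX P _ (isInvertible_pullback _ hM)

include hX in
theorem h1van_unit (P : P1Data (C ↘ Spec (CommRingCat.of k)))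
    (M : (PicF.XT (C ↘ Spec (CommRingCat.of k)) (𝟙_ (Over (Spec (CommRingCat.of k))))).Modules)
    (hM : PicF.IsInvertible M) (τ : (𝟙_ (Over (Spec (CommRingCat.of k)))).left) :
    H1van P (ptOver _ τ) (pb _ (ptHom _ τ) M) ↔
      CurvePic.h k C 1 (pull (ui (C ↘ Spec (CommRingCat.of k))) (mk M hM)) = 0 := by
  have := hX.proper
  rw [h1van_field_iff P (ptHom _ τ) isField_unit (isField_pt τ) _ hM]
  exact h1van_ui hX P _ hM

section main

variable [IsAlgClosed k]
  {σ : Spec (CommRingCat.of k) ⟶ C} {hσ : σ ≫ (C ↘ Spec (CommRingCat.of k)) = 𝟙 (Spec (CommRingCat.of k))}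
  {J : Over (Spec (CommRingCat.of k))} [GrpObj J] {ξ : Pic (PicF.XT (C ↘ Spec (CommRingCat.of k)) J)}
  (h : IsJac (C ↘ Spec (CommRingCat.of k)) σ hσ J ξ) [IsProper (C ↘ Spec (CommRingCat.of k))] [IsProper J.hom]
  [IsCommMonObj J] [SmoothOfRelativeDimension 1 (C ↘ Spec (CommRingCat.of k))]
  {j : Over.mk (C ↘ Spec (CommRingCat.of k)) ⟶ J} (hj : IsAbel h j)

/-- The class of the family `a ⊗ z⁻¹ ⊗ O(nσ)`. -/
noncomputable def cF (ξ : Pic (PicF.XT (C ↘ Spec (CommRingCat.of k)) J)) (c₀ : Pic C) :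
    Pic (PicF.XT (C ↘ Spec (CommRingCat.of k)) J) :=
  pull (pullback.fst (C ↘ Spec (CommRingCat.of k)) J.hom) c₀ * ξ⁻¹

omit [IsAlgClosed k] [IsProper (C ↘ Spec (CommRingCat.of k))] [IsProper J.hom] [IsCommMonObj J]
  [SmoothOfRelativeDimension 1 (C ↘ Spec (CommRingCat.of k))] in
theorem pull_cF_point (c₀ : Pic C) (z : 𝟙_ (Over (Spec (CommRingCat.of k))) ⟶ J) :
    pull (ui (C ↘ Spec (CommRingCat.of k))) (pull (PicF.XTmap (C ↘ Spec (CommRingCat.of k)) z) (cF ξ c₀)) =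
      c₀ * (kcl h z)⁻¹ := by
  have h1 : pull (PicF.XTmap (C ↘ Spec (CommRingCat.of k)) z) (pull (pullback.fst (C ↘ Spec (CommRingCat.of k)) J.hom) c₀) =
      pull (pullback.fst (C ↘ Spec (CommRingCat.of k)) (𝟙_ (Over (Spec (CommRingCat.of k)))).hom) c₀ := by
    rw [← pull_comp, Fga.RigGrp.XTmap_fst]
  rw [cF, map_mul, map_mul, map_inv, map_inv, h1, kcl_apply, Abel.cls_apply]
  congr 1
  rw [← pull_comp, ui_fst, pull_id]

local notation "𝔣" => (C ↘ Spec (CommRingCat.of k))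

include hX hj in
theorem kone {n : ℕ} (hn : gen k C = n + 1) : K1 hX j n := by
  intro D hDinj hD0
  obtain ⟨P⟩ := CurveP1.exists_p1Data hX.curve
  set a : 𝟙_ (Over (Spec (CommRingCat.of k))) ⟶ J := (List.ofFn fun i => pm _ (D i).1 (D i).2 ≫ j).prod with ha
  set q := pcl hX (sg hσ) with hq
  let c₀ : Pic C := kcl h a * q⁻¹ ^ n
  have hc₀ : c₀ = (∏ i, (pcl hX (D i))⁻¹) * q := by
    simp only [c₀, ha]
    rw [kcl_prod hX h hj, ← hq]
    cgroup
  let Θ : TopologicalSpace.Closeds J.left :=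
    ⟨closure ((Jac.transl J a).left.base '' (((𝟙 J)⁻¹).left.base '' W j n)), isClosed_closure⟩
  have hcl : IsClosed ((Jac.transl J a).left.base '' (((𝟙 J)⁻¹).left.base '' W j n)) :=
    isClosed_transl a (isClosed_inv (isClosed_W j n))
  have hΘmem : ∀ b : 𝟙_ (Over (Spec (CommRingCat.of k))) ⟶ J, pa b ∈ Θ ↔ 0 < CurvePic.h k C 0 (c₀ * (kcl h b)⁻¹) := by
    intro b
    change pa b ∈ closure _ ↔ _
    rw [hcl.closure_eq, pa_transl, pa_inv, mem_W_iff_h0 hX h hj, map_inv, map_mul, map_inv]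
    have : (kcl h b * (kcl h a)⁻¹)⁻¹ * (pcl hX (sg hσ))⁻¹ ^ n = c₀ * (kcl h b)⁻¹ := by
      simp only [c₀]
      rw [← hq]
      cgroup
    rw [this]
  obtain ⟨F, hF, hcF⟩ := exists_mk (cF ξ c₀)
  have hΘ : (Θ : Set J.left) ⊆ closure {z | ¬ H1van P (ptOver J z) (pb 𝔣 (ptHom J z) F)} := by
    refine closed_subset Θ.isClosed isClosed_closure fun b hb => subset_closure ?_
    change ¬ H1van P (ptOver J (b.left (IsLocalRing.closedPoint k))) (pb 𝔣 (ptHom J (b.left (IsLocalRing.closedPoint k))) F)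
    rw [h1van_point hX P F hF b (IsLocalRing.closedPoint k), ← hcF, pull_cF_point h]
    have h1 := (hΘmem b).1 hb
    have h2 := rr hX (c₀ * (kcl h b)⁻¹)
    have h3 : deg k C (c₀ * (kcl h b)⁻¹) = n := by
      simp only [c₀]
      rw [deg_mul hX, deg_inv hX, deg_twist hX h, deg_kcl hX h]
      ring
    rw [h3, hn] at h2
    push_cast at h2
    omega
  let w : Fin (n + 1) → Pt 𝔣 (𝟙_ (Over (Spec (CommRingCat.of k)))) := fun i => pt 𝔣 (D i).1 (D i).2
  have hw1 : ∀ (E : (PicF.XT 𝔣 (𝟙_ (Over (Spec (CommRingCat.of k))))).Modules) (hE : PicF.IsInvertible E),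
      mk E hE = (∏ i, gcl 𝔣 (w i))⁻¹ →
      ∀ z, H1van P (ptOver (𝟙_ (Over (Spec (CommRingCat.of k)))) z) (pb 𝔣 (ptHom _ z) E) := by
    intro E hE hEc z
    rw [h1van_unit hX P E hE z, hEc, map_inv, map_prod]
    have h1 : ∀ i, pull (ui 𝔣) (gcl 𝔣 (w i)) = pcl hX (D i) := fun i => pull_ui_gcl 𝔣 (D i).1 (D i).2
    simp only [h1]
    rw [← Finset.prod_inv_distrib]
    have h2 := rr hX (∏ i, (pcl hX (D i))⁻¹)
    rw [deg_prod_pcl, hD0, hn] at h2
    push_cast at h2
    omega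
  let T : Over (Spec (CommRingCat.of k)) := XZ 𝔣 (𝟙_ (Over (Spec (CommRingCat.of k))))
  let hm : T ⟶ J := Abel.ptHom (xx 𝔣 _) ≫ j
  let c : Pic (PicF.XT 𝔣 T) := (gcl 𝔣 (xx 𝔣 _))⁻¹ * gcl 𝔣 (Pt.ofSection hσ T)
  have hξ : pull (PicF.XTmap 𝔣 hm) ξ = c / pull (PicF.XTproj 𝔣 T) (pull (PicF.secT 𝔣 σ hσ T) c) := by
    rw [← Abel.cls_apply]
    exact hj T (xx 𝔣 _)
  have hcl1 : pull (PicF.XTmap 𝔣 hm) (mk F hF) =
      gcl 𝔣 (xx 𝔣 _) * pull (PicF.XTmap 𝔣 (prZ 𝔣 (𝟙_ (Over (Spec (CommRingCat.of k)))))) (∏ i, gcl 𝔣 (w i))⁻¹ *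
        pull (PicF.XTproj 𝔣 T) (pull (PicF.secT 𝔣 σ hσ T) c) := by
    rw [← hcF, cF, map_mul, map_inv, hξ, ← pull_comp, Fga.RigGrp.XTmap_fst, hc₀, map_mul, map_prod, map_inv, map_prod]
    have h1 : ∀ i, pull (pullback.fst 𝔣 T.hom) (pcl hX (D i))⁻¹ =
        (pull (PicF.XTmap 𝔣 (prZ 𝔣 (𝟙_ (Over (Spec (CommRingCat.of k)))))) (gcl 𝔣 (w i)))⁻¹ := by
      intro i
      rw [map_inv, inv_inj, pull_gcl]
      refine (pull_fst_dcl 𝔣 T (D i).1 (D i).2).trans ?_
      have h4 : T.hom = PicF.XTproj 𝔣 (𝟙_ (Over (Spec (CommRingCat.of k)))) := Category.comp_id _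
      exact congrArg (gcl 𝔣) (Subtype.ext (congrArg (fun q => q ≫ (D i).1) h4))
    have h2 : pull (pullback.fst 𝔣 T.hom) q = gcl 𝔣 (Pt.ofSection hσ T) := pull_fst_dcl 𝔣 T σ hσ
    simp only [h1, h2, Finset.prod_inv_distrib, c]
    rw [inv_div, div_eq_mul_inv]
    cgroup
  have hdist : ∀ z, Dist 𝔣 w z := by
    intro z i i' hii
    apply hDinj
    apply KPt.ext' hX
    have h1 := congrArg (fun g => g.base (IsLocalRing.closedPoint _)) hii
    simp only [w] at h1
    have h2 : ∀ i, ((((𝟙_ (Over (Spec (CommRingCat.of k)))).left.fromSpecResidueField z) ≫ (D i).1).base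
        (IsLocalRing.closedPoint _)) = pnt (D i) := fun i => by
      rw [Scheme.Hom.comp_base]
      exact apply_eq_pnt (D i) _
    exact (h2 i).symm.trans (h1.trans (h2 i'))
  have hmem : ∀ (i : Fin (n + 1)) (z : (𝟙_ (Over (Spec (CommRingCat.of k)))).left),
      hm.left (sec 𝔣 (𝟙_ (Over (Spec (CommRingCat.of k)))) (w i).1 (w i).2 z) ∈ Θ := by
    intro i z
    have h1 : hm.left (sec 𝔣 (𝟙_ (Over (Spec (CommRingCat.of k)))) (w i).1 (w i).2 z) = pa (pm 𝔣 (D i).1 (D i).2 ≫ j) := by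
      have h2 : sec 𝔣 (𝟙_ (Over (Spec (CommRingCat.of k)))) (w i).1 (w i).2 ≫ hm.left = (pm 𝔣 (D i).1 (D i).2 ≫ j).left := by
        change _ ≫ pullback.fst 𝔣 _ ≫ j.left = (D i).1 ≫ j.left
        rw [← Category.assoc]
        congr 1
        exact sec_fst 𝔣 _ _
      refine (Scheme.Hom.comp_apply _ _ _).symm.trans ?_
      rw [h2]
      exact apply_eq_pa _ _
    rw [h1, hΘmem, kcl_pm hX h hj, hc₀]
    have h2 : (∏ i, (pcl hX (D i))⁻¹) * q * ((pcl hX (D i))⁻¹ * pcl hX (sg hσ))⁻¹ =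
        ∏ i' ∈ Finset.univ.erase i, (pcl hX (D i'))⁻¹ := by
      rw [← Finset.mul_prod_erase Finset.univ _ (Finset.mem_univ i), ← hq]
      cgroup
    rw [h2]
    exact h0_prod_pos hX _ _ fun i' _ => h0_inv_pcl_pos hX (D i')
  have hred : IsReduced (𝟙_ (Over (Spec (CommRingCat.of k)))).left := inferInstanceAs (IsReduced (Spec _))
  have hmain := K533.ThetaFam.comap_eq P hF hΘ w hw1 hm _ hcl1 hdist hmem
  have h3 : ui 𝔣 ≫ hm.left = j.left := by
    change ui 𝔣 ≫ pullback.fst 𝔣 _ ≫ j.left = j.left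
    rw [← Category.assoc]
    have := ui_fst 𝔣
    rw [this, Category.id_comp]
  rw [← prod_ker_eq_iInf hX D hDinj]
  have h4 := congrArg (fun I : (PicF.XT 𝔣 (𝟙_ (Over (Spec (CommRingCat.of k))))).IdealSheafData => I.comap (ui 𝔣)) hmain
  rw [← Scheme.IdealSheafData.comap_comp, h3, comap_prod] at h4
  refine h4.trans (Finset.prod_congr rfl fun i _ => ?_)
  exact comap_secGraph 𝔣 (D i).1 (D i).2

end main

end K532.KOne
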