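import Groth.Agent.JacVar.K532.ThetaCartier
import Groth.Agent.Dix.InterSurf

/-!
# The intersection of `W^1` with translates of `W^{g-1}`

`inter_main`: if `W^1 ⊄ W^{g-1}_a` then the pullback along the Abel map of the ideal of `W^{g-1}_a` is the ideal of the
unique effective divisor in the class of `aκ`.
-/

set_option autoImplicit false
universe u
open CategoryTheory CategoryTheory.Limits AlgebraicGeometry MonoidalCategory CartesianMonoidalCategory
open scoped MonObj

namespace K532.ThetaMain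

open Groth.Agent Groth.Agent.Grpsch.PicGrp Groth.Agent.Fga.RigGrp Groth.Agent.Sga7.H732.Hedge
open Groth.Agent.Sga7.H732 K532.UnitBase K532.CurvePic K532.CurvePts K532.Dict Groth.Agent.Fga.JacSum
open Groth.Agent.Fga.JacFactor K532.Setup K532.KPts K532.Wr K532.MultPts K532.Theta1 Groth.Agent.Grpsch.Cube
open K532.NonHyp K532.ThetaClass K532.ThetaIdeal Groth.Agent.Divis.EffCartier K532.ThetaCartier

variable {k : Type u} [Field k] [IsAlgClosed k] {C : Scheme.{u}} [C.Over (Spec (CommRingCat.of k))] (hX : IsCurve k C)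
  {σ : Spec (CommRingCat.of k) ⟶ C} {hσ : σ ≫ (C ↘ Spec (CommRingCat.of k)) = 𝟙 (Spec (CommRingCat.of k))}
  {J : Over (Spec (CommRingCat.of k))} [GrpObj J] {ξ : Pic (PicF.XT (C ↘ Spec (CommRingCat.of k)) J)}
  (h : IsJac (C ↘ Spec (CommRingCat.of k)) σ hσ J ξ)
  [IsProper (C ↘ Spec (CommRingCat.of k))] [IsProper J.hom]
  [GeometricallyIntegral J.hom] [IsCommMonObj J]
  [SmoothOfRelativeDimension 1 (C ↘ Spec (CommRingCat.of k))]
  {j : Over.mk (C ↘ Spec (CommRingCat.of k)) ⟶ J} (hj : IsAbel h j)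

omit [GeometricallyIntegral J.hom] in
include hX hj in
/-- `W^{g-1}_a = (Θ⁻)_{aκ}`. -/
theorem transl_W_eq {n : ℕ} (hn : gen k C = n + 1) {κ : 𝟙_ (Over (Spec (CommRingCat.of k))) ⟶ J}
    (hκ : kcl h κ = om hX * pcl hX (sg hσ) ^ (2 * gen k C - 2)) (a : 𝟙_ (Over (Spec (CommRingCat.of k))) ⟶ J) :
    (Jac.transl J a).left.base '' W j n =
      (Jac.transl J (a * κ)).left.base '' (((𝟙 J)⁻¹).left.base '' W j n) := by
  have h1 := reflect hX h hj (by omega) hκ a⁻¹
  have e : gen k C - 1 = n := by omega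
  rw [e, inv_inv] at h1
  have hW := isClosed_W j n
  rw [← h1]
  refine closed_ext (isClosed_transl _ (isClosed_inv (isClosed_transl _ hW))) (isClosed_transl _ (isClosed_inv hW))
    fun b => ?_
  rw [pa_transl, pa_inv, pa_transl, pa_transl, pa_inv]
  have : (b * κ⁻¹)⁻¹ * a⁻¹⁻¹ = (b * (a * κ)⁻¹)⁻¹ := by
    simp only [mul_inv_rev, inv_inv]
    rw [mul_assoc, mul_comm b⁻¹ a, ← mul_assoc, mul_comm κ a]
  rw [this]

omit [GeometricallyIntegral J.hom] [IsCommMonObj J] in
include hX hj in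
/-- `j(x) ∈ W^{g-1}_a` iff `h⁰(D(a) - x) > 0`. -/
theorem mem_transl_iff {n : ℕ} (hn : gen k C = n + 1) {κ : 𝟙_ (Over (Spec (CommRingCat.of k))) ⟶ J}
    (hκ : kcl h κ = om hX * pcl hX (sg hσ) ^ (2 * gen k C - 2)) (a : 𝟙_ (Over (Spec (CommRingCat.of k))) ⟶ J)
    (x : KPt k C) :
    pa (pm _ x.1 x.2 ≫ j) ∈ (Jac.transl J a).left.base '' W j n ↔
      0 < CurvePic.h k C 0 (kcl h (a * κ) * (pcl hX (sg hσ))⁻¹ ^ (n + 1) * pcl hX x) := by
  rw [pa_transl, mem_W_iff_h0 hX h hj, map_mul, map_inv, kcl_pm hX h hj, map_mul, hκ]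
  have e : 2 * gen k C - 2 = n + n := by omega
  rw [e]
  set q := pcl hX (sg hσ)
  set E := (pcl hX x)⁻¹ * q * (kcl h a)⁻¹ * q⁻¹ ^ n with hE
  have h1 := rr' hX E
  have h2 : deg k C E = n := by
    rw [hE, deg_mul hX, deg_mul hX, deg_mul hX, deg_inv hX, deg_inv hX, deg_pow hX, deg_inv hX, deg_pcl, deg_kcl hX h]
    have : deg k C q = -1 := deg_pcl hX _
    rw [this]; ring
  rw [h2, hn] at h1
  have h3 : om hX * E⁻¹ = kcl h a * (om hX * q ^ (n + n)) * q⁻¹ ^ (n + 1) * pcl hX x := by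
    rw [hE]
    cgroup
  rw [h3] at h1
  push_cast at h1
  omega

include hX hj in
theorem inter_main [GeometricallyConnected (C ↘ Spec (CommRingCat.of k))] [Smooth (C ↘ Spec (CommRingCat.of k))]
    {n : ℕ} (hn : gen k C = n + 1) (hK1 : K1 hX j n) {κ : 𝟙_ (Over (Spec (CommRingCat.of k))) ⟶ J}
    (hκ : kcl h κ = om hX * pcl hX (sg hσ) ^ (2 * gen k C - 2)) (a : 𝟙_ (Over (Spec (CommRingCat.of k))) ⟶ J)
    (ha : ¬ (W j 1 ⊆ (Jac.transl J a).left.base '' W j n)) :
    ∃ D : Fin (n + 1) → KPt k C,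
      (List.ofFn fun i => pm _ (D i).1 (D i).2 ≫ j).prod = a * κ ∧
      (∀ D' : Fin (n + 1) → KPt k C, (List.ofFn fun i => pm _ (D' i).1 (D' i).2 ≫ j).prod = a * κ →
        ∃ e : Equiv.Perm (Fin (n + 1)), ∀ i, D' i = D (e i)) ∧
      (Scheme.IdealSheafData.vanishingIdeal ⟨closure ((Jac.transl J a).left.base '' W j n), isClosed_closure⟩).comap
        j.left = ∏ i, (D i).1.ker := by
  have hint := hX.integral
  have hint' : AlgebraicGeometry.IsIntegral (Over.mk (C ↘ Spec (CommRingCat.of k))).left := hint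
  set q := pcl hX (sg hσ) with hq
  have hW := isClosed_transl a (isClosed_W j n)
  obtain ⟨D, hD⟩ := exists_pts_W hX h hj hn (a * κ)
  have hc : ∀ D' : Fin (n + 1) → KPt k C, (List.ofFn fun i => pm _ (D' i).1 (D' i).2 ≫ j).prod = a * κ →
      kcl h (a * κ) * q⁻¹ ^ (n + 1) = ∏ i, (pcl hX (D' i))⁻¹ := by
    intro D' hD'
    rw [← hD', kcl_prod hX h hj, inv_pow, mul_inv_cancel_right]
  have hcD := hc D hD.symm
  -- `h⁰ = 1`
  have h0 : CurvePic.h k C 0 (∏ i, (pcl hX (D i))⁻¹) = 1 := by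
    have h1 := h0_prod_pcl_pos hX D
    by_contra hne
    apply ha
    refine closed_subset (isClosed_W j 1) hW fun b hb => ?_
    obtain ⟨x, rfl⟩ := (mem_W_iff 1 b).1 hb
    rw [List.ofFn_succ, List.ofFn_zero, List.prod_singleton, mem_transl_iff hX h hj hn hκ, hcD]
    have h2 := h0_le_mul_pcl_add_one hX (∏ i, (pcl hX (D i))⁻¹) (x 0)
    omega
  refine ⟨D, hD.symm, fun D' hD' => ?_, ?_⟩
  · refine exists_perm_of_h0_eq_one hX D D' ?_ h0
    rw [← hcD, hc D' hD']
  · -- the ideal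
    have hE := isEff_theta hX h hj hn
    have hset := transl_W_eq hX h hj hn hκ a
    have hI : Scheme.IdealSheafData.vanishingIdeal ⟨closure ((Jac.transl J a).left.base '' W j n), isClosed_closure⟩ =
        IT j n (List.ofFn fun i => pm _ (D i).1 (D i).2 ≫ j).prod := by
      rw [IT, ← hD]
      congr 1
      apply TopologicalSpace.Closeds.ext
      change closure _ = closure _
      rw [hset]
    rw [hI]
    set I := IT j n (List.ofFn fun i => pm _ (D i).1 (D i).2 ≫ j).prod with hIdef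
    have hIE : BlowUp.IsEffCartierIdeal I := isEff_IT n hE _
    have hsupp : (I.support : Set J.left) = (Jac.transl J a).left.base '' W j n := by
      rw [← hI, Scheme.IdealSheafData.coe_support_vanishingIdeal]
      exact hW.closure_eq
    have hgen : j.left (genericPoint C) ∉ I.support := by
      intro hmem
      apply ha
      have h1 : Set.range j.left ⊆ (I.support : Set J.left) := by
        rintro _ ⟨c, rfl⟩
        exact ((genericPoint_specializes c).map j.left.continuous).mem_closed I.support.isClosed hmem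
      rw [hsupp] at h1
      refine subset_trans ?_ h1
      rintro _ ⟨c, rfl⟩
      have h2 : sm j 1 = pr (C ↘ Spec (CommRingCat.of k)) 1 0 ≫ j := by
        rw [sm, List.ofFn_succ, List.ofFn_zero, List.prod_singleton]
      rw [h2]
      exact ⟨_, (Scheme.Hom.comp_apply _ _ _).symm⟩
    have hIC : BlowUp.IsEffCartierIdeal (I.comap j.left) := Dix.InterSurf.isEff_comap_of_generic j.left hIE hgen
    obtain ⟨hE1, h2⟩ := exists_isEff_prod hX D
    refine zeroIdeal_eq hX h0 hIC hE1 ?_ h2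
    rw [← pull_dcl j.left hIE hIC]
    exact pull_IT hX h hj hn hK1 hE D

end K532.ThetaMain
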