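import Groth.Agent.JacVar.K532.DualAbel

/-!
# `λ_Θ` is an isomorphism and `Θ` is ample, `k` algebraically closed
-/

set_option autoImplicit false
universe u
open CategoryTheory CategoryTheory.Limits AlgebraicGeometry MonoidalCategory CartesianMonoidalCategory MonObj

namespace K532.A17134

open Groth.Agent Groth.Agent.Grpsch.PicGrp Groth.Agent.Picfga.ChiDef K914.HField

/-- Frozen S17134 over an algebraically closed field. -/
theorem main (k : Type u) [Field k] [IsAlgClosed k]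
    (X : Scheme.{u}) [X.Over (Spec (CommRingCat.of k))]
    [IsProper (X ↘ Spec (CommRingCat.of k))] [Smooth (X ↘ Spec (CommRingCat.of k))]
    [GeometricallyConnected (X ↘ Spec (CommRingCat.of k))] (hdim : topologicalKrullDim ↥X = 1)
    (g : ℕ) (hg : Curv2.genus k X = g) (hg1 : 1 ≤ g)
    (J : Over (Spec (CommRingCat.of k))) [GrpObj J] [IsCommMonObj J]
    (ψ : (ModFun.PicDeg (X ↘ Spec (CommRingCat.of k)) 0).Hom ⊤ J) (hJ : Jac.IsJacobian (X ↘ Spec (CommRingCat.of k)) ⊤ J ψ)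
    (N : X.Modules) (hN : PicF.IsInvertible N) (hNdeg : Curv2.deg k X N 1 = (g : ℤ) - 1)
    (ΘJ : J.left.Modules) (hΘJ : Jac.IsThetaLB (X ↘ Spec (CommRingCat.of k)) 0 ψ N ΘJ)
    (Jt : Over (Spec (CommRingCat.of k))) [GrpObj Jt] [IsCommMonObj Jt]
    (φ : AgPol.DualMap J Jt) (hJt : AbDual.IsDualAV Scheme.fppfPrecoverage J Jt φ)
    (lam : J ⟶ Jt) (hlam : AgPol.IsLambda J Jt φ ΘJ lam) :
    IsIso lam ∧ CohB1.IsAmple ΘJ := by
  refine ⟨?_, K532.ThetaAmple.theta_ample hdim hJ g hg hg1 N hN hNdeg ΘJ hΘJ⟩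
  obtain ⟨hX, hp, hgi, hs, σ, hσ, ξ, h, j, hj, hψ, hbase⟩ := K532.ThetaAmple.exists_setup hdim hJ
  have hn : chiK (X ↘ Spec (CommRingCat.of k)) (𝟙 (Spec (CommRingCat.of k))) 1 + (g : ℤ) = 1 := by
    rw [K914.Curve.chiK_one, hg]
    ring
  have hNd : dK (X ↘ Spec (CommRingCat.of k)) (𝟙 (Spec (CommRingCat.of k)))
      (K533.Cst.cst (X ↘ Spec (CommRingCat.of k)) (Over.mk (𝟙 _)) (mk N hN)) = (g : ℤ) - 1 := by
    have h1 := K531.ThetaLoc.chiK_pull_fst (C := X) (𝟙 (Spec (CommRingCat.of k))) (mk N hN)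
    rw [K532.CurvePic.deg_mk k X hdim, hNdeg] at h1
    exact h1
  exact K532.DualAbel.isIso_lam h hJt (K533.ThetaLocus.compatCl_of_compat hψ) hj hN hn hNd hΘJ hlam hdim hbase

end K532.A17134
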