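import Groth.Agent.JacVar.K532.Dict

/-!
# From `Jac.IsJacobian` to the rigidified Jacobian
-/

set_option autoImplicit false
universe u
open CategoryTheory CategoryTheory.Limits AlgebraicGeometry MonObj MonoidalCategory CartesianMonoidalCategory

namespace K532.Setup

open Groth.Agent Groth.Agent.Grpsch.PicGrp Groth.Agent.Fga.RigGrp Groth.Agent.Sga7.H732.Hedge
open Groth.Agent.Sga7.H732 K532.UnitBase K532.CurvePic K532.CurvePts K532.Dict Groth.Agent.Fga.JacSum

variable {k : Type u} [Field k]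

/-- Compatibility of the classifying map with the universal class. -/
def Compat {C : Scheme.{u}} (f : C ⟶ Spec (CommRingCat.of k)) [IsProper f] (hdim : topologicalKrullDim C = 1)
    (σ : Spec (CommRingCat.of k) ⟶ C) (hσ : σ ≫ f = 𝟙 (Spec (CommRingCat.of k)))
    (J : Over (Spec (CommRingCat.of k))) (ψ : (ModFun.PicDeg f 0).Hom ⊤ J) (ξ : Pic (PicF.XT f J)) : Prop :=
  ∀ (T : Over (Spec (CommRingCat.of k))) (L : (PicF.XT f T).Modules) (hT : (⊤ : ObjectProperty _) T)
    (hL : (ModFun.PicDeg f 0).ok T L), pull (PicF.XTmap f (ψ.app T L hT hL)) ξ = norm f σ hσ T (Fine.cls f hdim hL)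

/-- **The Jacobian in the sense of coarse moduli is the rigidified Jacobian.** -/
theorem exists_isJac (hJK : JK.{u}) {C : Scheme.{u}} {f : C ⟶ Spec (CommRingCat.of k)} [IsProper f] [Smooth f]
    [GeometricallyConnected f] (hdim : topologicalKrullDim C = 1)
    (σ : Spec (CommRingCat.of k) ⟶ C) (hσ : σ ≫ f = 𝟙 (Spec (CommRingCat.of k)))
    {J : Over (Spec (CommRingCat.of k))} [GrpObj J] {ψ : (ModFun.PicDeg f 0).Hom ⊤ J}
    (hJ : Jac.IsJacobian f ⊤ J ψ) :
    ∃ ξ : Pic (PicF.XT f J), IsJac f σ hσ J ξ ∧ Compat f hdim σ hσ J ψ ξ ∧ IsProper J.hom ∧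
      GeometricallyIntegral J.hom := by
  have hX := Base.isSmoothProperCurve f hdim
  obtain ⟨J₀, _, ξ₀, hp, hg, h₀⟩ := hJK k C f hX (Base.geometricallyIntegral f) σ hσ
  obtain ⟨e, he, h1⟩ := Fine.exists_iso hdim h₀ hJ
  refine ⟨pull (PicF.XTmap f e.hom) ξ₀, Fine.isJac_of_iso h₀ e, ?_, ?_, ?_⟩
  · intro T L hT hL
    rw [← pull_comp, ← XTmap_comp, h1, Fine.pull_psi]
  · have h2 : J.hom = e.hom.left ≫ J₀.hom := (Over.w e.hom).symm
    have h3 : IsIso e.hom.left := inferInstanceAs (IsIso ((Over.forget _).map e.hom))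
    rw [h2]
    infer_instance
  · have h2 : J.hom = e.hom.left ≫ J₀.hom := (Over.w e.hom).symm
    have h3 : IsIso e.hom.left := inferInstanceAs (IsIso ((Over.forget _).map e.hom))
    have h4 : MorphismProperty.RespectsIso @GeometricallyIntegral.{u} :=
      MorphismProperty.IsStableUnderBaseChange.respectsIso
    rw [h2]
    exact (MorphismProperty.cancel_left_of_respectsIso @GeometricallyIntegral.{u} e.hom.left J₀.hom).2 hg

theorem isAbel {C : Scheme.{u}} {f : C ⟶ Spec (CommRingCat.of k)} [IsProper f] [SmoothOfRelativeDimension 1 f]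
    {hdim : topologicalKrullDim C = 1}
    {σ : Spec (CommRingCat.of k) ⟶ C} {hσ : σ ≫ f = 𝟙 (Spec (CommRingCat.of k))}
    {J : Over (Spec (CommRingCat.of k))} [GrpObj J] {ψ : (ModFun.PicDeg f 0).Hom ⊤ J} {ξ : Pic (PicF.XT f J)}
    (h : IsJac f σ hσ J ξ) (hψ : Compat f hdim σ hσ J ψ ξ) {j : Over.mk f ⟶ J}
    (hj : Jac.IsAbelJacobiAt f σ ψ j) : IsAbel h j :=
  isAbel_of_isAbelJacobiAt h hdim hψ hj

end K532.Setup
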