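import Groth.Agent.JacVar.K532.CurvePts
import Groth.Agent.JacVar.K532.Fine

/-!
# Rational points of the Jacobian and classes on the curve

For a Jacobian `(J, ξ)` in the rigidified sense of a smooth proper curve `f : C ⟶ Spec k`:
* `kcl h : (𝟙_ ⟶ J) →* Pic C`, injective with image the classes of degree zero;
* `IsAbel h j`: `j` is the Abel map; `isAbel_of_isAbelJacobiAt`;
* `kcl_comp`: `kcl (x ≫ j) = O(x - σ)`.
-/

set_option autoImplicit false
universe u
open CategoryTheory CategoryTheory.Limits AlgebraicGeometry MonObj MonoidalCategory CartesianMonoidalCategory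

namespace K532.Dict

open Groth.Agent Groth.Agent.Grpsch.PicGrp Groth.Agent.Fga.RigGrp Groth.Agent.Fga.JacSum Groth.Agent.Fga
open Groth.Agent.Fga.JacFactor Groth.Agent.Fga.JacSurj Groth.Agent.Picfga.ChiDef Groth.Agent.Sga7.H732.Hedge
open Groth.Agent.Fdesc.LocGen Groth.Agent.Sga7.H732 K532.UnitBase K532.CurvePic K532.CurvePts

section general

variable {k : Type u} [Field k] {C : Scheme.{u}} {f : C ⟶ Spec (CommRingCat.of k)}
  {σ : Spec (CommRingCat.of k) ⟶ C} {hσ : σ ≫ f = 𝟙 (Spec (CommRingCat.of k))}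
  {J : Over (Spec (CommRingCat.of k))} [GrpObj J] {ξ : Pic (PicF.XT f J)} (h : IsJac f σ hσ J ξ)

/-- The class on `C` of a rational point of the Jacobian. -/
noncomputable def kcl : (𝟙_ (Over (Spec (CommRingCat.of k))) ⟶ J) →* Pic C :=
  (uiPic f).toMonoidHom.comp (Abel.cls h (𝟙_ (Over (Spec (CommRingCat.of k)))))

theorem kcl_apply (a : 𝟙_ (Over (Spec (CommRingCat.of k))) ⟶ J) :
    kcl h a = pull (ui f) (Abel.cls h (𝟙_ (Over (Spec (CommRingCat.of k)))) a) := rfl

theorem kcl_injective [QuasiCompact f] [IsSeparated f] : Function.Injective (kcl h) :=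
  (uiPic f).injective.comp (Abel.cls_injective h _)

variable [SmoothOfRelativeDimension 1 f] [IsSeparated f]

/-- `j` is the Abel map of `(J, ξ)`. -/
def IsAbel (j : Over.mk f ⟶ J) : Prop :=
  ∀ (T : Over (Spec (CommRingCat.of k))) (z : Pt f T), Abel.cls h T (Abel.ptHom z ≫ j) = acl f σ hσ z

omit [IsSeparated f] [SmoothOfRelativeDimension 1 f] in
theorem fst_ui : pullback.fst f f ≫ ui f = PicF.XTmap f (toUnit (Over.mk f)) := by
  apply pullback.hom_ext
  · rw [Category.assoc, ui_fst, Category.comp_id]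
    exact (Fga.RigGrp.XTmap_fst f (toUnit (Over.mk f))).symm
  · rw [Category.assoc]
    refine (congrArg (fun z => pullback.fst f f ≫ z) (ui_proj f)).trans ?_
    rw [pullback.condition]
    have h1 := Fga.RigGrp.XTmap_XTproj f (toUnit (Over.mk f))
    have h2 : (toUnit (Over.mk f)).left = f := by
      have := Over.w (toUnit (Over.mk f))
      exact (Category.comp_id _).symm.trans this
    rw [h2] at h1
    exact h1.symm

omit [IsSeparated f] [SmoothOfRelativeDimension 1 f] in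
theorem toUnit_left (T : Over (Spec (CommRingCat.of k))) : (toUnit T).left = T.hom := by
  have := Over.w (toUnit T)
  exact (Category.comp_id _).symm.trans this

theorem pull_fst_ker (σ : Spec (CommRingCat.of k) ⟶ C) (hσ : σ ≫ f = 𝟙 (Spec (CommRingCat.of k))) :
    pull (pullback.fst f f) (dcl σ.ker (isEff_ker f σ hσ)) = gcl f (Pt.ofSection hσ (Over.mk f)) := by
  rw [← pull_ui_gcl f σ hσ, ← pull_comp, fst_ui, pull_gcl]
  rfl

theorem isAbel_of_isAbelJacobiAt [IsProper f] (hdim : topologicalKrullDim C = 1)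
    {ψ : (ModFun.PicDeg f 0).Hom ⊤ J}
    (hψ : ∀ (T : Over (Spec (CommRingCat.of k))) (L : (PicF.XT f T).Modules) (hT : (⊤ : ObjectProperty _) T)
      (hL : (ModFun.PicDeg f 0).ok T L), pull (PicF.XTmap f (ψ.app T L hT hL)) ξ =
        norm f σ hσ T (Fine.cls f hdim hL))
    {j : Over.mk f ⟶ J} (hj : Jac.IsAbelJacobiAt f σ ψ j) : IsAbel h j := by
  obtain ⟨hP, L, hL, ⟨hLi, ⟨e⟩⟩, rfl⟩ := hj
  have h1 : Fine.cls f hdim hL = (gcl f (Abel.idPt (f := f)))⁻¹ * gcl f (Pt.ofSection hσ (Over.mk f)) := by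
    rw [eq_inv_mul_iff_mul_eq, mul_comm, ← pull_fst_ker σ hσ]
    have h2 : gcl f (Abel.idPt (f := f)) = mk (ClSub.idealMod (pullback.diagonal f).ker)
        (Dix.IdealModCartier.isInvertible_idealMod (isEff_secGraph f (Abel.idPt (f := f)))) := rfl
    rw [h2, Fine.cls, mk_mul_mk, dcl, pull_mk, mk_eq_iff]
    exact ⟨e⟩
  have h2 : Abel.cls h (Over.mk f) (ψ.app (Over.mk f) L hP hL) = acl f σ hσ (Abel.idPt (f := f)) := by
    rw [Abel.cls_apply, hψ, h1]
    rfl
  intro T z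
  rw [Abel.cls_comp, h2, pull_acl, Abel.idPt_comp]

omit [IsSeparated f] [SmoothOfRelativeDimension 1 f] in
variable (f) in
/-- The rational point of `C` as a morphism. -/
noncomputable abbrev pm (x : Spec (CommRingCat.of k) ⟶ C) (hx : x ≫ f = 𝟙 (Spec (CommRingCat.of k))) :
    𝟙_ (Over (Spec (CommRingCat.of k))) ⟶ Over.mk f := Over.homMk x hx

theorem kcl_comp {j : Over.mk f ⟶ J} (hj : IsAbel h j) (x : Spec (CommRingCat.of k) ⟶ C)
    (hx : x ≫ f = 𝟙 (Spec (CommRingCat.of k))) :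
    kcl h (pm f x hx ≫ j) = (dcl x.ker (isEff_ker f x hx))⁻¹ * dcl σ.ker (isEff_ker f σ hσ) := by
  have h1 := hj (𝟙_ _) (pt f x hx)
  have h2 : Abel.ptHom (pt f x hx) = pm f x hx := rfl
  rw [h2] at h1
  rw [kcl_apply, h1]
  have h3 := JacAlg.acl_field f σ hσ k (𝟙 _) (pt f x hx)
  have h4 : Pt.ofSection hσ (Over.mk (𝟙 (Spec (CommRingCat.of k)))) = pt f σ hσ :=
    Subtype.ext (Category.id_comp _)
  rw [h4] at h3
  refine (congrArg (pull (ui f)) h3).trans ?_
  rw [map_mul, map_inv]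
  exact congrArg₂ (fun a b => a⁻¹ * b) (pull_ui_gcl f x hx) (pull_ui_gcl f σ hσ)

end general

section curve

variable {k : Type u} [Field k] {C : Scheme.{u}} [C.Over (Spec (CommRingCat.of k))] (hX : IsCurve k C)
  {σ : Spec (CommRingCat.of k) ⟶ C} {hσ : σ ≫ (C ↘ Spec (CommRingCat.of k)) = 𝟙 (Spec (CommRingCat.of k))}
  {J : Over (Spec (CommRingCat.of k))} [GrpObj J] {ξ : Pic (PicF.XT (C ↘ Spec (CommRingCat.of k)) J)}
  (h : IsJac (C ↘ Spec (CommRingCat.of k)) σ hσ J ξ)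

include hX in
theorem deg_eq_zero_iff (c : Pic (PicF.XT (C ↘ Spec (CommRingCat.of k)) (𝟙_ (Over (Spec (CommRingCat.of k)))))) :
    FGA.HasFibreDegreeZeroCl (C ↘ Spec (CommRingCat.of k)) (𝟙_ _) (toCl c) ↔
      deg k C (pull (ui (C ↘ Spec (CommRingCat.of k))) c) = 0 := by
  have := hX.proper
  let f := C ↘ Spec (CommRingCat.of k)
  rw [Abel.deg_iff]
  have h1 : ∀ c : Pic (PicF.XT f (Over.mk (𝟙 (Spec (CommRingCat.of k))))),
      (letI := overK f (𝟙 (Spec (CommRingCat.of k)))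
      Etcore.DegZero.dg k (PicF.XT f (Over.mk (𝟙 (Spec (CommRingCat.of k))))) c) =
        chiK f (𝟙 _) c - chiK f (𝟙 _) 1 := by
    intro c
    obtain ⟨L, hL, rfl⟩ := exists_mk c
    rfl
  have h2 : ∀ (τ : (𝟙_ (Over (Spec (CommRingCat.of k)))).left)
      (c : Pic (PicF.XT f (𝟙_ (Over (Spec (CommRingCat.of k)))))), chiAt f (𝟙_ _) τ c = chiK f (𝟙 _) c := by
    intro τ c
    have h3 := chiPt_eq_chiAt (JacFib.bcStep f) (Over.mk (𝟙 (Spec (CommRingCat.of k)))) (𝟙 (Spec (CommRingCat.of k))) τ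
      (fun z => Subsingleton.elim (α := PrimeSpectrum k) _ _) c
    refine h3.symm.trans ?_
    rw [chiPt]
    have h4 := chiK_congr (Category.comp_id (𝟙 (Spec (CommRingCat.of k))))
      (ofHom (Over.mk (𝟙 (Spec (CommRingCat.of k)))) (𝟙 (Spec (CommRingCat.of k)))) (𝟙 _) rfl c
    refine h4.trans ?_
    rw [Fga.RigGrp.XTmap_id, pull_id]
  have h5 : deg k C (pull (ui f) c) = chiK f (𝟙 _) c - chiK f (𝟙 _) 1 := (dg_ui c).trans (h1 c)
  rw [h5, sub_eq_zero]
  constructor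
  · intro h6
    exact (h2 _ c).symm.trans ((h6 (IsLocalRing.closedPoint k)).trans (h2 _ 1))
  · intro h6 τ
    exact (h2 _ c).trans (h6.trans (h2 _ 1).symm)

include hX in
theorem deg_kcl (a : 𝟙_ (Over (Spec (CommRingCat.of k))) ⟶ J) : deg k C (kcl h a) = 0 := by
  have := hX.proper
  rw [kcl_apply]
  exact (deg_eq_zero_iff hX _).1 (Abel.deg_pull _ _ h.deg)

include hX in
theorem exists_kcl {c : Pic C} (hc : deg k C c = 0) : ∃ a : 𝟙_ (Over (Spec (CommRingCat.of k))) ⟶ J, kcl h a = c := by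
  let f := C ↘ Spec (CommRingCat.of k)
  obtain ⟨c', rfl⟩ := (uiPic f).surjective c
  have h1 := (deg_eq_zero_iff hX c').2 hc
  have h2 : c' ∈ Rg f σ hσ (𝟙_ (Over (Spec (CommRingCat.of k)))) := by
    rw [mem_Rg]
    exact pic_spec_local k _
  obtain ⟨a, ha, -⟩ := h.univ (𝟙_ _) c' h2 h1
  refine ⟨a, ?_⟩
  rw [kcl_apply, Abel.cls_apply, ha]
  rfl

end curve

end K532.Dict
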