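import Groth.Agent.JacVar.K532.CurvePts

/-!
# Effective divisors as multisets of points

* `mcl hX s`: the class of `O(Σ_{x ∈ s} x)`.
* `exists_mcl`, `mcl_inj`, `pos_or_pos`.
-/

set_option autoImplicit false
universe u
open CategoryTheory CategoryTheory.Limits AlgebraicGeometry Opposite TopologicalSpace

namespace K532.MultPts

open Groth.Agent Groth.Agent.Grpsch.PicGrp K532.CurvePic K532.UnitBase K532.CurvePts

variable {k : Type u} [Field k] {X : Scheme.{u}} [X.Over (Spec (CommRingCat.of k))] (hX : IsCurve k X)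

/-- The class of a sum of points. -/
noncomputable def mcl (s : Multiset (KPt k X)) : Pic X := (s.map fun x => (pcl hX x)⁻¹).prod

@[simp] theorem mcl_zero : mcl hX 0 = 1 := by rw [mcl, Multiset.map_zero, Multiset.prod_zero]

@[simp] theorem mcl_cons (x : KPt k X) (s : Multiset (KPt k X)) : mcl hX (x ::ₘ s) = (pcl hX x)⁻¹ * mcl hX s := by
  rw [mcl, Multiset.map_cons, Multiset.prod_cons, mcl]

theorem mcl_add (s t : Multiset (KPt k X)) : mcl hX (s + t) = mcl hX s * mcl hX t := by
  rw [mcl, Multiset.map_add, Multiset.prod_add, mcl, mcl]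

theorem mcl_ofFn {d : ℕ} (x : Fin d → KPt k X) :
    mcl hX (Finset.univ.val.map x) = ∏ i, (pcl hX (x i))⁻¹ := by
  rw [mcl, Multiset.map_map]
  rfl

theorem exists_fin (s : Multiset (KPt k X)) : ∃ x : Fin (Multiset.card s) → KPt k X, s = Finset.univ.val.map x := by
  induction s using Quotient.inductionOn with | _ l => ?_
  refine ⟨fun i => l.get i, ?_⟩
  simp only [Fin.univ_val_map]
  exact congrArg _ (List.ofFn_get l).symm

theorem deg_mcl (s : Multiset (KPt k X)) : deg k X (mcl hX s) = Multiset.card s := by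
  induction s using Multiset.induction_on with
  | empty => rw [mcl_zero, deg_one]; simp
  | cons x s ih => rw [mcl_cons, deg_mul hX, deg_inv hX, deg_pcl, ih, Multiset.card_cons]; push_cast; ring

theorem h0_mcl_pos (s : Multiset (KPt k X)) : 0 < h k X 0 (mcl hX s) := by
  induction s using Multiset.induction_on with
  | empty => rw [mcl_zero, h0_one hX]; exact Nat.one_pos
  | cons x s ih => rw [mcl_cons]; exact h0_mul_pos hX (h0_inv_pcl_pos hX x) ih

variable [IsAlgClosed k]

theorem exists_mcl {c : Pic X} (hc : 0 < h k X 0 c) : ∃ s, c = mcl hX s := by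
  obtain ⟨d, x, hx⟩ := exists_pts hX hc
  exact ⟨_, hx.trans (mcl_ofFn hX x).symm⟩

theorem mcl_inj {s t : Multiset (KPt k X)} (hs : h k X 0 (mcl hX s) = 1) (hst : mcl hX s = mcl hX t) : s = t := by
  obtain ⟨x, hx⟩ := exists_fin s
  obtain ⟨y, hy⟩ := exists_fin t
  rw [hx, hy, mcl_ofFn, mcl_ofFn] at hst
  rw [hx, mcl_ofFn] at hs
  rw [hx, hy]
  exact map_eq_of_h0_eq_one hX x y hst hs

/-- If `h⁰(A B) = 1` with `A`, `B` effective and `A B (-p)` effective then `A(-p)` or `B(-p)` is effective. -/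
theorem pos_or_pos {a b : Pic X} (ha : 0 < h k X 0 a) (hb : 0 < h k X 0 b) (hab : h k X 0 (a * b) = 1)
    (p : KPt k X) (hp : 0 < h k X 0 (a * b * pcl hX p)) :
    0 < h k X 0 (a * pcl hX p) ∨ 0 < h k X 0 (b * pcl hX p) := by
  obtain ⟨s, rfl⟩ := exists_mcl hX ha
  obtain ⟨t, rfl⟩ := exists_mcl hX hb
  obtain ⟨r, hr⟩ := exists_mcl hX hp
  have h1 : mcl hX (s + t) = mcl hX (p ::ₘ r) := by
    rw [mcl_cons, ← hr, mcl_add, mul_comm (pcl hX p)⁻¹, mul_inv_cancel_right]
  have h2 := mcl_inj hX (by rw [mcl_add]; exact hab) h1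
  have h3 : p ∈ s + t := by rw [h2]; exact Multiset.mem_cons_self _ _
  rcases Multiset.mem_add.1 h3 with h4 | h4
  · left
    obtain ⟨s', rfl⟩ := Multiset.exists_cons_of_mem h4
    rw [mcl_cons, mul_comm (pcl hX p)⁻¹, inv_mul_cancel_right]
    exact h0_mcl_pos hX s'
  · right
    obtain ⟨s', rfl⟩ := Multiset.exists_cons_of_mem h4
    rw [mcl_cons, mul_comm (pcl hX p)⁻¹, inv_mul_cancel_right]
    exact h0_mcl_pos hX s'

end K532.MultPts
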