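import Groth.Agent.JacVar.K532.Wr
import Groth.Agent.JacVar.K532.MultPts
import Groth.Agent.JacVar.K532.CGroup

/-!
# The sets `W^r` and the canonical point

* `pa_transl`, `pa_inv`: rational points of translates and inverses.
* `reflect`: `(W^{g-1}_a)^* = W^{g-1}_{a⁻¹}`.
* `inter_eq`: the intersection `W^{r+1}_a ∩ W^{g-1}_b`.
-/

set_option autoImplicit false
universe u
open CategoryTheory CategoryTheory.Limits AlgebraicGeometry MonoidalCategory CartesianMonoidalCategory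
open scoped MonObj

namespace K532.Theta1

open Groth.Agent Groth.Agent.Grpsch.PicGrp Groth.Agent.Fga.RigGrp Groth.Agent.Sga7.H732.Hedge
open Groth.Agent.Sga7.H732 K532.UnitBase K532.CurvePic K532.CurvePts K532.Dict Groth.Agent.Fga.JacSum
open Groth.Agent.Fga.JacFactor K532.Setup K532.KPts K532.Wr K532.MultPts

section grp

variable {k : Type u} [Field k] {J : Over (Spec (CommRingCat.of k))} [GrpObj J]

theorem comp_transl {T : Over (Spec (CommRingCat.of k))} (b : T ⟶ J)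
    (a : 𝟙_ (Over (Spec (CommRingCat.of k))) ⟶ J) : b ≫ Jac.transl J a = b * (toUnit T ≫ a) := by
  have h1 : b ≫ toUnit J = toUnit T := toUnit_unique _ _
  rw [Jac.transl, MonObj.comp_mul, Category.comp_id, ← Category.assoc, h1]

theorem comp_transl' (b a : 𝟙_ (Over (Spec (CommRingCat.of k))) ⟶ J) : b ≫ Jac.transl J a = b * a := by
  rw [comp_transl]
  have h1 : toUnit (𝟙_ (Over (Spec (CommRingCat.of k)))) = 𝟙 _ := toUnit_unique _ _
  rw [h1, Category.id_comp]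

theorem transl_transl (a : 𝟙_ (Over (Spec (CommRingCat.of k))) ⟶ J) :
    Jac.transl J a ≫ Jac.transl J a⁻¹ = 𝟙 J := by
  rw [comp_transl, Jac.transl, GrpObj.comp_inv, mul_inv_cancel_right]

theorem transl_transl' (a : 𝟙_ (Over (Spec (CommRingCat.of k))) ⟶ J) :
    Jac.transl J a⁻¹ ≫ Jac.transl J a = 𝟙 J := by
  have := transl_transl a⁻¹
  rwa [inv_inv] at this

theorem inv_inv' : (𝟙 J)⁻¹ ≫ (𝟙 J)⁻¹ = 𝟙 J := by
  rw [GrpObj.comp_inv, Category.comp_id, inv_inv]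

theorem pa_transl (a b : 𝟙_ (Over (Spec (CommRingCat.of k))) ⟶ J) (A : Set J.left) :
    pa b ∈ (Jac.transl J a).left.base '' A ↔ pa (b * a⁻¹) ∈ A := by
  rw [← comp_transl']
  exact pa_mem_image_iff (Jac.transl J a) (Jac.transl J a⁻¹) (transl_transl a) (transl_transl' a) A b

theorem pa_inv (b : 𝟙_ (Over (Spec (CommRingCat.of k))) ⟶ J) (A : Set J.left) :
    pa b ∈ ((𝟙 J)⁻¹).left.base '' A ↔ pa b⁻¹ ∈ A := by
  have h1 : b ≫ (𝟙 J)⁻¹ = b⁻¹ := by rw [GrpObj.comp_inv, Category.comp_id]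
  rw [← h1]
  exact pa_mem_image_iff ((𝟙 J)⁻¹) ((𝟙 J)⁻¹) inv_inv' inv_inv' A b

theorem isClosed_transl (a : 𝟙_ (Over (Spec (CommRingCat.of k))) ⟶ J) {A : Set J.left} (hA : IsClosed A) :
    IsClosed ((Jac.transl J a).left.base '' A) :=
  isClosed_image (Jac.transl J a) (Jac.transl J a⁻¹) (transl_transl a) (transl_transl' a) hA

theorem isClosed_inv {A : Set J.left} (hA : IsClosed A) : IsClosed (((𝟙 J)⁻¹).left.base '' A) :=
  isClosed_image ((𝟙 J)⁻¹) ((𝟙 J)⁻¹) inv_inv' inv_inv' hA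

end grp

section curve

variable {k : Type u} [Field k] [IsAlgClosed k] {C : Scheme.{u}} [C.Over (Spec (CommRingCat.of k))] (hX : IsCurve k C)
  {σ : Spec (CommRingCat.of k) ⟶ C} {hσ : σ ≫ (C ↘ Spec (CommRingCat.of k)) = 𝟙 (Spec (CommRingCat.of k))}
  {J : Over (Spec (CommRingCat.of k))} [GrpObj J] {ξ : Pic (PicF.XT (C ↘ Spec (CommRingCat.of k)) J)}
  (h : IsJac (C ↘ Spec (CommRingCat.of k)) σ hσ J ξ) [IsProper (C ↘ Spec (CommRingCat.of k))] [IsProper J.hom]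
  [SmoothOfRelativeDimension 1 (C ↘ Spec (CommRingCat.of k))]
  {j : Over.mk (C ↘ Spec (CommRingCat.of k)) ⟶ J} (hj : IsAbel h j)

include hX hj

/-- `(W^{g-1}_a)^* = W^{g-1}_{a⁻¹}`. -/
theorem reflect (hg : 1 ≤ gen k C) {κ : 𝟙_ (Over (Spec (CommRingCat.of k))) ⟶ J}
    (hκ : kcl h κ = om hX * pcl hX (sg hσ) ^ (2 * gen k C - 2)) (a : 𝟙_ (Over (Spec (CommRingCat.of k))) ⟶ J) :
    (Jac.transl J κ).left.base '' (((𝟙 J)⁻¹).left.base '' ((Jac.transl J a).left.base '' W j (gen k C - 1))) =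
      (Jac.transl J a⁻¹).left.base '' W j (gen k C - 1) := by
  have hW := isClosed_W j (gen k C - 1)
  refine closed_ext (isClosed_transl _ (isClosed_inv (isClosed_transl _ hW))) (isClosed_transl _ hW) fun b => ?_
  rw [pa_transl, pa_inv, pa_transl, pa_transl, mem_W_iff_h0 hX h hj, mem_W_iff_h0 hX h hj]
  simp only [map_mul, map_inv, inv_inv, mul_inv_rev]
  rw [hκ]
  obtain ⟨n, hn⟩ : ∃ n, gen k C = n + 1 := ⟨gen k C - 1, by omega⟩
  have h1 : 2 * gen k C - 2 = n + n := by omega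
  have h2 : gen k C - 1 = n := by omega
  rw [h1, h2]
  have h3 := rr' hX (kcl h b * kcl h a * (pcl hX (sg hσ))⁻¹ ^ n)
  have h4 : deg k C (kcl h b * kcl h a * (pcl hX (sg hσ))⁻¹ ^ n) = n := by
    rw [deg_mul hX, deg_mul hX, deg_kcl hX h, deg_kcl hX h, deg_pow hX, deg_inv hX, deg_pcl]
    simp
  rw [h4] at h3
  have h5 : om hX * pcl hX (sg hσ) ^ (n + n) * (kcl h b)⁻¹ * (kcl h a)⁻¹ * (pcl hX (sg hσ))⁻¹ ^ n =
      om hX * (kcl h b * kcl h a * (pcl hX (sg hσ))⁻¹ ^ n)⁻¹ := by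
    cgroup
  rw [h5]
  omega

omit [IsProper J.hom] [IsAlgClosed k] [IsProper (C ↘ Spec (CommRingCat.of k))]
  [SmoothOfRelativeDimension 1 (C ↘ Spec (CommRingCat.of k))] hj in
theorem deg_twist (r : ℕ) (a : 𝟙_ (Over (Spec (CommRingCat.of k))) ⟶ J) :
    deg k C (kcl h a * (pcl hX (sg hσ))⁻¹ ^ r) = r := by
  rw [deg_mul hX, deg_kcl hX h, deg_pow hX, deg_inv hX, deg_pcl]
  simp

/-- The intersection `W^{r+1}_a ∩ W^{g-1}_b`. -/
theorem inter_eq (hg : 2 ≤ gen k C) {κ : 𝟙_ (Over (Spec (CommRingCat.of k))) ⟶ J}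
    (hκ : kcl h κ = om hX * pcl hX (sg hσ) ^ (2 * gen k C - 2)) (r : ℕ) (hr : r ≤ gen k C - 2)
    (a b x y : 𝟙_ (Over (Spec (CommRingCat.of k))) ⟶ J) (hx : pa x ∈ W j 1) (hy : pa y ∈ W j (gen k C - 1 - r))
    (hab : a * x = b * y)
    (hnot : ¬ ((Jac.transl J a).left.base '' W j (r + 1) ⊆ (Jac.transl J b).left.base '' W j (gen k C - 1))) :
    (Jac.transl J a).left.base '' W j (r + 1) ∩ (Jac.transl J b).left.base '' W j (gen k C - 1) =
      (Jac.transl J (a * x)).left.base '' W j r ∪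
        ((Jac.transl J a).left.base '' W j (r + 1) ∩
          (Jac.transl J κ).left.base '' (((𝟙 J)⁻¹).left.base '' ((Jac.transl J (y * a⁻¹)).left.base ''
            W j (gen k C - 2)))) := by
  have hW : ∀ n, IsClosed (W j n) := isClosed_W j
  refine closed_ext ((isClosed_transl _ (hW _)).inter (isClosed_transl _ (hW _)))
    ((isClosed_transl _ (hW _)).union ((isClosed_transl _ (hW _)).inter
      (isClosed_transl _ (isClosed_inv (isClosed_transl _ (hW _)))))) fun c => ?_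
  obtain ⟨P, hP⟩ := (mem_W_iff 1 x).1 hx
  obtain ⟨Q, hQ⟩ := (mem_W_iff (gen k C - 1 - r) y).1 hy
  set q := pcl hX (sg hσ) with hq
  have ex : kcl h x = (pcl hX (P 0))⁻¹ * q := by
    rw [hP, kcl_prod hX h hj, Fin.prod_univ_one, pow_one]
  obtain ⟨Y, hYpos, hY⟩ : ∃ Y : Pic C, 0 < CurvePic.h k C 0 Y ∧ kcl h y = Y * q ^ (gen k C - 1 - r) :=
    ⟨_, h0_prod_pcl_pos hX Q, by rw [hQ, kcl_prod hX h hj]⟩
  set p := pcl hX (P 0) with hp
  obtain ⟨n, hn⟩ : ∃ n, gen k C = r + n + 2 := ⟨gen k C - 2 - r, by omega⟩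
  have n1 : gen k C - 1 = r + n + 1 := by omega
  have n2 : gen k C - 1 - r = n + 1 := by omega
  have n3 : gen k C - 2 = r + n := by omega
  have n4 : 2 * gen k C - 2 = (r + n + 1) + (r + n + 1) := by omega
  rw [n2] at hY
  rw [n4] at hκ
  have hab' : kcl h b = kcl h a * kcl h x * (kcl h y)⁻¹ := by
    have := congrArg (kcl h) hab
    rw [map_mul, map_mul] at this
    rw [this, mul_inv_cancel_right]
  rw [ex, hY] at hab'
  set a' := kcl h a with ha'
  set c' := kcl h c with hc'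
  -- the classes
  let E : Pic C := c' * a'⁻¹ * q⁻¹ ^ (r + 1)
  have m1 : pa c ∈ (Jac.transl J a).left.base '' W j (r + 1) ↔ 0 < CurvePic.h k C 0 E := by
    rw [pa_transl, mem_W_iff_h0 hX h hj, map_mul, map_inv]
  have m2 : pa c ∈ (Jac.transl J b).left.base '' W j (gen k C - 1) ↔ 0 < CurvePic.h k C 0 (E * Y * p) := by
    rw [pa_transl, mem_W_iff_h0 hX h hj, map_mul, map_inv, hab', n1]
    have : kcl h c * (a' * (p⁻¹ * q) * (Y * q ^ (n + 1))⁻¹)⁻¹ * (pcl hX (sg hσ))⁻¹ ^ (r + n + 1) = E * Y * p := by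
      rw [← hq, ← hc']
      simp only [E]
      cgroup
    rw [this]
  have m3 : pa c ∈ (Jac.transl J (a * x)).left.base '' W j r ↔ 0 < CurvePic.h k C 0 (E * p) := by
    rw [pa_transl, mem_W_iff_h0 hX h hj, map_mul, map_inv, map_mul, ex]
    have : kcl h c * (kcl h a * (p⁻¹ * q))⁻¹ * (pcl hX (sg hσ))⁻¹ ^ r = E * p := by
      rw [← hq, ← hc', ← ha']
      simp only [E]
      cgroup
    rw [this]
  have m4 : pa c ∈ (Jac.transl J κ).left.base '' (((𝟙 J)⁻¹).left.base '' ((Jac.transl J (y * a⁻¹)).left.base ''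
            W j (gen k C - 2))) ↔ 0 < CurvePic.h k C 0 (om hX * (E * Y)⁻¹) := by
    rw [pa_transl, pa_inv, pa_transl, mem_W_iff_h0 hX h hj]
    simp only [map_mul, map_inv]
    rw [hκ, hY, n3]
    have : (kcl h c * (om hX * q ^ (r + n + 1 + (r + n + 1)))⁻¹)⁻¹ * (Y * q ^ (n + 1) * (kcl h a)⁻¹)⁻¹ *
        (pcl hX (sg hσ))⁻¹ ^ (r + n) = om hX * (E * Y)⁻¹ := by
      rw [← hq, ← hc', ← ha']
      simp only [E]
      cgroup
    rw [this]
  rw [Set.mem_inter_iff, Set.mem_union, Set.mem_inter_iff, m1, m2, m3, m4]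
  have hE : deg k C E = r + 1 := by
    have := deg_twist hX h (r + 1) (c * a⁻¹)
    rw [map_mul, map_inv] at this
    push_cast at this
    exact this
  have hYd : deg k C Y = n + 1 := by
    have h1 := deg_kcl hX h y
    rw [hY, deg_mul hX, deg_pow hX, hq, deg_pcl] at h1
    push_cast at h1
    linarith
  have hG := rr' hX (E * Y)
  rw [deg_mul hX, hE, hYd, hn] at hG
  push_cast at hG
  have hpinv : 0 < CurvePic.h k C 0 p⁻¹ := h0_inv_pcl_pos hX (P 0)
  constructor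
  · rintro ⟨h1, h2⟩
    have hpos : 0 < CurvePic.h k C 0 (E * Y) := h0_mul_pos hX h1 hYpos
    by_cases hone : CurvePic.h k C 0 (E * Y) = 1
    · rcases pos_or_pos hX h1 hYpos hone (P 0) h2 with h3 | h3
      · exact Or.inl h3
      · exfalso
        apply hnot
        refine closed_subset (isClosed_transl _ (hW _)) (isClosed_transl _ (hW _)) fun d => ?_
        rw [pa_transl, pa_transl, mem_W_iff_h0 hX h hj, mem_W_iff_h0 hX h hj, map_mul, map_inv, map_mul, map_inv, hab', n1]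
        intro h4
        have : kcl h d * (a' * (p⁻¹ * q) * (Y * q ^ (n + 1))⁻¹)⁻¹ * (pcl hX (sg hσ))⁻¹ ^ (r + n + 1) =
            (kcl h d * (kcl h a)⁻¹ * (pcl hX (sg hσ))⁻¹ ^ (r + 1)) * (Y * p) := by
          rw [← hq, ← ha']
          cgroup
        rw [this]
        exact h0_mul_pos hX h4 h3
    · refine Or.inr ⟨h1, ?_⟩
      omega
  · rintro (h1 | ⟨h1, h2⟩)
    · have h3 := h0_mul_pos hX h1 hpinv
      rw [mul_inv_cancel_right] at h3
      refine ⟨h3, ?_⟩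
      have h4 := h0_mul_pos hX h1 hYpos
      rwa [mul_right_comm] at h4
    · refine ⟨h1, ?_⟩
      have h3 := h0_le_mul_pcl_add_one hX (E * Y) (P 0)
      rw [← hp] at h3
      omega

end curve

end K532.Theta1
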