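import Groth.Agent.JacVar.K532.Setup
import Groth.Agent.VarietyA.RegPoint

/-!
# Relations between points on a non-hyperelliptic curve
-/

set_option autoImplicit false
universe u
open CategoryTheory CategoryTheory.Limits AlgebraicGeometry MonObj MonoidalCategory CartesianMonoidalCategory

namespace K532.NonHyp

open Groth.Agent Groth.Agent.Grpsch.PicGrp Groth.Agent.Fga.RigGrp Groth.Agent.Sga7.H732.Hedge
open Groth.Agent.Sga7.H732 K532.UnitBase K532.CurvePic K532.CurvePts K532.Dict Groth.Agent.Fga.JacSum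
open Groth.Agent.Fga.JacFactor

section pts

variable {k : Type u} [Field k] [IsAlgClosed k] {X : Scheme.{u}} [X.Over (Spec (CommRingCat.of k))] (hX : IsCurve k X)

include hX

/-- There are rational points outside any finite set. -/
theorem exists_notMem (s : Finset (KPt k X)) : ∃ x : KPt k X, x ∉ s := by
  classical
  have := hX.integral
  have := hX.noeth
  let Z : Set X := (fun x : KPt k X => pnt x) '' (s : Set (KPt k X))
  have hZ : IsClosed Z := by
    have : Z = ⋃ x ∈ (s : Set (KPt k X)), {pnt x} := by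
      ext p; simp [Z, eq_comm]
    rw [this]
    exact s.finite_toSet.isClosed_biUnion fun x _ => isClosed_pnt hX x
  have hη : genericPoint X ∉ Z := by
    rintro ⟨x, -, hx⟩
    exact Groth.Agent.VarietyA.RegPoint.ne_genericPoint_of_isClosed hX.dim (isClosed_pnt hX x) hx
  obtain ⟨x, hx⟩ := exists_kpt hX ⟨Zᶜ, hZ.isOpen_compl⟩ ⟨genericPoint X, hη⟩
  exact ⟨x, fun hxs => hx ⟨x, hxs, rfl⟩⟩

/-- On a non-hyperelliptic curve of genus at least two, `x + y ∼ z + w` implies `{x, y} = {z, w}`. -/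
theorem eq_or_eq (hg : 1 ≤ gen k X)
    (hnh : ¬ ∃ L : X.Modules, PicF.IsInvertible L ∧ Curv2.deg k X L 1 = 2 ∧ Module.finrank k (Coh.HH X L 0) = 2)
    (x y z w : KPt k X) (hxy : (pcl hX x)⁻¹ * (pcl hX y)⁻¹ = (pcl hX z)⁻¹ * (pcl hX w)⁻¹) :
    (x = z ∧ y = w) ∨ (x = w ∧ y = z) := by
  have := hX.proper
  have h1 : ∏ i, (pcl hX (![x, y] i))⁻¹ = (pcl hX x)⁻¹ * (pcl hX y)⁻¹ := by
    rw [Fin.prod_univ_two]; rfl
  have h2 : ∏ i, (pcl hX (![z, w] i))⁻¹ = (pcl hX z)⁻¹ * (pcl hX w)⁻¹ := by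
    rw [Fin.prod_univ_two]; rfl
  have hpos := h0_prod_pcl_pos hX ![x, y]
  have hdeg := deg_prod_pcl hX ![x, y]
  have hle := h0_le_deg hX hpos
  have hne3 : (h k X 0 (∏ i, (pcl hX (![x, y] i))⁻¹) : ℤ) ≠ deg k X (∏ i, (pcl hX (![x, y] i))⁻¹) + 1 := by
    intro h3
    have := gen_eq_zero_of_h0_eq hX hpos h3 (by rw [hdeg]; norm_num)
    omega
  have hne2 : h k X 0 (∏ i, (pcl hX (![x, y] i))⁻¹) ≠ 2 := by
    intro h3
    obtain ⟨L, hL, hLc⟩ := exists_mk (∏ i, (pcl hX (![x, y] i))⁻¹)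
    rw [hLc, h_mk] at h3
    rw [hLc, deg_mk k X hX.dim hL] at hdeg
    exact hnh ⟨L, hL, by rw [hdeg]; norm_num, h3⟩
  have hone : h k X 0 (∏ i, (pcl hX (![x, y] i))⁻¹) = 1 := by
    rw [hdeg] at hle hne3
    revert hpos hle hne3 hne2
    generalize h k X 0 (∏ i, (pcl hX (![x, y] i))⁻¹) = n
    intro hpos hle hne3 hne2
    norm_num at hle hne3
    omega
  obtain ⟨e, he⟩ := exists_perm_of_h0_eq_one hX ![x, y] ![z, w] (by rw [h1, h2, hxy]) hone
  have e0 := he 0
  have e1 := he 1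
  simp only [Matrix.cons_val_zero, Matrix.cons_val_one] at e0 e1
  have hcase : (e 0 = 0 ∧ e 1 = 1) ∨ (e 0 = 1 ∧ e 1 = 0) := by
    have h5 : e 0 ≠ e 1 := fun h => by simpa using e.injective h
    have h6 : ∀ a b : Fin 2, a ≠ b → (a = 0 ∧ b = 1) ∨ (a = 1 ∧ b = 0) := by decide
    exact h6 _ _ h5
  rcases hcase with ⟨h6, h7⟩ | ⟨h6, h7⟩
  · left
    rw [h6] at e0; rw [h7] at e1
    exact ⟨e0.symm, e1.symm⟩
  · right
    rw [h6] at e0; rw [h7] at e1
    exact ⟨e1.symm, e0.symm⟩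

/-- Morphisms from the curve agreeing on all rational points are equal. -/
theorem hom_ext_kpt {Y : Scheme.{u}} [Y.Over (Spec (CommRingCat.of k))] [IsSeparated (Y ↘ Spec (CommRingCat.of k))]
    [LocallyOfFiniteType (Y ↘ Spec (CommRingCat.of k))] {a b : X ⟶ Y}
    (ha : a ≫ (Y ↘ Spec (CommRingCat.of k)) = X ↘ Spec (CommRingCat.of k))
    (hb : b ≫ (Y ↘ Spec (CommRingCat.of k)) = X ↘ Spec (CommRingCat.of k))
    (hab : ∀ x : KPt k X, x.1 ≫ a = x.1 ≫ b) : a = b := by
  have := hX.proper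
  have := hX.integral
  have h1 : LocallyOfFiniteType (a ≫ (Y ↘ Spec (CommRingCat.of k))) := by rw [ha]; infer_instance
  refine ext_of_apply_eq (Y ↘ Spec (CommRingCat.of k)) Set.univ isOpen_univ.isLocallyClosed dense_univ
    (fun p _ hp => ?_) (ha.trans hb.symm)
  let x : KPt k X := (pointEquivClosedPoint (X ↘ Spec (CommRingCat.of k))).symm ⟨p, hp⟩
  have h2 : pnt x = p :=
    congrArg Subtype.val ((pointEquivClosedPoint (X ↘ Spec (CommRingCat.of k))).apply_symm_apply ⟨p, hp⟩)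
  have h3 := congrArg (fun z : Spec (CommRingCat.of k) ⟶ Y => z (IsLocalRing.closedPoint k)) (hab x)
  rw [← h2]
  exact h3

end pts

section iso

variable {k : Type u} [Field k] {X Y : Scheme.{u}} [X.Over (Spec (CommRingCat.of k))]
  [Y.Over (Spec (CommRingCat.of k))] (hX : IsCurve k X) (hY : IsCurve k Y)

/-- The class of a point pulls back to the class of the inverse image of the point along an isomorphism. -/
theorem pull_pcl (u : X ⟶ Y) [IsIso u] (y : KPt k Y) (x : KPt k X) (hxy : x.1 ≫ u = y.1) :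
    pull u (pcl hY y) = pcl hX x := by
  have := hY.proper
  have hcl : IsClosedImmersion y.1 := by
    have : IsClosedImmersion (y.1 ≫ (Y ↘ Spec (CommRingCat.of k))) := by rw [y.2]; infer_instance
    exact IsClosedImmersion.of_comp _ (Y ↘ Spec (CommRingCat.of k))
  have h1 : y.1.ker.comap u = x.1.ker := by
    symm
    refine Picfga.SecGraph.ker_eq_comap_of_isPullback (fst := 𝟙 _) (snd := x.1) (i := y.1) (g := u) ?_
    exact IsPullback.of_horiz_isIso ⟨by rw [Category.id_comp, hxy]⟩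
  rw [pcl, dcl, pull_mk, pcl, dcl, mk_eq_iff]
  have h2 := Dix.IdealModCartier.pullback_idealMod u (isEff hY y) (by rw [h1]; exact isEff hX x)
  rwa [h1] at h2

end iso

end K532.NonHyp
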