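import Mathlib.AlgebraicGeometry.AlgClosed.Basic
import Mathlib.AlgebraicGeometry.Geometrically.Integral
import Mathlib.CategoryTheory.Monoidal.Cartesian.Over
import Mathlib.CategoryTheory.Monoidal.Cartesian.Grp
import Mathlib.CategoryTheory.Limits.Shapes.WidePullbacks
import Mathlib.AlgebraicGeometry.Morphisms.Proper
import Mathlib.AlgebraicGeometry.Morphisms.Flat
import Mathlib.AlgebraicGeometry.Morphisms.UniversallyOpen

/-!
# Rational points of schemes over an algebraically closed field, and fibre powers

* `pa a`: the point underlying a rational point `a : 𝟙_ ⟶ X` of `X : Over (Spec k)`.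
* `pa_injective`, `exists_pa`, `mem_range_iff`, `closed_ext`, `closed_subset`.
* `base_prop`: properties stable under composition and base change pass to fibre powers.
* `isIntegral_pow`.
* `comp_list_prod`.
-/

set_option autoImplicit false
universe v u
open CategoryTheory CategoryTheory.Limits AlgebraicGeometry MonoidalCategory CartesianMonoidalCategory
open scoped MonObj

namespace K532.KPts

section pts

variable {k : Type u} [Field k]

/-- The point underlying a rational point. -/
noncomputable def pa {X : Over (Spec (CommRingCat.of k))} (a : 𝟙_ (Over (Spec (CommRingCat.of k))) ⟶ X) : X.left :=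
  a.left (IsLocalRing.closedPoint k)

theorem apply_eq_pa {X : Over (Spec (CommRingCat.of k))} (a : 𝟙_ (Over (Spec (CommRingCat.of k))) ⟶ X)
    (p : (𝟙_ (Over (Spec (CommRingCat.of k)))).left) : a.left p = pa a := by
  rw [pa, Subsingleton.elim (α := PrimeSpectrum k) p (IsLocalRing.closedPoint k)]

theorem pa_comp {X Y : Over (Spec (CommRingCat.of k))} (a : 𝟙_ (Over (Spec (CommRingCat.of k))) ⟶ X) (g : X ⟶ Y) :
    pa (a ≫ g) = g.left (pa a) :=
  Scheme.Hom.comp_apply a.left g.left _

theorem w {X : Over (Spec (CommRingCat.of k))} (a : 𝟙_ (Over (Spec (CommRingCat.of k))) ⟶ X) :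
    a.left ≫ X.hom = 𝟙 _ := Over.w a

variable [IsAlgClosed k]

theorem pa_injective {X : Over (Spec (CommRingCat.of k))} [LocallyOfFiniteType X.hom] :
    Function.Injective (pa (X := X)) := by
  intro a b hab
  exact Over.OverMorphism.ext (ext_of_apply_closedPoint_eq X.hom (w a) (w b) hab)

theorem isClosed_pa {X : Over (Spec (CommRingCat.of k))} [LocallyOfFiniteType X.hom]
    (a : 𝟙_ (Over (Spec (CommRingCat.of k))) ⟶ X) : IsClosed ({pa a} : Set X.left) :=
  (pointEquivClosedPoint X.hom ⟨a.left, w a⟩).2

theorem exists_pa {X : Over (Spec (CommRingCat.of k))} [LocallyOfFiniteType X.hom] {x : X.left}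
    (hx : IsClosed ({x} : Set X.left)) : ∃ a : 𝟙_ (Over (Spec (CommRingCat.of k))) ⟶ X, pa a = x := by
  refine ⟨Over.homMk (pointOfClosedPoint X.hom x hx) (pointOfClosedPoint_comp X.hom x hx), ?_⟩
  exact pointOfClosedPoint_apply X.hom x hx _

theorem exists_pa_mem {X : Over (Spec (CommRingCat.of k))} [LocallyOfFiniteType X.hom] {A : Set X.left}
    (hA : A.Nonempty) (hA' : IsLocallyClosed A) :
    ∃ a : 𝟙_ (Over (Spec (CommRingCat.of k))) ⟶ X, pa a ∈ A := by
  have : JacobsonSpace X.left := LocallyOfFiniteType.jacobsonSpace X.hom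
  obtain ⟨x, hx, hx'⟩ := nonempty_inter_closedPoints hA hA'
  obtain ⟨a, rfl⟩ := exists_pa hx'
  exact ⟨a, hx⟩

theorem mem_range_iff {X Y : Over (Spec (CommRingCat.of k))} [LocallyOfFiniteType X.hom] [LocallyOfFiniteType Y.hom]
    (g : X ⟶ Y) (a : 𝟙_ (Over (Spec (CommRingCat.of k))) ⟶ Y) :
    pa a ∈ Set.range g.left ↔ ∃ b : 𝟙_ (Over (Spec (CommRingCat.of k))) ⟶ X, b ≫ g = a := by
  constructor
  · rintro ⟨p, hp⟩
    obtain ⟨b, hb⟩ := exists_pa_mem (X := X) (A := g.left ⁻¹' {pa a}) ⟨p, hp⟩
      ((isClosed_pa a).preimage g.left.continuous).isLocallyClosed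
    exact ⟨b, pa_injective ((pa_comp b g).trans hb)⟩
  · rintro ⟨b, rfl⟩
    rw [pa_comp]
    exact ⟨_, rfl⟩

/-- Closed sets are determined by their rational points. -/
theorem closed_subset {X : Over (Spec (CommRingCat.of k))} [LocallyOfFiniteType X.hom] {A B : Set X.left}
    (hA : IsClosed A) (hB : IsClosed B)
    (h : ∀ a : 𝟙_ (Over (Spec (CommRingCat.of k))) ⟶ X, pa a ∈ A → pa a ∈ B) : A ⊆ B := by
  have : JacobsonSpace X.left := LocallyOfFiniteType.jacobsonSpace X.hom
  rw [← hA.closure_eq, ← JacobsonSpace.closure_inter_closedPoints_eq_closure hA.isLocallyClosed,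
    hB.closure_subset_iff]
  rintro x ⟨hx, hx'⟩
  obtain ⟨a, rfl⟩ := exists_pa hx'
  exact h a hx

theorem closed_ext {X : Over (Spec (CommRingCat.of k))} [LocallyOfFiniteType X.hom] {A B : Set X.left}
    (hA : IsClosed A) (hB : IsClosed B)
    (h : ∀ a : 𝟙_ (Over (Spec (CommRingCat.of k))) ⟶ X, pa a ∈ A ↔ pa a ∈ B) : A = B :=
  (closed_subset hA hB fun a => (h a).1).antisymm (closed_subset hB hA fun a => (h a).2)

omit [IsAlgClosed k] in
/-- The image of a set under an isomorphism, on rational points. -/
theorem pa_mem_image_iff {X Y : Over (Spec (CommRingCat.of k))} (g : X ⟶ Y) (g' : Y ⟶ X) (h1 : g ≫ g' = 𝟙 X)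
    (h2 : g' ≫ g = 𝟙 Y) (A : Set X.left) (a : 𝟙_ (Over (Spec (CommRingCat.of k))) ⟶ Y) :
    pa a ∈ g.left '' A ↔ pa (a ≫ g') ∈ A := by
  have e1 : ∀ x, g'.left (g.left x) = x := fun x => by
    rw [← Scheme.Hom.comp_apply, ← Over.comp_left, h1]; rfl
  have e2 : ∀ x, g.left (g'.left x) = x := fun x => by
    rw [← Scheme.Hom.comp_apply, ← Over.comp_left, h2]; rfl
  constructor
  · rintro ⟨x, hx, hxa⟩
    rw [pa_comp, ← hxa, e1]
    exact hx
  · intro h
    exact ⟨_, h, by rw [pa_comp, e2]⟩

omit [IsAlgClosed k] in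
theorem isClosed_image {X Y : Over (Spec (CommRingCat.of k))} (g : X ⟶ Y) (g' : Y ⟶ X) (h1 : g ≫ g' = 𝟙 X)
    (h2 : g' ≫ g = 𝟙 Y) {A : Set X.left} (hA : IsClosed A) : IsClosed (g.left '' A) := by
  have e1 : ∀ x, g'.left (g.left x) = x := fun x => by
    rw [← Scheme.Hom.comp_apply, ← Over.comp_left, h1]; rfl
  have e2 : ∀ x, g.left (g'.left x) = x := fun x => by
    rw [← Scheme.Hom.comp_apply, ← Over.comp_left, h2]; rfl
  have : g.left '' A = g'.left ⁻¹' A := by
    ext y
    constructor
    · rintro ⟨x, hx, rfl⟩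
      change g'.left (g.left x) ∈ A
      rwa [e1]
    · intro hy
      exact ⟨_, hy, e2 y⟩
  rw [this]
  exact hA.preimage g'.left.continuous

end pts

section pow

variable {X S : Scheme.{u}} (f : X ⟶ S)

/-- The projection of the fibre power forgetting the last factor. -/
noncomputable def forgetLast (n : ℕ) : widePullback S (fun _ : Fin (n + 1) => X) (fun _ => f) ⟶
    widePullback S (fun _ : Fin n => X) (fun _ => f) :=
  WidePullback.lift (WidePullback.base fun _ : Fin (n + 1) => f)
    (fun i => WidePullback.π (fun _ : Fin (n + 1) => f) i.castSucc) (fun _ => WidePullback.π_arrow _ _)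

theorem forgetLast_base (n : ℕ) : forgetLast f n ≫ WidePullback.base (fun _ : Fin n => f) =
    WidePullback.base (fun _ : Fin (n + 1) => f) := WidePullback.lift_base _ _ _ _

theorem forgetLast_π (n : ℕ) (i : Fin n) : forgetLast f n ≫ WidePullback.π (fun _ : Fin n => f) i =
    WidePullback.π (fun _ : Fin (n + 1) => f) i.castSucc := WidePullback.lift_π _ _ _ _ _

theorem isPullback_forgetLast (n : ℕ) :
    IsPullback (WidePullback.π (fun _ : Fin (n + 1) => f) (Fin.last n)) (forgetLast f n) f
      (WidePullback.base (fun _ : Fin n => f)) := by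
  refine ⟨⟨by rw [forgetLast_base, WidePullback.π_arrow]⟩, ⟨PullbackCone.IsLimit.mk _
    (fun s => WidePullback.lift (s.snd ≫ WidePullback.base (fun _ : Fin n => f))
      (fun i => Fin.lastCases s.fst (fun i => s.snd ≫ WidePullback.π (fun _ : Fin n => f) i) i) ?_) ?_ ?_ ?_⟩⟩
  · intro i
    refine Fin.lastCases ?_ (fun i => ?_) i
    · simp only [Fin.lastCases_last]
      exact s.condition
    · simp only [Fin.lastCases_castSucc]
      rw [Category.assoc, WidePullback.π_arrow]
  · intro s
    rw [WidePullback.lift_π]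
    simp only [Fin.lastCases_last]
  · intro s
    apply WidePullback.hom_ext
    · intro i
      rw [Category.assoc, forgetLast_π, WidePullback.lift_π]
      simp only [Fin.lastCases_castSucc]
    · rw [Category.assoc, forgetLast_base, WidePullback.lift_base]
  · intro s m h1 h2
    apply WidePullback.hom_ext
    · intro i
      rw [WidePullback.lift_π]
      refine Fin.lastCases ?_ (fun i => ?_) i
      · simp only [Fin.lastCases_last]
        exact h1
      · simp only [Fin.lastCases_castSucc]
        rw [← forgetLast_π, ← Category.assoc, h2]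
    · rw [WidePullback.lift_base, ← forgetLast_base, ← Category.assoc, h2]

theorem isIso_base_zero : IsIso (WidePullback.base (fun _ : Fin 0 => f)) := by
  refine ⟨WidePullback.lift (𝟙 S) (fun i => i.elim0) (fun i => i.elim0), ?_, WidePullback.lift_base _ _ _ _⟩
  apply WidePullback.hom_ext
  · intro i; exact i.elim0
  · rw [Category.assoc, WidePullback.lift_base, Category.comp_id, Category.id_comp]

/-- Properties stable under composition and base change pass to fibre powers. -/
theorem base_prop (W : MorphismProperty Scheme.{u}) [W.IsStableUnderBaseChange] [W.IsMultiplicative] (hf : W f)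
    (n : ℕ) : W (WidePullback.base (fun _ : Fin n => f)) := by
  induction n with
  | zero =>
    have := isIso_base_zero f
    have h1 : W.RespectsIso := MorphismProperty.IsStableUnderBaseChange.respectsIso
    exact MorphismProperty.of_isIso W _
  | succ n ih =>
    rw [← forgetLast_base]
    exact W.comp_mem _ _ (W.of_isPullback (isPullback_forgetLast f n) hf) ih

theorem isProper_pow [IsProper f] (n : ℕ) : IsProper (WidePullback.base (fun _ : Fin n => f)) :=
  base_prop f @IsProper ‹_› n

theorem isIntegral_pow [IsIntegral S] [IsLocallyNoetherian S] [LocallyOfFiniteType f] [GeometricallyIntegral f]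
    [Flat f] [UniversallyOpen f] (n : ℕ) : IsIntegral (widePullback S (fun _ : Fin n => X) (fun _ => f)) := by
  induction n with
  | zero =>
    have := isIso_base_zero f
    have hne : Nonempty (widePullback S (fun _ : Fin 0 => X) (fun _ => f) :) :=
      ⟨inv (WidePullback.base (fun _ : Fin 0 => f)) (Classical.arbitrary S)⟩
    exact isIntegral_of_isOpenImmersion (WidePullback.base (fun _ : Fin 0 => f))
  | succ n ih =>
    have h0 : LocallyOfFiniteType (WidePullback.base (fun _ : Fin n => f)) :=
      base_prop f @LocallyOfFiniteType ‹_› n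
    have hN : IsLocallyNoetherian (widePullback S (fun _ : Fin n => X) (fun _ => f)) :=
      LocallyOfFiniteType.isLocallyNoetherian (WidePullback.base (fun _ : Fin n => f))
    have e := (isPullback_forgetLast f n).flip.isoPullback
    have h1 : IsIntegral (pullback (WidePullback.base (fun _ : Fin n => f)) f) := inferInstance
    have hne : Nonempty (widePullback S (fun _ : Fin (n + 1) => X) (fun _ => f) :) :=
      ⟨e.inv (Classical.arbitrary _)⟩
    exact isIntegral_of_isOpenImmersion e.hom

end pow

section mon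

variable {𝒞 : Type u} [Category.{v} 𝒞] [CartesianMonoidalCategory 𝒞]

theorem comp_list_prod {M T T' : 𝒞} [MonObj M] (a : T' ⟶ T) (l : List (T ⟶ M)) :
    a ≫ l.prod = (l.map fun x => a ≫ x).prod := by
  induction l with
  | nil => rw [List.prod_nil, List.map_nil, List.prod_nil, MonObj.comp_one]
  | cons x l ih => rw [List.prod_cons, List.map_cons, List.prod_cons, MonObj.comp_mul, ih]

theorem comp_ofFn_prod {M T T' : 𝒞} [MonObj M] {n : ℕ} (a : T' ⟶ T) (l : Fin n → (T ⟶ M)) :
    a ≫ (List.ofFn l).prod = (List.ofFn fun i => a ≫ l i).prod := by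
  rw [comp_list_prod, List.map_ofFn]
  rfl

end mon

end K532.KPts
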