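import Groth.Agent.JacVar.K532.Setup
import Groth.Agent.JacVar.K532.KPts

/-!
# The subsets `W^r` of the Jacobian in terms of rational points and classes

* `sm j r : C^r ⟶ J`, `(x_1, …, x_r) ↦ j(x_1) ⋯ j(x_r)`; `W j r` its range, a closed set.
* `mem_W_iff`: a rational point `a` is in `W^r` iff `a = j(x_1) ⋯ j(x_r)` for rational points `x_i`.
* `mem_W_iff_h0`: iff `h⁰(kcl a · O(rσ)) > 0`.
* `kcl_kappa`: the class of the canonical point.
-/

set_option autoImplicit false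
universe u
open CategoryTheory CategoryTheory.Limits AlgebraicGeometry MonoidalCategory CartesianMonoidalCategory
open scoped MonObj

namespace K532.Wr

open Groth.Agent Groth.Agent.Grpsch.PicGrp Groth.Agent.Fga.RigGrp Groth.Agent.Sga7.H732.Hedge
open Groth.Agent.Sga7.H732 K532.UnitBase K532.CurvePic K532.CurvePts K532.Dict Groth.Agent.Fga.JacSum
open Groth.Agent.Fga.JacFactor K532.Setup K532.KPts Groth.Agent.Fdesc.LocGen

section sum

variable {k : Type u} [Field k] {C : Scheme.{u}} {f : C ⟶ Spec (CommRingCat.of k)}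
  {J : Over (Spec (CommRingCat.of k))} [GrpObj J] (j : Over.mk f ⟶ J)

/-- The projections of the fibre power. -/
noncomputable abbrev pr (f : C ⟶ Spec (CommRingCat.of k)) (r : ℕ) (i : Fin r) :
    Over.mk (WidePullback.base fun (_ : Fin r) => f) ⟶ Over.mk f :=
  Over.homMk (WidePullback.π (fun (_ : Fin r) => f) i) (WidePullback.π_arrow (fun (_ : Fin r) => f) i)

/-- The sum map. -/
noncomputable abbrev sm (r : ℕ) : Over.mk (WidePullback.base fun (_ : Fin r) => f) ⟶ J :=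
  (List.ofFn fun i : Fin r => pr f r i ≫ j).prod

/-- The set `W^r`. -/
abbrev W (r : ℕ) : Set J.left := Set.range (sm j r).left.base

/-- The point of the fibre power with given coordinates. -/
noncomputable def tup {T : Over (Spec (CommRingCat.of k))} {r : ℕ} (x : Fin r → (T ⟶ Over.mk f)) :
    T ⟶ Over.mk (WidePullback.base fun (_ : Fin r) => f) :=
  Over.homMk (WidePullback.lift T.hom (fun i => (x i).left) (fun i => Over.w (x i))) (WidePullback.lift_base _ _ _ _)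

theorem tup_pr {T : Over (Spec (CommRingCat.of k))} {r : ℕ} (x : Fin r → (T ⟶ Over.mk f)) (i : Fin r) :
    tup x ≫ pr f r i = x i :=
  Over.OverMorphism.ext (WidePullback.lift_π _ _ _ _ _)

theorem comp_sm {T : Over (Spec (CommRingCat.of k))} {r : ℕ}
    (b : T ⟶ Over.mk (WidePullback.base fun (_ : Fin r) => f)) :
    b ≫ sm j r = (List.ofFn fun i : Fin r => (b ≫ pr f r i) ≫ j).prod := by
  rw [sm, comp_ofFn_prod]
  simp only [Category.assoc]

theorem tup_sm {T : Over (Spec (CommRingCat.of k))} {r : ℕ} (x : Fin r → (T ⟶ Over.mk f)) :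
    tup x ≫ sm j r = (List.ofFn fun i : Fin r => x i ≫ j).prod := by
  rw [comp_sm]
  simp only [tup_pr]

theorem isClosed_W [IsProper f] [IsProper J.hom] (r : ℕ) : IsClosed (W j r) := by
  have h1 : IsProper (Over.mk (WidePullback.base fun (_ : Fin r) => f)).hom := isProper_pow f r
  have h2 : IsProper ((sm j r).left ≫ J.hom) := by rw [Over.w]; exact h1
  have h3 : IsProper (sm j r).left := IsProper.of_comp (sm j r).left J.hom
  exact (sm j r).left.isClosedMap.isClosed_range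

theorem mem_W_iff_pm [IsAlgClosed k] [IsProper f] [LocallyOfFiniteType J.hom] (r : ℕ)
    (a : 𝟙_ (Over (Spec (CommRingCat.of k))) ⟶ J) :
    pa a ∈ W j r ↔ ∃ x : Fin r → (𝟙_ (Over (Spec (CommRingCat.of k))) ⟶ Over.mk f),
      a = (List.ofFn fun i => x i ≫ j).prod := by
  have h1 : IsProper (Over.mk (WidePullback.base fun (_ : Fin r) => f)).hom := isProper_pow f r
  refine (mem_range_iff (sm j r) a).trans ⟨?_, ?_⟩
  · rintro ⟨b, rfl⟩
    exact ⟨fun i => b ≫ pr f r i, comp_sm j b⟩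
  · rintro ⟨x, rfl⟩
    exact ⟨tup x, tup_sm j x⟩

end sum

section curve

variable {k : Type u} [Field k] [IsAlgClosed k] {C : Scheme.{u}} [C.Over (Spec (CommRingCat.of k))] (hX : IsCurve k C)
  {σ : Spec (CommRingCat.of k) ⟶ C} {hσ : σ ≫ (C ↘ Spec (CommRingCat.of k)) = 𝟙 (Spec (CommRingCat.of k))}
  {J : Over (Spec (CommRingCat.of k))} [GrpObj J] {ξ : Pic (PicF.XT (C ↘ Spec (CommRingCat.of k)) J)}
  (h : IsJac (C ↘ Spec (CommRingCat.of k)) σ hσ J ξ) [IsProper (C ↘ Spec (CommRingCat.of k))]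
  [SmoothOfRelativeDimension 1 (C ↘ Spec (CommRingCat.of k))]
  {j : Over.mk (C ↘ Spec (CommRingCat.of k)) ⟶ J} (hj : IsAbel h j)

/-- The base point. -/
abbrev sg (hσ : σ ≫ (C ↘ Spec (CommRingCat.of k)) = 𝟙 (Spec (CommRingCat.of k))) : KPt k C := ⟨σ, hσ⟩

omit [IsAlgClosed k] in
theorem kcl_pm (hj : IsAbel h j) (x : KPt k C) :
    kcl h (pm _ x.1 x.2 ≫ j) = (pcl hX x)⁻¹ * pcl hX (sg hσ) := kcl_comp h hj x.1 x.2

omit [IsAlgClosed k] in
theorem kcl_prod (hj : IsAbel h j) {r : ℕ} (x : Fin r → KPt k C) :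
    kcl h (List.ofFn fun i => pm _ (x i).1 (x i).2 ≫ j).prod = (∏ i, (pcl hX (x i))⁻¹) * pcl hX (sg hσ) ^ r := by
  rw [map_list_prod, List.map_ofFn]
  have : (⇑(kcl h) ∘ fun i => pm _ (x i).1 (x i).2 ≫ j) = fun i => (pcl hX (x i))⁻¹ * pcl hX (sg hσ) := by
    funext i
    exact kcl_pm hX h hj (x i)
  rw [this, List.prod_ofFn, Finset.prod_mul_distrib, Finset.prod_const, Finset.card_univ, Fintype.card_fin]

omit [SmoothOfRelativeDimension 1 (C ↘ Spec (CommRingCat.of k))] in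
/-- A rational point is in `W^r` iff it is the sum of `r` points. -/
theorem mem_W_iff [LocallyOfFiniteType J.hom] (r : ℕ) (a : 𝟙_ (Over (Spec (CommRingCat.of k))) ⟶ J) :
    pa a ∈ W j r ↔ ∃ x : Fin r → KPt k C, a = (List.ofFn fun i => pm _ (x i).1 (x i).2 ≫ j).prod := by
  rw [mem_W_iff_pm]
  constructor
  · rintro ⟨x, rfl⟩
    refine ⟨fun i => ⟨(x i).left, Over.w (x i)⟩, ?_⟩
    rfl
  · rintro ⟨x, rfl⟩
    exact ⟨fun i => pm _ (x i).1 (x i).2, rfl⟩

/-- A rational point is in `W^r` iff its class twisted by `O(rσ)` has sections. -/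
theorem mem_W_iff_h0 (hj : IsAbel h j) [LocallyOfFiniteType J.hom] (r : ℕ)
    (a : 𝟙_ (Over (Spec (CommRingCat.of k))) ⟶ J) :
    pa a ∈ W j r ↔ 0 < CurvePic.h k C 0 (kcl h a * (pcl hX (sg hσ))⁻¹ ^ r) := by
  have hd : deg k C (kcl h a * (pcl hX (sg hσ))⁻¹ ^ r) = r := by
    rw [deg_mul hX, deg_kcl hX h, deg_pow hX, deg_inv hX, deg_pcl]
    simp
  rw [mem_W_iff, h0_pos_iff hX hd]
  refine exists_congr fun x => ?_
  rw [inv_pow, mul_inv_eq_iff_eq_mul, ← kcl_prod hX h hj x]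
  exact (kcl_injective h).eq_iff.symm

omit [IsAlgClosed k] [SmoothOfRelativeDimension 1 (C ↘ Spec (CommRingCat.of k))] in
/-- The class of the canonical point. -/
theorem kcl_kappa {hdim : topologicalKrullDim C = 1} {ψ : (ModFun.PicDeg (C ↘ Spec (CommRingCat.of k)) 0).Hom ⊤ J}
    (hψ : Compat (C ↘ Spec (CommRingCat.of k)) hdim σ hσ J ψ ξ) (n : ℕ)
    {Kf : (PicF.XT (C ↘ Spec (CommRingCat.of k)) (𝟙_ (Over (Spec (CommRingCat.of k))))).Modules}
    (hKf : Nonempty (Kf ≅ (Scheme.Modules.pullback (pullback.fst (C ↘ Spec (CommRingCat.of k)) (𝟙_ (Over (Spec (CommRingCat.of k)))).hom)).obj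
      (CohB1.tensorMod (Omega.sheaf (C ↘ Spec (CommRingCat.of k))) (CohB1.tensorPow (ClSub.idealMod σ.ker) n))))
    {hT₁ : (⊤ : ObjectProperty (Over (Spec (CommRingCat.of k)))) (𝟙_ (Over (Spec (CommRingCat.of k))))}
    {hKok : (ModFun.PicDeg (C ↘ Spec (CommRingCat.of k)) 0).ok (𝟙_ (Over (Spec (CommRingCat.of k)))) Kf}
    {κ : (𝟙_ (Over (Spec (CommRingCat.of k)))) ⟶ J} (hκ : ψ.app (𝟙_ (Over (Spec (CommRingCat.of k)))) Kf hT₁ hKok = κ) :
    kcl h κ = om hX * pcl hX (sg hσ) ^ n := by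
  rw [kcl_apply, Abel.cls_apply, ← hκ, hψ]
  have h1 := Fine.norm_field (C ↘ Spec (CommRingCat.of k)) σ hσ (𝟙 _) (Fine.cls (C ↘ Spec (CommRingCat.of k)) hdim hKok)
  refine (congrArg (pull (ui (C ↘ Spec (CommRingCat.of k)))) h1).trans ?_
  obtain ⟨e⟩ := hKf
  have hI : PicF.IsInvertible (ClSub.idealMod σ.ker) :=
    Dix.IdealModCartier.isInvertible_idealMod (isEff hX (sg hσ))
  have h3 : om hX * pcl hX (sg hσ) ^ n = mk (CohB1.tensorMod (Omega.sheaf (C ↘ Spec (CommRingCat.of k)))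
      (CohB1.tensorPow (ClSub.idealMod σ.ker) n))
      (isInvertible_tensorMod (isInvertible_omega hX) (isInvertible_tensorPow hI n)) := by
    rw [om, ← mk_mul_mk (isInvertible_omega hX) (isInvertible_tensorPow hI n), mk_tensorPow hI]
    rfl
  have h2 : Fine.cls (C ↘ Spec (CommRingCat.of k)) hdim hKok =
      pull (pullback.fst (C ↘ Spec (CommRingCat.of k)) (𝟙_ (Over (Spec (CommRingCat.of k)))).hom)
        (om hX * pcl hX (sg hσ) ^ n) := by
    rw [h3, pull_mk, Fine.cls, mk_eq_iff]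
    exact ⟨e⟩
  rw [h2, ← pull_comp, ui_fst, pull_id]

end curve

end K532.Wr
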