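import Groth.Agent.JacVar.K531.AlbMain
import Groth.Agent.JacVar.K532.Setup
import Groth.Agent.Sga7.H515.FKDeg
import Groth.Agent.Sga3.H780.Pointed

/-!
# Divisorial correspondences and homomorphisms of Jacobians

* `mk_univ`: the class of a normalised universal family with classifying morphism the identity is `ξ`.
* `exists_hom`: a class on `C × T`, `T` connected with a rational point `t₀`, trivial along `σ × T` and along `C × t₀` comes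
  from a unique morphism `T ⟶ J` sending `t₀` to the origin.
-/

set_option autoImplicit false
universe u
open CategoryTheory CategoryTheory.Limits AlgebraicGeometry MonoidalCategory CartesianMonoidalCategory
open scoped MonObj

namespace K532.Corr

open Groth.Agent Groth.Agent.Grpsch.PicGrp Groth.Agent.Fga.RigGrp Groth.Agent.Sga7.H732.Hedge
open Groth.Agent.Sga7.H732 Groth.Agent.Fga.JacSum K532.Setup K532.Dict Groth.Agent.Fdesc.LocGen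

variable {k : Type u} [Field k] {C : Scheme.{u}} {f : C ⟶ Spec (CommRingCat.of k)}
  {σ : Spec (CommRingCat.of k) ⟶ C} {hσ : σ ≫ f = 𝟙 (Spec (CommRingCat.of k))}
  {J : Over (Spec (CommRingCat.of k))} [GrpObj J] {ξ : Pic (PicF.XT f J)}

theorem isNorm_iff {T : Over (Spec (CommRingCat.of k))} (L : (PicF.XT f T).Modules) (hL : PicF.IsInvertible L) :
    Jac.IsNormAlong f σ hσ T L ↔ mk L hL ∈ Rg f σ hσ T := by
  rw [mem_Rg, ← isTrivialCl_toCl_iff, toCl_pull, toCl_mk]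
  rfl

omit [GrpObj J] in
/-- The class of a universal family. -/
theorem mk_univ [IsProper f] {hdim : topologicalKrullDim C = 1} {ψ : (ModFun.PicDeg f 0).Hom ⊤ J}
    (hψ : Compat f hdim σ hσ J ψ ξ) (Pu : (PicF.XT f J).Modules) (hPu : (ModFun.PicDeg f 0).ok J Pu)
    (hPn : Jac.IsNormAlong f σ hσ J Pu)
    (hT : (⊤ : ObjectProperty (Over (Spec (CommRingCat.of k)))) J) (hPuψ : ψ.app J Pu hT hPu = 𝟙 J)
    (hi : PicF.IsInvertible Pu) : mk Pu hi = ξ := by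
  have h1 := hψ J Pu hT hPu
  rw [hPuψ, XTmap_id, pull_id] at h1
  rw [h1]
  exact (norm_of_mem f σ hσ ((isNorm_iff Pu hi).1 hPn)).symm

theorem exists_hom (h : IsJac f σ hσ J ξ) (hX : Curve.IsSmoothProperCurve k C f) {T : Over (Spec (CommRingCat.of k))}
    [ConnectedSpace T.left] (t₀ : 𝟙_ (Over (Spec (CommRingCat.of k))) ⟶ T) (c : Pic (PicF.XT f T))
    (hc : c ∈ Rg f σ hσ T) (h0 : pull (PicF.XTmap f t₀) c = 1) :
    ∃ φ : T ⟶ J, pull (PicF.XTmap f φ) ξ = c ∧ t₀ ≫ φ = 1 := by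
  have hp : IsProper f := hX.1
  have : Nonempty (𝟙_ (Over (Spec (CommRingCat.of k)))).left := ⟨IsLocalRing.closedPoint k⟩
  have h1 := Sga7.H515.FKDeg.hasFibreDegreeZeroCl f hX T (𝟙_ _) t₀ c h0
  obtain ⟨φ, hφ, -⟩ := h.univ T c hc h1
  refine ⟨φ, hφ, Abel.cls_injective h _ ?_⟩
  rw [Abel.cls_comp, Abel.cls_apply, hφ, h0, map_one]

theorem base_point [IsProper f] [Smooth f] [GeometricallyConnected f]
    (hdim : topologicalKrullDim C = 1)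
    (σ : Spec (CommRingCat.of k) ⟶ C) (hσ : σ ≫ f = 𝟙 _)
    (J : Over (Spec (CommRingCat.of k))) [GrpObj J] [IsCommMonObj J]
    (ψ : (ModFun.PicDeg f 0).Hom ⊤ J) (hJ : Jac.IsJacobian f ⊤ J ψ)
    (j : Over.mk f ⟶ J) (hj : Jac.IsAbelJacobiAt f σ ψ j) :
    (Over.homMk σ hσ : 𝟙_ (Over (Spec (CommRingCat.of k))) ⟶ Over.mk f) ≫ j = 1 := by
  have h1 := K531.AlbMain.ofSection_comp hdim σ hσ J ψ hJ j hj (𝟙_ _)
  have h2 : Abel.ptHom (Pt.ofSection hσ (𝟙_ (Over (Spec (CommRingCat.of k))))) =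
      (Over.homMk σ hσ : 𝟙_ (Over (Spec (CommRingCat.of k))) ⟶ Over.mk f) :=
    Over.OverMorphism.ext (Category.id_comp σ)
  rwa [h2] at h1

theorem left_one {T J : Over (Spec (CommRingCat.of k))} [GrpObj J] {t : 𝟙_ (Over (Spec (CommRingCat.of k))) ⟶ T}
    {φ : T ⟶ J} (h : t ≫ φ = 1) : t.left ≫ φ.left = η[J].left := by
  have h1 := congrArg (fun q => q.left) h
  have h2 : (1 : 𝟙_ (Over (Spec (CommRingCat.of k))) ⟶ J) = η[J] := by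
    rw [Hom.one_def, toUnit_unit, Category.id_comp]
  rw [h2] at h1
  exact h1

/-- Homomorphisms between Jacobians and divisorial correspondences. -/
theorem main16 {C₁ C₂ : Scheme.{u}} (f₁ : C₁ ⟶ Spec (CommRingCat.of k)) (f₂ : C₂ ⟶ Spec (CommRingCat.of k))
    [IsProper f₁] [Smooth f₁] [GeometricallyConnected f₁] [IsProper f₂] [Smooth f₂] [GeometricallyConnected f₂]
    (hdim₁ : topologicalKrullDim C₁ = 1) (hdim₂ : topologicalKrullDim C₂ = 1)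
    (hg₁ : letI : C₁.Over (Spec (CommRingCat.of k)) := ⟨f₁⟩; 0 < Curv2.genus k C₁)
    (σ₁ : Spec (CommRingCat.of k) ⟶ C₁) (hσ₁ : σ₁ ≫ f₁ = 𝟙 _) (σ₂ : Spec (CommRingCat.of k) ⟶ C₂)
    (hσ₂ : σ₂ ≫ f₂ = 𝟙 _) (J₁ : Over (Spec (CommRingCat.of k))) [GrpObj J₁] [IsCommMonObj J₁]
    (ψ₁ : (ModFun.PicDeg f₁ 0).Hom ⊤ J₁) (hJ₁ : Jac.IsJacobian f₁ ⊤ J₁ ψ₁)
    (J₂ : Over (Spec (CommRingCat.of k))) [GrpObj J₂] [IsCommMonObj J₂]
    (ψ₂ : (ModFun.PicDeg f₂ 0).Hom ⊤ J₂) (hJ₂ : Jac.IsJacobian f₂ ⊤ J₂ ψ₂)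
    (j₁ : Over.mk f₁ ⟶ J₁) (hj₁ : Jac.IsAbelJacobiAt f₁ σ₁ ψ₁ j₁)
    (Pu : (PicF.XT f₂ J₂).Modules) (hPu : (ModFun.PicDeg f₂ 0).ok J₂ Pu)
    (hPn : Jac.IsNormAlong f₂ σ₂ hσ₂ J₂ Pu)
    (hT₂ : (⊤ : ObjectProperty (Over (Spec (CommRingCat.of k)))) J₂) (hPuψ : ψ₂.app J₂ Pu hT₂ hPu = 𝟙 J₂) :
    (∀ χ : J₁ ⟶ J₂, IsMonHom χ →
      (PicF.IsInvertibleCl (PicF.pullCl (PicF.XTmap f₂ (j₁ ≫ χ)) (PicF.cl Pu)) ∧
        PicF.IsTrivialCl (PicF.pullCl (PicF.secT f₂ σ₂ hσ₂ (Over.mk f₁)) (PicF.pullCl (PicF.XTmap f₂ (j₁ ≫ χ)) (PicF.cl Pu))) ∧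
        PicF.IsTrivialCl (PicF.pullCl (PicF.XTmap f₂ (Over.homMk σ₁ hσ₁ : 𝟙_ (Over (Spec (CommRingCat.of k))) ⟶ Over.mk f₁)) (PicF.pullCl (PicF.XTmap f₂ (j₁ ≫ χ)) (PicF.cl Pu))))) ∧
    (∀ χ₁ χ₂ : J₁ ⟶ J₂, IsMonHom χ₁ → IsMonHom χ₂ →
      PicF.pullCl (PicF.XTmap f₂ (j₁ ≫ χ₁)) (PicF.cl Pu) = PicF.pullCl (PicF.XTmap f₂ (j₁ ≫ χ₂)) (PicF.cl Pu) → χ₁ = χ₂) ∧
    (∀ c : PicF.Cl (PicF.XT f₂ (Over.mk f₁)),
      (PicF.IsInvertibleCl (c) ∧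
        PicF.IsTrivialCl (PicF.pullCl (PicF.secT f₂ σ₂ hσ₂ (Over.mk f₁)) (c)) ∧
        PicF.IsTrivialCl (PicF.pullCl (PicF.XTmap f₂ (Over.homMk σ₁ hσ₁ : 𝟙_ (Over (Spec (CommRingCat.of k))) ⟶ Over.mk f₁)) (c))) →
      ∃ χ : J₁ ⟶ J₂, IsMonHom χ ∧ PicF.pullCl (PicF.XTmap f₂ (j₁ ≫ χ)) (PicF.cl Pu) = c) := by
  obtain ⟨ξ, h, hψ, hp, hgi⟩ := exists_isJac Sga7.H780.JK.jk hdim₂ σ₂ hσ₂ hJ₂
  have hPuI : PicF.IsInvertible Pu := ((Fine.ok_iff f₂ hdim₂ 0 J₂ Pu).1 hPu).1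
  have hPuc : mk Pu hPuI = ξ := mk_univ hψ Pu hPu hPn hT₂ hPuψ hPuI
  have hcl : PicF.cl Pu = toCl ξ := by rw [← hPuc, toCl_mk]
  have key : ∀ g : Over.mk f₁ ⟶ J₂, PicF.pullCl (PicF.XTmap f₂ g) (PicF.cl Pu) = toCl (Abel.cls h _ g) := by
    intro g
    rw [hcl, ← toCl_pull]; rfl
  have hbase := base_point hdim₁ σ₁ hσ₁ J₁ ψ₁ hJ₁ j₁ hj₁
  have hX₂ := Base.isSmoothProperCurve f₂ hdim₂
  have hX₁ := Base.isSmoothProperCurve f₁ hdim₁
  have hAlb : ∀ (φ : Over.mk f₁ ⟶ J₂),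
      (Over.homMk σ₁ hσ₁ : 𝟙_ (Over (Spec (CommRingCat.of k))) ⟶ Over.mk f₁) ≫ φ = 1 →
      ∃! χ : J₁ ⟶ J₂, IsMonHom χ ∧ j₁ ≫ χ = φ := fun φ hφ =>
    K531.AlbMain.existsUnique hdim₁ hg₁ σ₁ hσ₁ J₁ ψ₁ hJ₁ j₁ hj₁ J₂ φ (left_one hφ)
  have hcomp : ∀ χ : J₁ ⟶ J₂, IsMonHom χ →
      (Over.homMk σ₁ hσ₁ : 𝟙_ (Over (Spec (CommRingCat.of k))) ⟶ Over.mk f₁) ≫ j₁ ≫ χ = 1 := by
    intro χ hχ
    rw [← Category.assoc, hbase, MonObj.one_comp]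
  refine ⟨fun χ hχ => ⟨?_, ?_, ?_⟩, fun χ₁ χ₂ h1 h2 h12 => ?_, fun c hc => ?_⟩
  · rw [key]
    exact isInvertibleCl_toCl _
  · rw [key, ← toCl_pull, isTrivialCl_toCl_iff]
    exact (mem_Rg f₂ σ₂ hσ₂).1 (Abel.cls_mem h _)
  · rw [key, ← toCl_pull, isTrivialCl_toCl_iff, ← Abel.cls_comp, hcomp χ hχ, map_one]
  · rw [key, key] at h12
    have h3 := Abel.cls_injective h _ (toCl_injective h12)
    exact (hAlb (j₁ ≫ χ₁) (hcomp χ₁ h1)).unique ⟨h1, rfl⟩ ⟨h2, h3.symm⟩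
  · obtain ⟨hc1, hc2, hc3⟩ := hc
    obtain ⟨d, rfl⟩ := exists_toCl hc1
    rw [← toCl_pull, isTrivialCl_toCl_iff] at hc2 hc3
    have hconn : ConnectedSpace (Over.mk f₁).left := by
      have h1 : IsIntegral C₁ := hX₁.2.2.1
      exact inferInstanceAs (ConnectedSpace C₁)
    obtain ⟨φ, hφ, hφ0⟩ := exists_hom h hX₂ _ d ((mem_Rg f₂ σ₂ hσ₂).2 hc2) hc3
    obtain ⟨χ, ⟨hχ1, hχ2⟩, -⟩ := hAlb φ hφ0
    refine ⟨χ, hχ1, ?_⟩
    rw [key, hχ2, Abel.cls_apply, hφ]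

/-- The correspondence which restricts to `O(Δ - C × P - P × C)` is the universal one. -/
theorem main18 {C : Scheme.{u}} (f : C ⟶ Spec (CommRingCat.of k))
    [IsProper f] [Smooth f] [GeometricallyConnected f]
    (hdim : topologicalKrullDim C = 1)
    (hg : letI : C.Over (Spec (CommRingCat.of k)) := ⟨f⟩; 0 < Curv2.genus k C)
    (σ : Spec (CommRingCat.of k) ⟶ C) (hσ : σ ≫ f = 𝟙 _)
    (J : Over (Spec (CommRingCat.of k))) [GrpObj J] [IsCommMonObj J]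
    (ψ : (ModFun.PicDeg f 0).Hom ⊤ J) (hJ : Jac.IsJacobian f ⊤ J ψ)
    (Pu : (PicF.XT f J).Modules) (hPu : (ModFun.PicDeg f 0).ok J Pu)
    (hPn : Jac.IsNormAlong f σ hσ J Pu)
    (hT : (⊤ : ObjectProperty (Over (Spec (CommRingCat.of k)))) J) (hPuψ : ψ.app J Pu hT hPu = 𝟙 J)
    (j : Over.mk f ⟶ J) (hj : Jac.IsAbelJacobiAt f σ ψ j)
    (LP : (PicF.XT f (Over.mk f)).Modules) (hLPi : PicF.IsInvertible LP)
    (hLP : Nonempty (CohB1.tensorMod LP (ClSub.idealMod (pullback.diagonal f).ker) ≅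
      CohB1.tensorMod ((Scheme.Modules.pullback (pullback.fst f f)).obj (ClSub.idealMod σ.ker))
        ((Scheme.Modules.pullback (pullback.snd f f)).obj (ClSub.idealMod σ.ker))))
    (N : (PicF.XT f J).Modules) (hN : PicF.IsInvertible N)
    (hNP : Jac.IsNormAlong f σ hσ J N)
    (hN0 : PicF.IsTrivialCl (PicF.pullCl (PicF.XTmap f (η[J])) (PicF.cl N)))
    (hNj : Nonempty ((Scheme.Modules.pullback (PicF.XTmap f j)).obj N ≅ LP)) :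
    Nonempty (N ≅ Pu) := by
  have hs : SmoothOfRelativeDimension 1 f := Base.smoothOfRelDim f hdim
  obtain ⟨ξ, h, hψ, hp, hgi⟩ := exists_isJac Sga7.H780.JK.jk hdim σ hσ hJ
  have hab : IsAbel h j := isAbel h hψ hj
  have hPuI : PicF.IsInvertible Pu := ((Fine.ok_iff f hdim 0 J Pu).1 hPu).1
  have hPuc : mk Pu hPuI = ξ := mk_univ hψ Pu hPu hPn hT hPuψ hPuI
  have hX := Base.isSmoothProperCurve f hdim
  have hNm := (isNorm_iff N hN).1 hNP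
  have hN0' : pull (PicF.XTmap f (η[J])) (mk N hN) = 1 := by
    rw [← isTrivialCl_toCl_iff, toCl_pull, toCl_mk]
    exact hN0
  have hint : IsIntegral J.left := GeometricallyIntegral.isIntegral_of_subsingleton J.hom
  obtain ⟨φ, hφ, hφ0⟩ := exists_hom h hX η[J] (mk N hN) hNm hN0'
  have hη : η[J] ≫ φ = η[J] := by
    rw [hφ0, Hom.one_def, toUnit_unit, Category.id_comp]
  have hsm : Smooth J.hom := Grpsch.AbBC.smooth_hom J
  have hmon : IsMonHom φ := Sga3.H780.Pointed.isMonHom_of_pointed J J φ hη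
  -- the restriction to the curve
  have hLPc : pull (PicF.XTmap f j) (mk N hN) = mk LP hLPi := by
    rw [pull_mk, mk_eq_iff]
    exact hNj
  have hI : PicF.IsInvertible (ClSub.idealMod σ.ker) :=
    Dix.IdealModCartier.isInvertible_idealMod (UnitBase.isEff_ker f σ hσ)
  have hLPc2 : mk LP hLPi = (gcl f (Abel.idPt (f := f)))⁻¹ * gcl f (Pt.ofSection hσ (Over.mk f)) *
      pull (PicF.XTproj f (Over.mk f)) (Fga.JacFactor.dcl σ.ker (UnitBase.isEff_ker f σ hσ)) := by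
    have h2 : gcl f (Abel.idPt (f := f)) = mk (ClSub.idealMod (pullback.diagonal f).ker)
        (Dix.IdealModCartier.isInvertible_idealMod (isEff_secGraph f (Abel.idPt (f := f)))) := rfl
    rw [mul_assoc, eq_inv_mul_iff_mul_eq, mul_comm, ← pull_fst_ker σ hσ, h2, mk_mul_mk, Fga.JacFactor.dcl, pull_mk,
      pull_mk, mk_mul_mk, mk_eq_iff]
    exact hLP
  have hcls : Abel.cls h _ (j ≫ φ) = Abel.cls h _ j := by
    have h1 := hab (Over.mk f) (Abel.idPt (f := f))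
    have h2 : Abel.ptHom (Abel.idPt (f := f)) = 𝟙 _ := rfl
    rw [h2, Category.id_comp] at h1
    rw [Abel.cls_comp, Abel.cls_apply, hφ, hLPc, h1]
    have h3 : mk LP hLPi ∈ Rg f σ hσ (Over.mk f) := by
      rw [← hLPc]
      exact pull_mem _ hNm
    rw [← norm_of_mem f σ hσ h3, hLPc2, map_mul, norm_pull_XTproj, mul_one]
    rfl
  have hj' : j ≫ φ = j := Abel.cls_injective h _ hcls
  have hbase := base_point hdim σ hσ J ψ hJ j hj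
  have huniq := K531.AlbMain.existsUnique hdim hg σ hσ J ψ hJ j hj J j (left_one hbase)
  have hid : IsMonHom (𝟙 J) := inferInstance
  have h1 : φ = 𝟙 J := huniq.unique ⟨hmon, hj'⟩ ⟨hid, Category.comp_id j⟩
  rw [h1, XTmap_id, pull_id] at hφ
  rw [← mk_eq_iff hN hPuI, ← hφ, hPuc]

end K532.Corr
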