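import Groth.Agent.CycA.IntLocal
import Groth.Agent.Jac.K914.Chain
import Groth.Agent.Sga4h.GenULADim
import Groth.Agent.JacVar.K532.Base

/-!
# Codimension one

* `trdegAt_proj_le`: the fibres of `C ×_k Z ⟶ Z` have dimension at most one.
* `codim_one`: a proper closed integral subscheme `Z` of `J` such that `J` is dominated by `C × Z` over `k` has
  codimension one.
-/

set_option autoImplicit false
universe u
open CategoryTheory CategoryTheory.Limits AlgebraicGeometry

namespace K532.DimTheta

open Groth.Agent Groth.Agent.Sga4h.GeoDim Groth.Agent.CycA.IntLocal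

variable {k : Type u} [Field k] {C : Scheme.{u}} (f : C ⟶ Spec (CommRingCat.of k))

theorem trdegAt_proj_le [IsProper f] [Smooth f] [GeometricallyConnected f] [SmoothOfRelativeDimension 1 f]
    (Z : Over (Spec (CommRingCat.of k))) (p : PicF.XT f Z) : trdegAt (PicF.XTproj f Z) p ≤ 1 := by
  let z : Z.left := PicF.XTproj f Z p
  let K := Z.left.residueField z
  let t : Spec (CommRingCat.of K) ⟶ Z.left := Z.left.fromSpecResidueField z
  let T : Over (Spec (CommRingCat.of k)) := Over.mk (t ≫ Z.hom)
  let g : T ⟶ Z := Over.homMk t rfl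
  have hpb : IsPullback (PicF.XTmap f g) (PicF.XTproj f T) (PicF.XTproj f Z) t :=
    Picfga.HilbPull.isPullback_XTmap f g
  obtain ⟨q, hq1, hq2⟩ : ∃ q : PicF.XT f T, PicF.XTmap f g q = p ∧ True := by
    have h1 : z ∈ Set.range t := by
      rw [Scheme.range_fromSpecResidueField]; rfl
    obtain ⟨y, hy⟩ := h1
    obtain ⟨q, hq, -⟩ := Scheme.exists_preimage_of_isPullback hpb p y hy.symm
    exact ⟨q, hq, trivial⟩
  have h1 := trdegAt_square (PicF.XTmap f g) (PicF.XTproj f T) (PicF.XTproj f Z) t hpb.w q
    (by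
      have : IsPreimmersion (PicF.XTmap f g) := MorphismProperty.of_isPullback hpb.flip inferInstance
      exact trdegAt_eq_zero_of_isPreimmersion _ _)
    (trdegAt_eq_zero_of_isPreimmersion _ _)
  rw [hq1] at h1
  rw [← h1]
  exact K914.Chain.trdegAt_XTproj_le f (t ≫ Z.hom) q

theorem codim_one [IsProper f] [Smooth f] [GeometricallyConnected f] [SmoothOfRelativeDimension 1 f]
    {J : Scheme.{u}} (s : J ⟶ Spec (CommRingCat.of k)) [LocallyOfFiniteType s] [IsIntegral J]
    {Z : Scheme.{u}} [IsIntegral Z] (i : Z ⟶ J) [IsClosedImmersion i] (hi : ¬ Function.Surjective i)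
    (m : PicF.XT f (Over.mk (i ≫ s)) ⟶ J) (hm : m ≫ s = PicF.XTproj f (Over.mk (i ≫ s)) ≫ i ≫ s)
    (hsurj : Function.Surjective m) :
    ringKrullDim (J.presheaf.stalk (i (genericPoint Z))) = 1 := by
  obtain ⟨a, t, n, ha, ht, -, hn, hat⟩ := exists_dims s (i (genericPoint Z))
  obtain ⟨-, t', n', -, ht', htc', hn', -⟩ := exists_dims s (genericPoint J)
  have hη := genericPoint_spec J
  have e1 : t' = n := by
    have h1 : (closure {genericPoint J} : Set J) = Set.univ := hη
    rw [h1, IsHomeomorph.topologicalKrullDim_eq _ (Homeomorph.Set.univ J).isHomeomorph, hn] at htc'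
    exact_mod_cast htc'.symm
  subst e1
  have hle : ∀ z : Z, trdegAt (i ≫ s) z ≤ (t : Cardinal.{u}) := by
    intro z
    have h1 : trdegAt (i ≫ s) (genericPoint Z) = t := by
      rw [trdegAt_comp, trdegAt_eq_zero_of_isPreimmersion i, add_zero]
      exact ht
    rw [← h1]
    by_cases hz : genericPoint Z = z
    · rw [hz]
    · exact (trdegAt_lt_of_specializes (i ≫ s) (genericPoint_specializes z) hz
        (Subsingleton.elim (α := PrimeSpectrum k) _ _)).le
  obtain ⟨p, hp⟩ := hsurj (genericPoint J)
  have h1 := trdegAt_comp m s p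
  rw [hm, trdegAt_comp (PicF.XTproj f (Over.mk (i ≫ s))) (i ≫ s) p, hp] at h1
  have h2 : trdegAt s (genericPoint J) = (t' : Cardinal.{u}) := ht'
  rw [h2] at h1
  have h3 : (t' : Cardinal.{u}) ≤ ((t + 1 : ℕ) : Cardinal.{u}) := by
    push_cast
    calc (t' : Cardinal.{u}) ≤ t' + trdegAt m p := le_self_add
      _ = _ := h1.symm
      _ ≤ _ := add_le_add (hle _) (trdegAt_proj_le f (Over.mk (i ≫ s)) p)
  have h4 : t' ≤ t + 1 := by exact_mod_cast h3
  have h5 : t < t' := by
    have hne : genericPoint J ≠ i (genericPoint Z) := by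
      intro h
      apply hi
      intro y
      have hcl : IsClosed (Set.range i) := i.isClosedEmbedding.isClosed_range
      have h6 : genericPoint J ∈ Set.range i := ⟨_, h.symm⟩
      exact (genericPoint_specializes y).mem_closed hcl h6
    have h6 := trdegAt_lt_of_specializes s (genericPoint_specializes (i (genericPoint Z))) hne
      (Subsingleton.elim (α := PrimeSpectrum k) _ _)
    rw [h2] at h6
    have h7 : trdegAt s (i (genericPoint Z)) = (t : Cardinal.{u}) := ht
    rw [h7] at h6
    exact_mod_cast h6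
  have h6 : a = 1 := by omega
  rw [ha, h6]
  rfl

end K532.DimTheta
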