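import Groth.Agent.JacVar.K533.ThetaDual
import Groth.Agent.JacVar.K533.DualKer
import Groth.Agent.JacVar.K531.GoodPt
import Groth.Agent.Jac.K914.Fine
import Groth.Agent.JacVar.K532.ThetaAmple
import Groth.Agent.S4276

/-!
# The dual of the Abel map

Any field `k`, `X` a curve with a rational point, `J` its Jacobian, `ζ` the Poincaré class on `J × Jt`.
* `isDeg_of_mem_pz`: classes algebraically equivalent to zero on the geometric fibres have degree `0`.
* `poinc_mul_right`: the Poincaré class is additive in the second variable.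
* `exists_fd`: the homomorphism `fd : Jt ⟶ J` with `(1 × fd)^* ξ = (α × 1)^* ζ`.
* `isIso_lam`: `λ_Θ` is an isomorphism.
-/

set_option autoImplicit false
set_option backward.isDefEq.respectTransparency false
universe u
open CategoryTheory CategoryTheory.Limits AlgebraicGeometry Opposite TopologicalSpace MonObj MonoidalCategory
  CartesianMonoidalCategory

namespace K532.DualAbel

open Groth.Agent Groth.Agent.Grpsch Groth.Agent.Grpsch.PicGrp Groth.Agent.Fga.RigGrp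
open K732.PicZero K732.Dual K732.Prim Groth.Agent.Fga.JacSum Groth.Agent.Fga.JacAlg Groth.Agent.Picfga.ChiDef
open Groth.Agent.Fga.JacSurj Groth.Agent.Sga7.H732 Groth.Agent.Sga7.H732.Hedge
open Groth.Agent.Fga
open K914.Curve K914.Cls K914.HField K533.Cst K533.ThetaFam K533.ThetaLocus K533.ThetaW K914.Fine

section deg

variable {k : Type u} [Field k] {X : Scheme.{u}} {f : X ⟶ Spec (CommRingCat.of k)}
  [IsProper f] [Smooth f] [GeometricallyConnected f]

theorem chiK_eq_of_mem_az (hdim : topologicalKrullDim X = 1) {Ω : Type u} [Field Ω] [IsAlgClosed Ω]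
    (t : Spec (CommRingCat.of Ω) ⟶ Spec (CommRingCat.of k)) {c : Pic (PicF.XT f (Over.mk t))}
    (hc : c ∈ az (PicF.XTproj f (Over.mk t))) : chiK f t c = chiK f t 1 := by
  obtain ⟨L, hL, rfl⟩ := exists_mk c
  let _ := overK f t
  have h1 : IsProper (PicF.XT f (Over.mk t) ↘ Spec (CommRingCat.of Ω)) :=
    inferInstanceAs (IsProper (pullback.snd f t))
  have h2 : topologicalKrullDim (PicF.XT f (Over.mk t)) = 1 :=
    (K531.GoodPt.isSmoothProperCurve_bc (f := f) t hdim).2.2.2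
  have h3 : Pic13.IsAlgEquivZero Ω (PicF.XT f (Over.mk t)) L := (isAlgEquivZero_iff_mem_az _ hL).2 hc
  have h4 := S4276.chi_pow_of_isAlgEquivZero Ω (PicF.XT f (Over.mk t)) 1 (by rw [h2]; rfl) L h3
    (Coh.structureModule _) (Groth.Agent.VarietyA.CurveFin.isCoh_of_isInvertible
      Fdesc.LocGen.isInvertible_structureModule) 1
  have e : CohB1.tensorMod (Coh.structureModule (PicF.XT f (Over.mk t))) (CohB1.tensorPow L 1) ≅ L :=
    (Ega2.Tens.swap _ _ ≪≫ Ega2.Tens.runit _) ≪≫ (Ega2.Tens.swap _ _ ≪≫ Ega2.Tens.runit _)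
  rw [Fga.EulerIso.eulerCharLE_congr Ω e] at h4
  exact h4

/-- Classes algebraically equivalent to zero on the geometric fibres have degree `0`. -/
theorem isDeg_of_mem_pz (hdim : topologicalKrullDim X = 1) {T : Over (Spec (CommRingCat.of k))}
    {c : Pic (PicF.XT f T)} (hc : c ∈ pz f T) : IsDeg f 0 c := by
  intro τ
  rw [add_zero]
  let Ω := AlgebraicClosure (T.left.residueField τ)
  let y : Spec (CommRingCat.of Ω) ⟶ T.left :=
    Spec.map (CommRingCat.ofHom (algebraMap (T.left.residueField τ) Ω)) ≫ T.left.fromSpecResidueField τ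
  have hy : ∀ z, y z = τ := by
    intro z
    simp only [y, Scheme.Hom.comp_apply]
    exact Scheme.fromSpecResidueField_apply τ _
  rw [← chiPt_eq_chiAt (JacFib.bcStep f) T y τ hy, ← chiPt_eq_chiAt (JacFib.bcStep f) T y τ hy, chiPt, chiPt, map_one]
  refine chiK_eq_of_mem_az hdim (y ≫ T.hom) ?_
  exact pull_mem_of_mem hc y (PicF.XTmap f (ofHom T y)) (PicF.XTproj f (Over.mk (y ≫ T.hom)))
    (XTmap_XTproj f (ofHom T y))

end deg

section poinc

variable {S : Scheme.{u}} {A At : Over S} [GrpObj A] [GrpObj At]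
  {φ : ∀ T : Over S, PicF.Cl (PicF.XT A.hom T) → (T ⟶ At)}
  (hD : AbDual.IsDualAV Scheme.fppfPrecoverage A At φ)
  (hF : ∀ T : Over S, Function.Bijective (PicF.XTproj A.hom T).appTop)
  {ζ : Pic (PicF.XT A.hom At)} (h1 : ζ ∈ pz A.hom At) (h2 : ζ ∈ rg A At) (h3 : cm φ ζ = 𝟙 At)

include hD hF h1 h2 h3 in
/-- The Poincaré class is additive in the second variable. -/
theorem poinc_mul_right {T : Over S} (a b : T ⟶ At) :
    pull (PicF.XTmap A.hom (a * b)) ζ = pull (PicF.XTmap A.hom a) ζ * pull (PicF.XTmap A.hom b) ζ := by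
  refine cm_inj hD hF (pull_XTmap_mem _ h1) (mul_mem (pull_XTmap_mem _ h1) (pull_XTmap_mem _ h1)) (pull_mem _ h2)
    (mul_mem (pull_mem _ h2) (pull_mem _ h2)) ?_
  rw [cm_mul hD (pull_XTmap_mem _ h1) (pull_XTmap_mem _ h1), cm_pull hD _ h1, cm_pull hD _ h1, cm_pull hD _ h1, h3,
    Category.comp_id, Category.comp_id, Category.comp_id]

end poinc

section curve

variable {k : Type u} [Field k] {X : Scheme.{u}} {f : X ⟶ Spec (CommRingCat.of k)}
  [IsProper f] [Smooth f] [GeometricallyConnected f]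
  {σ : Spec (CommRingCat.of k) ⟶ X} {hσ : σ ≫ f = 𝟙 (Spec (CommRingCat.of k))}
  {J : Over (Spec (CommRingCat.of k))} [GrpObj J] {ξ : Pic (PicF.XT f J)} (h : IsJac f σ hσ J ξ)
  {α : Over.mk f ⟶ J}
  {Jt : Over (Spec (CommRingCat.of k))} [GrpObj Jt] {φ : AgPol.DualMap J Jt}
  (hD : AbDual.IsDualAV Scheme.fppfPrecoverage J Jt φ)
  {ζ : Pic (PicF.XT J.hom Jt)} (h1 : ζ ∈ pz J.hom Jt) (h2 : ζ ∈ rg J Jt) (h3 : cm φ ζ = 𝟙 Jt)

/-- `α × 1` -/
noncomputable def ba (α : Over.mk f ⟶ J) (T : Over (Spec (CommRingCat.of k))) : PicF.XT f T ⟶ PicF.XT J.hom T :=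
  AbDual.bcMap α T

omit [IsProper f] [Smooth f] [GeometricallyConnected f] [GrpObj J] in
theorem ba_fst (T : Over (Spec (CommRingCat.of k))) :
    ba α T ≫ pullback.fst J.hom T.hom = pullback.fst f T.hom ≫ α.left := bcMap_fst α T

omit [IsProper f] [Smooth f] [GeometricallyConnected f] [GrpObj J] in
theorem ba_proj (T : Over (Spec (CommRingCat.of k))) :
    ba α T ≫ PicF.XTproj J.hom T = PicF.XTproj f T := bcMap_XTproj α T

omit [IsProper f] [Smooth f] [GeometricallyConnected f] [GrpObj J] in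
theorem XTmap_ba {T T' : Over (Spec (CommRingCat.of k))} (g : T' ⟶ T) :
    PicF.XTmap f g ≫ ba α T = ba α T' ≫ PicF.XTmap J.hom g := by
  apply pullback.hom_ext
  · rw [Category.assoc, ba_fst, Category.assoc, XTmap_fst, XTmap_fst_assoc, ba_fst]
  · change (_ ≫ _) ≫ PicF.XTproj J.hom T = (_ ≫ _) ≫ PicF.XTproj J.hom T
    rw [Category.assoc, ba_proj, Category.assoc, XTmap_XTproj, XTmap_XTproj, ← Category.assoc, ba_proj]

omit [IsProper f] [Smooth f] [GeometricallyConnected f] [GrpObj Jt] in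
include h2 in
theorem pull_ba_mem (hbase : (Over.homMk σ hσ : 𝟙_ (Over (Spec (CommRingCat.of k))) ⟶ Over.mk f) ≫ α = 1) :
    pull (ba α Jt) ζ ∈ Rg f σ hσ Jt := by
  rw [mem_Rg, ← pull_comp]
  have e : PicF.secT f σ hσ Jt ≫ ba α Jt = (lift (1 : Jt ⟶ J) (𝟙 Jt)).left := by
    apply pullback.hom_ext
    · rw [Category.assoc, ba_fst]
      refine (Category.assoc _ _ _).symm.trans ?_
      refine (congrArg (fun z => z ≫ α.left) (pullback.lift_fst _ _ _)).trans ?_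
      refine Eq.trans ?_ (congrArg (fun q => Over.Hom.left q) (lift_fst (1 : Jt ⟶ J) (𝟙 Jt))).symm
      have h4 : (1 : Jt ⟶ J) = toUnit Jt ≫ (Over.homMk σ hσ : 𝟙_ (Over (Spec (CommRingCat.of k))) ⟶ Over.mk f) ≫ α := by
        rw [hbase, MonObj.comp_one]
      rw [h4]
      change (Jt.hom ≫ σ) ≫ α.left = (toUnit Jt).left ≫ σ ≫ α.left
      rw [K532.Dict.toUnit_left, Category.assoc]
    · change (_ ≫ _) ≫ PicF.XTproj J.hom Jt = _
      rw [Category.assoc, ba_proj]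
      refine (pullback.lift_snd _ _ _).trans ?_
      exact (congrArg (fun q => Over.Hom.left q) (lift_snd (1 : Jt ⟶ J) (𝟙 Jt))).symm
  rw [e]
  exact mem_rg_iff.1 h2

variable [IsProper J.hom] [GeometricallyIntegral J.hom]

include h hD h1 h2 h3 in
/-- **The dual of the Abel map.** -/
theorem exists_fd (hdim : topologicalKrullDim X = 1)
    (hbase : (Over.homMk σ hσ : 𝟙_ (Over (Spec (CommRingCat.of k))) ⟶ Over.mk f) ≫ α = 1) :
    ∃ fd : Jt ⟶ J, IsMonHom fd ∧ pull (PicF.XTmap f fd) ξ = pull (AbDual.bcMap α Jt) ζ := by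
  have hz : pull (ba α Jt) ζ ∈ pz f Jt := pull_bcMap_mem α h1
  obtain ⟨fd, hfd, -⟩ := h.univ Jt (pull (ba α Jt) ζ)
    (pull_ba_mem h2 hbase) (deg_iff.2 (isDeg_of_mem_pz hdim hz))
  refine ⟨fd, K533.ThetaLam.isMonHom_of_mul' fd fun T a b => ?_, hfd⟩
  apply Abel.cls_injective h T
  rw [map_mul, Abel.cls_comp, Abel.cls_comp, Abel.cls_comp, Abel.cls_apply, hfd, ← pull_comp, ← pull_comp,
    ← pull_comp, XTmap_ba, XTmap_ba, XTmap_ba, pull_comp, pull_comp, pull_comp,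
    poinc_mul_right hD (K732.CubeSec.bijective_XTproj J.hom) h1 h2 h3, map_mul]

variable [SmoothOfRelativeDimension 1 f] [IsCommMonObj J]
  {ψ : (ModFun.PicDeg f 0).Hom ⊤ J} (hψ : CompatCl f σ hσ ψ ξ)
  (hα : ∀ (T : Over (Spec (CommRingCat.of k))) (z : Pt f T),
      Abel.cls h T (Abel.ptHom z ≫ α) = acl f σ hσ z)
  {N : X.Modules} (hN : PicF.IsInvertible N) {n : ℕ} (hn : chiK f (𝟙 (Spec (CommRingCat.of k))) 1 + n = 1)
  (hNd : dK f (𝟙 (Spec (CommRingCat.of k))) (cst f (Over.mk (𝟙 _)) (mk N hN)) = n - 1)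
  {ΘL : J.left.Modules} (hΘ : Jac.IsThetaLB f 0 ψ N ΘL)
  {l : J ⟶ Jt} (hl : AgPol.IsLambda J Jt φ ΘL l)

include h hψ hα hn hNd hΘ hl hD in
/-- **`λ_Θ` is an isomorphism.** -/
theorem isIso_lam (hdim : topologicalKrullDim X = 1)
    (hbase : (Over.homMk σ hσ : 𝟙_ (Over (Spec (CommRingCat.of k))) ⟶ Over.mk f) ≫ α = 1) : IsIso l := by
  have hF := K732.CubeSec.bijective_XTproj J.hom
  have hgc : GeometricallyConnected J.hom := by
    have hf : GeometricallyIrreducible J.hom := inferInstance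
    constructor
    intro L _ y Z fst snd h
    have := hf.geometrically_irreducibleSpace y fst snd h
    exact inferInstanceAs (ConnectedSpace Z)
  obtain ⟨ζ, h1, h2, h3⟩ := exists_poinc hD hF
  obtain ⟨fd, hfd1, hfd⟩ := exists_fd h hD h1 h2 h3 hdim hbase
  have e1 : l ≫ fd = (𝟙 J)⁻¹ := K533.ThetaDual.lam_comp_fd h hψ hα hN hn hNd hΘ hD h1 h2 h3 hl hfd hdim
  have hm : IsMonHom l := K533.ThetaDual.isMonHom_lam hD hF h1 h2 h3 hΘ.1 hl
  have e2 := K533.ThetaDual.pull_lam hD hF h1 h2 h3 hΘ.1 hl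
  have e3 : fd ≫ l = (𝟙 Jt)⁻¹ := K533.DualKer.fd_comp_l hD h1 h2 h3 _ e2 e1
  have e4 : l ≫ fd ≫ (𝟙 J)⁻¹ = 𝟙 J := by
    rw [← Category.assoc, e1, GrpObj.comp_inv, Category.comp_id, inv_inv]
  have e5 : ((𝟙 Jt)⁻¹ ≫ fd) ≫ l = 𝟙 Jt := by
    rw [Category.assoc, e3, GrpObj.comp_inv, Category.comp_id, inv_inv]
  refine ⟨fd ≫ (𝟙 J)⁻¹, e4, ?_⟩
  have e6 : fd ≫ (𝟙 J)⁻¹ = (𝟙 Jt)⁻¹ ≫ fd := by
    calc fd ≫ (𝟙 J)⁻¹ = (((𝟙 Jt)⁻¹ ≫ fd) ≫ l) ≫ fd ≫ (𝟙 J)⁻¹ := by rw [e5, Category.id_comp]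
      _ = ((𝟙 Jt)⁻¹ ≫ fd) ≫ l ≫ fd ≫ (𝟙 J)⁻¹ := Category.assoc _ _ _
      _ = _ := by rw [e4, Category.comp_id]
  rw [e6, e5]

end curve

end K532.DualAbel
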