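import Groth.Agent.JacVar.K532.ThetaIdeal
import Groth.Agent.JacVar.K532.DimTheta
import Groth.Agent.Ega1.ReducedSub
import Groth.Agent.Sga5.SmoothField
import Groth.Agent.S1684
import Mathlib.AlgebraicGeometry.Group.Smooth

/-!
# The theta divisor is an effective Cartier divisor

`isEff_theta`: the ideal of the reduced subscheme `(W^{g-1})⁻¹` of the Jacobian is an effective Cartier ideal.
-/

set_option autoImplicit false
universe u
open CategoryTheory CategoryTheory.Limits AlgebraicGeometry MonoidalCategory CartesianMonoidalCategory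
open scoped MonObj

namespace K532.ThetaCartier

open Groth.Agent Groth.Agent.Grpsch.PicGrp Groth.Agent.Fga.RigGrp Groth.Agent.Sga7.H732.Hedge
open Groth.Agent.Sga7.H732 K532.UnitBase K532.CurvePic K532.CurvePts K532.Dict Groth.Agent.Fga.JacSum
open Groth.Agent.Fga.JacFactor K532.Setup K532.KPts K532.Wr K532.MultPts K532.Theta1 Groth.Agent.Grpsch.Cube
open K532.NonHyp K532.ThetaClass K532.ThetaIdeal Groth.Agent.Divis.EffCartier

theorem irreducibleSpace_subscheme {X : Scheme.{u}} (I : X.IdealSheafData) (h : IsIrreducible (I.support : Set X)) :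
    IrreducibleSpace I.subscheme := by
  have h1 : IsIrreducible (Set.range I.subschemeι) := by rw [Scheme.IdealSheafData.range_subschemeι]; exact h
  have h2 := Subtype.irreducibleSpace h1
  let e := I.subschemeι.isEmbedding.toHomeomorph
  have : Nonempty I.subscheme := ⟨e.symm ⟨_, h1.nonempty.some_mem⟩⟩
  exact e.isOpenEmbedding.irreducibleSpace

theorem isIntegral_subscheme {X : Scheme.{u}} (Z : TopologicalSpace.Closeds X) (h : IsIrreducible (Z : Set X)) :
    IsIntegral (Scheme.IdealSheafData.vanishingIdeal Z).subscheme := by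
  have h1 := Ega1.ReducedSub.isReduced_subscheme_vanishingIdeal Z
  have h2 := irreducibleSpace_subscheme (Scheme.IdealSheafData.vanishingIdeal Z) (by
    rw [Scheme.IdealSheafData.coe_support_vanishingIdeal]; exact h)
  exact isIntegral_of_irreducibleSpace_of_isReduced _

section curve

variable {k : Type u} [Field k] [IsAlgClosed k] {C : Scheme.{u}} [C.Over (Spec (CommRingCat.of k))] (hX : IsCurve k C)
  {σ : Spec (CommRingCat.of k) ⟶ C} {hσ : σ ≫ (C ↘ Spec (CommRingCat.of k)) = 𝟙 (Spec (CommRingCat.of k))}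
  {J : Over (Spec (CommRingCat.of k))} [GrpObj J] {ξ : Pic (PicF.XT (C ↘ Spec (CommRingCat.of k)) J)}
  (h : IsJac (C ↘ Spec (CommRingCat.of k)) σ hσ J ξ)

/-- There is a class of degree `g - 1` without sections. -/
theorem exists_h0_eq_zero (hX : IsCurve k C) {n : ℕ} (hn : gen k C = n + 1) :
    ∃ c : Pic C, deg k C c = n ∧ CurvePic.h k C 0 c = 0 := by
  obtain ⟨p, -, hp⟩ := Good.exists_general hX
  obtain ⟨U, hU, h1⟩ := exists_open_drop hX (c := ∏ i, (pcl hX (p i))⁻¹) (by omega)
  obtain ⟨x, hx⟩ := exists_kpt hX U hU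
  refine ⟨(∏ i, (pcl hX (p i))⁻¹) * pcl hX x, ?_, by have := h1 x hx; omega⟩
  rw [deg_mul hX, deg_prod_pcl, deg_pcl, hn]
  push_cast
  ring

variable [IsProper (C ↘ Spec (CommRingCat.of k))] [IsProper J.hom]
  [GeometricallyIntegral J.hom] [IsCommMonObj J]
  [SmoothOfRelativeDimension 1 (C ↘ Spec (CommRingCat.of k))]
  {j : Over.mk (C ↘ Spec (CommRingCat.of k)) ⟶ J} (hj : IsAbel h j)

omit [GeometricallyIntegral J.hom] [IsCommMonObj J] [IsProper J.hom] in
include hX hj in
theorem exists_notMem_W [LocallyOfFiniteType J.hom] {n : ℕ} (hn : gen k C = n + 1) : ∃ a : 𝟙_ (Over (Spec (CommRingCat.of k))) ⟶ J, pa a ∉ W j n := by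
  obtain ⟨c, hc, h0⟩ := exists_h0_eq_zero hX hn
  obtain ⟨a, ha⟩ := exists_kcl hX h (c := c * pcl hX (sg hσ) ^ n) (by
    rw [deg_mul hX, hc, deg_pow hX, deg_pcl]; ring)
  refine ⟨a, ?_⟩
  rw [mem_W_iff_h0 hX h hj, ha, inv_pow, mul_inv_cancel_right, h0]
  exact lt_irrefl 0

omit [GeometricallyIntegral J.hom] [IsProper J.hom] in
include hX hj in
theorem exists_pts_W [LocallyOfFiniteType J.hom] {n : ℕ} (hn : gen k C = n + 1)
    (a : 𝟙_ (Over (Spec (CommRingCat.of k))) ⟶ J) :
    ∃ x : Fin (n + 1) → KPt k C, a = (List.ofFn fun i => pm _ (x i).1 (x i).2 ≫ j).prod := by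
  rw [← mem_W_iff (n + 1) a, mem_W_iff_h0 hX h hj]
  have h1 := rr hX (kcl h a * (pcl hX (sg hσ))⁻¹ ^ (n + 1))
  rw [deg_twist hX h, hn] at h1
  omega

include hX hj in
/-- **The theta divisor is Cartier.** -/
theorem isEff_theta [GeometricallyConnected (C ↘ Spec (CommRingCat.of k))] [Smooth (C ↘ Spec (CommRingCat.of k))]
    {n : ℕ} (hn : gen k C = n + 1) : BlowUp.IsEffCartierIdeal (IT j n 1) := by
  let f := C ↘ Spec (CommRingCat.of k)
  have hsm : Smooth J.hom := by
    have h1 : GrpObj (Over.mk J.hom) := inferInstanceAs (GrpObj J)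
    exact smooth_of_grpObj J.hom
  have hint : IsIntegral J.left := GeometricallyIntegral.isIntegral_of_subsingleton J.hom
  have hgi : GeometricallyIntegral f := Base.geometricallyIntegral f
  have hln : IsLocallyNoetherian J.left := Sga5.SmoothField.isLocallyNoetherian J.hom
  -- the set
  let S : Set J.left := (Jac.transl J (1 : 𝟙_ (Over (Spec (CommRingCat.of k))) ⟶ J)).left.base '' (((𝟙 J)⁻¹).left.base '' W j n)
  have hScl : IsClosed S := isClosed_transl 1 (isClosed_inv (isClosed_W j n))
  have hSirr : IsIrreducible S := by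
    have h1 : IsIntegral (Over.mk (WidePullback.base fun (_ : Fin n) => f)).left := isIntegral_pow f n
    have h2 : IsIrreducible (W j n) := by
      change IsIrreducible (Set.range (sm j n).left)
      rw [← Set.image_univ]
      exact (IrreducibleSpace.isIrreducible_univ _).image _ (sm j n).left.continuous.continuousOn
    exact (h2.image _ ((𝟙 J)⁻¹).left.continuous.continuousOn).image _ (Jac.transl J _).left.continuous.continuousOn
  have hSmem : ∀ a : 𝟙_ (Over (Spec (CommRingCat.of k))) ⟶ J, pa a ∈ S ↔ pa a⁻¹ ∈ W j n := by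
    intro a
    rw [pa_transl, pa_inv, inv_one, mul_one]
  let I := IT j n 1
  have hIsupp : (I.support : Set J.left) = S := by
    change ((Scheme.IdealSheafData.vanishingIdeal ⟨closure S, isClosed_closure⟩).support : Set J.left) = S
    rw [Scheme.IdealSheafData.coe_support_vanishingIdeal]
    exact hScl.closure_eq
  have hIint : IsIntegral I.subscheme := by
    refine isIntegral_subscheme _ ?_
    change IsIrreducible (closure S)
    rw [hScl.closure_eq]
    exact hSirr
  have hrange : Set.range I.subschemeι = S := by rw [Scheme.IdealSheafData.range_subschemeι, hIsupp]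
  -- the map
  let Zo : Over (Spec (CommRingCat.of k)) := Over.mk (I.subschemeι ≫ J.hom)
  let iZ : Zo ⟶ J := Over.homMk I.subschemeι rfl
  let T : Over (Spec (CommRingCat.of k)) := Over.mk (PicF.XTproj f Zo ≫ Zo.hom)
  let pZ : T ⟶ Zo := Over.homMk (PicF.XTproj f Zo) rfl
  let pC : T ⟶ Over.mk f := Over.homMk (pullback.fst f Zo.hom) pullback.condition
  let mm : T ⟶ J := (pZ ≫ iZ) * (pC ≫ j)⁻¹
  have hpZo : IsProper Zo.hom := inferInstanceAs (IsProper (I.subschemeι ≫ J.hom))
  have hpT : IsProper T.hom := by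
    have : IsProper (PicF.XTproj f Zo) := inferInstanceAs (IsProper (pullback.snd f Zo.hom))
    exact inferInstanceAs (IsProper (PicF.XTproj f Zo ≫ Zo.hom))
  have hpm : IsProper mm.left := by
    have h1 : IsProper (mm.left ≫ J.hom) := by rw [Over.w]; exact hpT
    exact IsProper.of_comp mm.left J.hom
  have hsurj : Function.Surjective mm.left := by
    rw [← Set.range_eq_univ]
    refine (Set.univ_subset_iff.1 (closed_subset isClosed_univ mm.left.isClosedMap.isClosed_range fun a _ => ?_))
    obtain ⟨x, hx⟩ := exists_pts_W hX h hj hn a⁻¹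
    let y : 𝟙_ (Over (Spec (CommRingCat.of k))) ⟶ J := (List.ofFn fun i : Fin n => pm f (x i.succ).1 (x i.succ).2 ≫ j).prod
    have hx' : a⁻¹ = (pm f (x 0).1 (x 0).2 ≫ j) * y := by
      rw [hx, List.ofFn_succ, List.prod_cons]
    have hy : pa y⁻¹ ∈ Set.range iZ.left := by
      change pa y⁻¹ ∈ Set.range I.subschemeι
      rw [hrange, hSmem, inv_inv, mem_W_iff]
      exact ⟨_, rfl⟩
    rw [mem_range_iff] at hy
    obtain ⟨z, hz⟩ := hy
    have hw : (x 0).1 ≫ f = z.left ≫ Zo.hom := by rw [(x 0).2]; exact (Over.w z).symm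
    let b : 𝟙_ (Over (Spec (CommRingCat.of k))) ⟶ T := Over.homMk (pullback.lift (x 0).1 z.left hw) (by
      change pullback.lift (x 0).1 z.left hw ≫ pullback.snd f Zo.hom ≫ Zo.hom = _
      rw [pullback.lift_snd_assoc]
      exact Over.w z)
    have hb1 : b ≫ pZ = z := Over.OverMorphism.ext (pullback.lift_snd _ _ _)
    have hb2 : b ≫ pC = pm f (x 0).1 (x 0).2 := Over.OverMorphism.ext (pullback.lift_fst _ _ _)
    rw [mem_range_iff]
    refine ⟨b, ?_⟩
    rw [MonObj.comp_mul, GrpObj.comp_inv, reassoc_of% hb1, reassoc_of% hb2, hz, ← mul_inv_rev, ← hx', inv_inv]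
  have hnots : ¬ Function.Surjective I.subschemeι := by
    intro hs
    obtain ⟨a, ha⟩ := exists_notMem_W hX h hj hn
    apply ha
    have h1 : pa a⁻¹ ∈ S := by
      rw [← hrange, hs.range_eq]; trivial
    rw [hSmem, inv_inv] at h1
    exact h1
  have hcodim := DimTheta.codim_one f J.hom I.subschemeι hnots mm.left (Over.w mm) hsurj
  refine S1684.result J.left I hcodim fun x _ => ?_
  have h1 := Sga5.SmoothField.isRegularLocalRing_stalk J.hom x
  exact ⟨inferInstance, (S2821.result (J.left.presheaf.stalk x)).2⟩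

end curve

end K532.ThetaCartier
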