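import Groth.Agent.JacVar.K532.Corr
import Groth.Agent.JacVar.K532.KOne
import Groth.Agent.JacVar.K532.ThetaCartier

/-!
# The pullback of the Mumford class of the theta divisor along `j × (-1)`

`(j × (-1))^* Λ(Θ⁻)` is the universal class.
-/

set_option autoImplicit false
universe u
open CategoryTheory CategoryTheory.Limits AlgebraicGeometry MonoidalCategory CartesianMonoidalCategory
open scoped MonObj

namespace K532.Lam

open Groth.Agent Groth.Agent.Grpsch.PicGrp Groth.Agent.Fga.RigGrp Groth.Agent.Sga7.H732.Hedge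
open Groth.Agent.Sga7.H732 K532.UnitBase K532.CurvePic K532.CurvePts K532.Dict Groth.Agent.Fga.JacSum
open Groth.Agent.Fga.JacFactor K532.Setup K532.KPts K532.Wr K532.MultPts K532.Theta1 Groth.Agent.Grpsch.Cube
open K532.NonHyp K532.ThetaClass Groth.Agent.Divis.EffCartier K532.ThetaIdeal

section general

variable {k : Type u} [Field k] {C : Scheme.{u}} {f : C ⟶ Spec (CommRingCat.of k)}
  {J : Over (Spec (CommRingCat.of k))} [GrpObj J] (j : Over.mk f ⟶ J)

/-- The morphism `j × (-1)`. -/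
noncomputable def jm : Over.mk f ⊗ J ⟶ J ⊗ J :=
  lift (fst (Over.mk f) J ≫ j) (snd (Over.mk f) J ≫ (𝟙 J)⁻¹)

theorem jm_left : (jm j).left = (PicF.XTmap f ((𝟙 J)⁻¹) ≫ AbDual.bcMap j J : PicF.XT f J ⟶ PicF.XT J.hom J) := by
  have h1 : (jm j).left ≫ pullback.fst J.hom J.hom = pullback.fst f J.hom ≫ j.left :=
    congrArg (fun q => q.left) (lift_fst (fst (Over.mk f) J ≫ j) (snd (Over.mk f) J ≫ (𝟙 J)⁻¹))
  have h2 : (jm j).left ≫ pullback.snd J.hom J.hom = pullback.snd f J.hom ≫ ((𝟙 J)⁻¹).left :=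
    congrArg (fun q => q.left) (lift_snd (fst (Over.mk f) J ≫ j) (snd (Over.mk f) J ≫ (𝟙 J)⁻¹))
  have h3 : AbDual.bcMap j J ≫ pullback.fst J.hom J.hom = pullback.fst f J.hom ≫ j.left := by
    rw [AbDual.bcMap, pullback.map, pullback.lift_fst]; rfl
  have h4 : AbDual.bcMap j J ≫ pullback.snd J.hom J.hom = pullback.snd f J.hom := by
    rw [AbDual.bcMap, pullback.map, pullback.lift_snd, Category.comp_id]; rfl
  have h5 := Fga.RigGrp.XTmap_fst f ((𝟙 J)⁻¹ : J ⟶ J)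
  have h6 := Fga.RigGrp.XTmap_XTproj f ((𝟙 J)⁻¹ : J ⟶ J)
  apply pullback.hom_ext
  · refine h1.trans ?_
    refine Eq.trans ?_ (Category.assoc _ _ _).symm
    refine Eq.trans ?_ (congrArg (fun z => PicF.XTmap f ((𝟙 J)⁻¹) ≫ z) h3).symm
    refine Eq.trans ?_ (Category.assoc _ _ _)
    exact congrArg (fun z => z ≫ j.left) h5.symm
  · refine h2.trans ?_
    refine Eq.trans ?_ (Category.assoc _ _ _).symm
    refine Eq.trans ?_ (congrArg (fun z => PicF.XTmap f ((𝟙 J)⁻¹) ≫ z) h4).symm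
    exact h6.symm

/-- The Mumford class. -/
noncomputable def mum (L : Pic J.left) : Pic (J ⊗ J).left :=
  pl μ[J] L * (pl (fst J J) L)⁻¹ * (pl (snd J J) L)⁻¹

/-- The class of the Mumford class along a pair of points. -/
noncomputable def mp {T : Over (Spec (CommRingCat.of k))} (L : Pic J.left) (a b : T ⟶ J) : Pic T.left :=
  pl (a * b) L * (pl a L)⁻¹ * (pl b L)⁻¹

theorem pl_mum {T : Over (Spec (CommRingCat.of k))} (L : Pic J.left) (a b : T ⟶ J) :
    pl (lift a b) (mum L) = mp L a b := by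
  rw [mum, mp, map_mul, map_mul, map_inv, map_inv, ← pl_comp, ← pl_comp, ← pl_comp, lift_fst, lift_snd]
  rfl

theorem pl_mp {T T' : Over (Spec (CommRingCat.of k))} (g : T' ⟶ T) (L : Pic J.left) (a b : T ⟶ J) :
    pl g (mp L a b) = mp L (g ≫ a) (g ≫ b) := by
  rw [mp, mp, map_mul, map_mul, map_inv, map_inv, ← pl_comp, ← pl_comp, ← pl_comp, MonObj.comp_mul]

/-- `(j × (-1))^*` of the Mumford class. -/
noncomputable def cc (L : Pic J.left) : Pic (PicF.XT f J) :=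
  mp (T := Over.mk f ⊗ J) L (fst (Over.mk f) J ≫ j) (snd (Over.mk f) J ≫ (𝟙 J)⁻¹)

theorem pull_mum (L : Pic J.left) :
    pull (PicF.XTmap f ((𝟙 J)⁻¹) ≫ AbDual.bcMap j J : PicF.XT f J ⟶ PicF.XT J.hom J) (mum L) = cc j L := by
  rw [← jm_left]
  exact pl_mum L _ _

omit [GrpObj J] in
theorem pl_unit (L : Pic J.left) {T : Over (Spec (CommRingCat.of k))} (a : 𝟙_ (Over (Spec (CommRingCat.of k))) ⟶ J) :
    pl (toUnit T ≫ a) L = 1 := by
  rw [pl_comp]
  have : pl a L = 1 := pic_spec_local k _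
  rw [this, map_one]

theorem cc_mem (σ : Spec (CommRingCat.of k) ⟶ C) (hσ : σ ≫ f = 𝟙 (Spec (CommRingCat.of k))) (L : Pic J.left)
    (h1 : (Over.homMk σ hσ : 𝟙_ (Over (Spec (CommRingCat.of k))) ⟶ Over.mk f) ≫ j = 1) :
    cc j L ∈ Rg f σ hσ J := by
  rw [mem_Rg]
  let s : J ⟶ Over.mk f ⊗ J := lift (toUnit J ≫ (Over.homMk σ hσ : 𝟙_ (Over (Spec (CommRingCat.of k))) ⟶ Over.mk f)) (𝟙 J)
  have hs : s.left = PicF.secT f σ hσ J := by
    apply pullback.hom_ext
    · have e1 : s.left ≫ pullback.fst f J.hom = (toUnit J).left ≫ σ :=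
        congrArg (fun q => q.left) (lift_fst (toUnit J ≫ (Over.homMk σ hσ : 𝟙_ (Over (Spec (CommRingCat.of k))) ⟶
          Over.mk f)) (𝟙 J))
      refine e1.trans ?_
      rw [toUnit_left]
      exact (pullback.lift_fst _ _ _).symm
    · have e2 : s.left ≫ pullback.snd f J.hom = 𝟙 _ :=
        congrArg (fun q => q.left) (lift_snd (toUnit J ≫ (Over.homMk σ hσ : 𝟙_ (Over (Spec (CommRingCat.of k))) ⟶
          Over.mk f)) (𝟙 J))
      exact e2.trans (pullback.lift_snd _ _ _).symm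
  rw [← hs]
  refine (pl_mp s L _ _).trans ?_
  have e1 : s ≫ fst (Over.mk f) J ≫ j = 1 := by
    rw [← Category.assoc, lift_fst, Category.assoc, h1, MonObj.comp_one]
  have e2 : s ≫ snd (Over.mk f) J ≫ (𝟙 J)⁻¹ = (𝟙 J)⁻¹ := by
    rw [← Category.assoc, lift_snd, Category.id_comp]
  rw [e1, e2, mp, one_mul, pl_one, inv_one, mul_one, mul_inv_cancel]

theorem pull_cc (L : Pic J.left) (b : 𝟙_ (Over (Spec (CommRingCat.of k))) ⟶ J) :
    pull (ui f) (pull (PicF.XTmap f b) (cc j L)) = Fc j L b * (Fc j L 1)⁻¹ := by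
  let s : Over.mk f ⟶ Over.mk f ⊗ J := lift (𝟙 _) (toUnit _ ≫ b)
  have hs : s.left = ui f ≫ PicF.XTmap f b := by
    apply pullback.hom_ext
    · have e1 : s.left ≫ pullback.fst f J.hom = 𝟙 _ :=
        congrArg (fun q => q.left) (lift_fst (𝟙 (Over.mk f)) (toUnit (Over.mk f) ≫ b))
      refine e1.trans ?_
      refine Eq.trans ?_ (Category.assoc _ _ _).symm
      refine Eq.trans ?_ (congrArg (fun z => ui f ≫ z) (Fga.RigGrp.XTmap_fst f b)).symm
      exact (ui_fst f).symm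
    · have e2 : s.left ≫ pullback.snd f J.hom = (toUnit (Over.mk f)).left ≫ b.left :=
        congrArg (fun q => q.left) (lift_snd (𝟙 (Over.mk f)) (toUnit (Over.mk f) ≫ b))
      refine e2.trans ?_
      have e3 := Fga.RigGrp.XTmap_XTproj f b
      refine Eq.trans ?_ (Category.assoc _ _ _).symm
      refine Eq.symm ((congrArg (fun z => ui f ≫ z) e3).trans ?_)
      refine (Category.assoc _ _ _).symm.trans ?_
      refine congrArg (fun z => z ≫ b.left) ?_
      refine (ui_proj f).trans ?_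
      exact (toUnit_left (Over.mk f)).symm
  rw [← pull_comp, ← hs]
  refine (pl_mp s L _ _).trans ?_
  have e1 : s ≫ fst (Over.mk f) J ≫ j = j := by
    rw [← Category.assoc, lift_fst, Category.id_comp]
  have e2 : s ≫ snd (Over.mk f) J ≫ (𝟙 J)⁻¹ = toUnit _ ≫ b⁻¹ := by
    rw [← Category.assoc, lift_snd, Category.assoc, GrpObj.comp_inv, Category.comp_id]
  rw [e1, e2, mp, pl_unit, inv_one, mul_one, Fc, Fc, comp_transl, comp_transl, inv_one, MonObj.comp_one, mul_one]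

end general

section curve

variable {k : Type u} [Field k] [IsAlgClosed k] {C : Scheme.{u}} [C.Over (Spec (CommRingCat.of k))] (hX : IsCurve k C)
  {σ : Spec (CommRingCat.of k) ⟶ C} {hσ : σ ≫ (C ↘ Spec (CommRingCat.of k)) = 𝟙 (Spec (CommRingCat.of k))}
  {J : Over (Spec (CommRingCat.of k))} [GrpObj J] {ξ : Pic (PicF.XT (C ↘ Spec (CommRingCat.of k)) J)}
  (h : IsJac (C ↘ Spec (CommRingCat.of k)) σ hσ J ξ) [IsProper (C ↘ Spec (CommRingCat.of k))] [IsProper J.hom]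
  [GeometricallyIntegral J.hom] [IsCommMonObj J]
  [SmoothOfRelativeDimension 1 (C ↘ Spec (CommRingCat.of k))]
  {j : Over.mk (C ↘ Spec (CommRingCat.of k)) ⟶ J} (hj : IsAbel h j)

omit [GeometricallyIntegral J.hom] in
include hX hj in
/-- Every rational point of `J` is a sum of `g` points. -/
theorem exists_D {n : ℕ} (hn : gen k C = n + 1) (b : 𝟙_ (Over (Spec (CommRingCat.of k))) ⟶ J) :
    ∃ D : Fin (n + 1) → KPt k C, b = (List.ofFn fun i => pm _ (D i).1 (D i).2 ≫ j).prod := by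
  rw [← mem_W_iff (C := C) (n + 1) b, mem_W_iff_h0 hX h hj]
  have hd : deg k C (kcl h b * (pcl hX (sg hσ))⁻¹ ^ (n + 1)) = (n + 1 : ℕ) := by
    rw [deg_mul hX, deg_kcl hX h, deg_pow hX, deg_inv hX, deg_pcl]
    simp
  have h1 := rr hX (kcl h b * (pcl hX (sg hσ))⁻¹ ^ (n + 1))
  rw [hd, hn] at h1
  omega

include hX h hj in
theorem Fc_theta_one {n : ℕ} (hn : gen k C = n + 1)
    (hbase : (Over.homMk σ hσ : 𝟙_ (Over (Spec (CommRingCat.of k))) ⟶ Over.mk (C ↘ Spec (CommRingCat.of k))) ≫ j = 1)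
    (hE : BlowUp.IsEffCartierIdeal (IT j n 1)) :
    Fc j (dcl (IT j n 1) hE)⁻¹ 1 = (pcl hX (sg hσ) ^ (n + 1))⁻¹ := by
  have h1 : Fc j (dcl (IT j n 1) hE)⁻¹ (List.ofFn fun _ : Fin (n + 1) => pm _ (sg hσ).1 (sg hσ).2 ≫ j).prod =
      ∏ i : Fin (n + 1), (pcl hX (sg hσ))⁻¹ := by
    rw [Fc_eq n hE]
    exact pull_IT hX h hj hn (K532.KOne.kone hX h hj hn) hE fun _ => sg hσ
  have h2 : (List.ofFn fun _ : Fin (n + 1) => pm _ (sg hσ).1 (sg hσ).2 ≫ j).prod = 1 := by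
    rw [List.prod_eq_one]
    intro x hx
    rw [List.mem_ofFn] at hx
    obtain ⟨i, rfl⟩ := hx
    exact hbase
  rw [h2, Finset.prod_const, Finset.card_univ, Fintype.card_fin, inv_pow] at h1
  exact h1

include hX h hj in
/-- The values of `b ↦ j^* t_{b⁻¹}^* O(Θ⁻)`. -/
theorem Fc_theta {n : ℕ} (hn : gen k C = n + 1)
    (hbase : (Over.homMk σ hσ : 𝟙_ (Over (Spec (CommRingCat.of k))) ⟶ Over.mk (C ↘ Spec (CommRingCat.of k))) ≫ j = 1)
    (hE : BlowUp.IsEffCartierIdeal (IT j n 1)) (b : 𝟙_ (Over (Spec (CommRingCat.of k))) ⟶ J) :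
    Fc j (dcl (IT j n 1) hE)⁻¹ b * (Fc j (dcl (IT j n 1) hE)⁻¹ 1)⁻¹ = kcl h b := by
  set L : Pic J.left := (dcl (IT j n 1) hE)⁻¹ with hL
  have hFc : ∀ D : Fin (n + 1) → KPt k C,
      Fc j L (List.ofFn fun i => pm _ (D i).1 (D i).2 ≫ j).prod = ∏ i, (pcl hX (D i))⁻¹ := by
    intro D
    rw [hL, Fc_eq n hE]
    exact pull_IT hX h hj hn (K532.KOne.kone hX h hj hn) hE D
  have hF1 : Fc j L 1 = (pcl hX (sg hσ) ^ (n + 1))⁻¹ := by
    have h1 := hFc (fun _ => sg hσ)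
    have h2 : (List.ofFn fun _ : Fin (n + 1) => pm _ (sg hσ).1 (sg hσ).2 ≫ j).prod = 1 := by
      rw [List.prod_eq_one]
      intro x hx
      rw [List.mem_ofFn] at hx
      obtain ⟨i, rfl⟩ := hx
      exact hbase
    rw [h2, Finset.prod_const, Finset.card_univ, Fintype.card_fin, inv_pow] at h1
    exact h1
  obtain ⟨D, rfl⟩ := exists_D hX h hj hn b
  rw [hFc, hF1, inv_inv, kcl_prod hX h hj]

include hX h hj in
theorem main {n : ℕ} (hn : gen k C = n + 1) (hX' : Curve.IsSmoothProperCurve k C (C ↘ Spec (CommRingCat.of k)))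
    (hbase : (Over.homMk σ hσ : 𝟙_ (Over (Spec (CommRingCat.of k))) ⟶ Over.mk (C ↘ Spec (CommRingCat.of k))) ≫ j = 1)
    (hE : BlowUp.IsEffCartierIdeal (IT j n 1)) : cc j (dcl (IT j n 1) hE)⁻¹ = ξ := by
  set L : Pic J.left := (dcl (IT j n 1) hE)⁻¹ with hL
  have hval : ∀ b, Fc j L b * (Fc j L 1)⁻¹ = kcl h b := Fc_theta hX h hj hn hbase hE
  have hint : IsIntegral J.left := GeometricallyIntegral.isIntegral_of_subsingleton J.hom
  have h0 : pull (PicF.XTmap (C ↘ Spec (CommRingCat.of k)) (1 : 𝟙_ (Over (Spec (CommRingCat.of k))) ⟶ J)) (cc j L) = 1 := by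
    apply (uiPic (C ↘ Spec (CommRingCat.of k))).injective
    rw [map_one]
    refine (pull_cc j L 1).trans ?_
    rw [mul_inv_cancel]
  obtain ⟨φ, hφ, hφ0⟩ := Corr.exists_hom h hX' 1 (cc j L) (cc_mem j σ hσ L hbase) h0
  have hpt : ∀ b : 𝟙_ (Over (Spec (CommRingCat.of k))) ⟶ J, b ≫ φ = b := by
    intro b
    apply kcl_injective h
    rw [← hval b, ← pull_cc, kcl_apply, Abel.cls_comp, Abel.cls_apply, hφ]
  have hlf : LocallyOfFiniteType (φ.left ≫ J.hom) := by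
    rw [Over.w]; infer_instance
  have hid : φ.left = 𝟙 J.left := by
    refine ext_of_apply_eq J.hom Set.univ isClosed_univ.isLocallyClosed dense_univ (fun x _ hx => ?_) ?_
    · obtain ⟨b, rfl⟩ := exists_pa hx
      rw [← pa_comp, hpt b]
      rfl
    · rw [Over.w, Category.id_comp]
  have hid' : φ = 𝟙 J := Over.OverMorphism.ext hid
  rw [hid', XTmap_id, pull_id] at hφ
  exact hφ.symm

end curve

section final

variable {k : Type u} [Field k] {J : Over (Spec (CommRingCat.of k))} [GrpObj J]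

omit [Field k] in
theorem mk_lambda' {W Y : Scheme.{u}} (m p q : W ⟶ Y) {L : Y.Modules} (hL : PicF.IsInvertible L) {N : W.Modules}
    (hN : PicF.IsInvertible N) (h : AgPol.IsLambdaSheaf m p q L N) :
    mk N hN = pull m (mk L hL) * (pull p (mk L hL))⁻¹ * (pull q (mk L hL))⁻¹ := by
  have h1 : mk N hN * pull p (mk L hL) * pull q (mk L hL) = pull m (mk L hL) := by
    rw [pull_mk, pull_mk, pull_mk, mk_mul_mk, mk_mul_mk, mk_eq_iff]
    exact h
  refine Eq.trans (eq_mul_inv_of_mul_eq (eq_mul_inv_of_mul_eq h1)) ?_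
  exact mul_right_comm _ _ _

theorem mk_lambda {LΘm : J.left.Modules} (hLΘm : PicF.IsInvertible LΘm)
    {Λ : (PicF.XT J.hom J).Modules} (hΛ : PicF.IsInvertible Λ)
    (hΛL : AgPol.IsLambdaSheaf (μ[J].left : PicF.XT J.hom J ⟶ J.left) (fst J J).left (snd J J).left LΘm Λ) :
    mk Λ hΛ = mum (mk LΘm hLΘm) := mk_lambda' _ _ _ hLΘm hΛ hΛL

theorem transl_one : Jac.transl J (1 : 𝟙_ (Over (Spec (CommRingCat.of k))) ⟶ J) = 𝟙 J := by
  rw [Jac.transl, MonObj.comp_one, mul_one]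

theorem IT_one {C : Scheme.{u}} {f : C ⟶ Spec (CommRingCat.of k)} (j : Over.mk f ⟶ J) (n : ℕ) :
    IT j n 1 = Scheme.IdealSheafData.vanishingIdeal ⟨closure (((𝟙 J)⁻¹).left.base '' W j n), isClosed_closure⟩ := by
  rw [IT]
  congr 1
  apply TopologicalSpace.Closeds.ext
  change closure _ = closure _
  rw [transl_one]
  congr 1
  ext x
  constructor
  · rintro ⟨y, hy, rfl⟩
    exact hy
  · intro hx
    exact ⟨x, hx, rfl⟩

end final

end K532.Lam
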