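import Groth.Agent.JacVar.K532.Theta1
import Groth.Agent.JacVar.K532.NonHyp
import Groth.Agent.Grpsch.Cube

/-!
# The pullback of translates of a line bundle along the Abel map

`J` the Jacobian of a curve `C` over an algebraically closed field, `L` a class on `J`,
`Fc j L b = j^* t_{b⁻¹}^* L`. If `Fc j L (∏ j(D_i)) = O(∑ D_i)` for distinct `D_i` in general position, then
the formula holds for all `D` (theorem of the square).
-/

set_option autoImplicit false
universe u
open CategoryTheory CategoryTheory.Limits AlgebraicGeometry MonoidalCategory CartesianMonoidalCategory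
open scoped MonObj

namespace K532.ThetaClass

open Groth.Agent Groth.Agent.Grpsch.PicGrp Groth.Agent.Fga.RigGrp Groth.Agent.Sga7.H732.Hedge
open Groth.Agent.Sga7.H732 K532.UnitBase K532.CurvePic K532.CurvePts K532.Dict Groth.Agent.Fga.JacSum
open Groth.Agent.Fga.JacFactor K532.Setup K532.KPts K532.Wr K532.MultPts K532.Theta1 Groth.Agent.Grpsch.Cube
open K532.NonHyp

section ideals

variable {k : Type u} [Field k] [IsAlgClosed k] {X : Scheme.{u}} [X.Over (Spec (CommRingCat.of k))]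
  (hX : IsCurve k X)

theorem ideal_prod {Y : Scheme.{u}} {α : Type*} (s : Finset α) (I : α → Y.IdealSheafData) :
    (∏ i ∈ s, I i).ideal = ∏ i ∈ s, (I i).ideal := by
  classical
  induction s using Finset.induction_on with
  | empty =>
    rw [Finset.prod_empty, Finset.prod_empty, Scheme.IdealSheafData.one_eq_top]
    funext U
    exact Ideal.one_eq_top.symm
  | insert i s hi ih => rw [Finset.prod_insert hi, Finset.prod_insert hi, Scheme.IdealSheafData.ideal_mul, ih]

include hX in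
/-- The product of the ideals of distinct points is their intersection. -/
theorem prod_ker_eq_iInf {d : ℕ} (x : Fin d → KPt k X) (hx : Function.Injective x) :
    ∏ i, (x i).1.ker = ⨅ i, (x i).1.ker := by
  ext1
  funext U
  rw [ideal_prod, Scheme.IdealSheafData.ideal_iInf, Finset.prod_apply, iInf_apply]
  refine (Ideal.prod_eq_iInf_of_pairwise_isCoprime (s := Finset.univ) ?_).trans (by simp)
  intro i _ j _ hij
  rw [Function.onFun, Ideal.isCoprime_iff_sup_eq]
  have h1 : (x i).1.ker ⊔ (x j).1.ker = ⊤ := by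
    rw [← Scheme.IdealSheafData.support_eq_bot_iff, Scheme.IdealSheafData.support_sup]
    apply TopologicalSpace.Closeds.ext
    change ((x i).1.ker.support : Set X) ∩ ((x j).1.ker.support : Set X) = ∅
    rw [support_ker hX, support_ker hX]
    have : pnt (x i) ≠ pnt (x j) := fun h => hij (hx (KPt.ext' hX h))
    simpa using this.symm
  have h2 := congrArg (fun I : X.IdealSheafData => I.ideal U) h1
  exact h2

end ideals

section points

variable {k : Type u} [Field k] [IsAlgClosed k] {X : Scheme.{u}} [X.Over (Spec (CommRingCat.of k))]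
  (hX : IsCurve k X)

/-- Points in general position with respect to two classes, outside a finite set. -/
theorem exists_general2 {n : ℕ} : ∀ (S : Finset (KPt k X)) (c₁ c₂ : Pic X) (m₁ m₂ : ℕ)
    (_ : h k X 0 c₁ = m₁ + n) (_ : h k X 0 c₂ = m₂ + n),
    ∃ p : Fin n → KPt k X, Function.Injective p ∧ (∀ i, p i ∉ S) ∧
      h k X 0 (c₁ * ∏ i, pcl hX (p i)) = m₁ ∧ h k X 0 (c₂ * ∏ i, pcl hX (p i)) = m₂ := by
  classical
  have := hX.integral
  induction n with
  | zero =>
    intro S c₁ c₂ m₁ m₂ h1 h2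
    exact ⟨fun i => i.elim0, fun i => i.elim0, fun i => i.elim0, by simpa using h1, by simpa using h2⟩
  | succ n ih =>
    intro S c₁ c₂ m₁ m₂ h1 h2
    obtain ⟨U₁, hU₁, hd₁⟩ := exists_open_drop hX (c := c₁) (by omega)
    obtain ⟨U₂, hU₂, hd₂⟩ := exists_open_drop hX (c := c₂) (by omega)
    let Z : Set X := pnt '' (S : Set (KPt k X))
    have hZ : IsClosed Z := by
      have : Z = ⋃ x ∈ S, {pnt x} := by
        ext p; simp [Z, eq_comm]
      rw [this]
      exact S.finite_toSet.isClosed_biUnion fun x _ => isClosed_pnt hX x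
    let V : X.Opens := ⟨Zᶜ, hZ.isOpen_compl⟩
    have hV : (V : Set X).Nonempty := by
      obtain ⟨x, hx⟩ := exists_notMem hX S
      refine ⟨pnt x, ?_⟩
      rintro ⟨y, hy, hyx⟩
      rw [KPt.ext' hX hyx] at hy
      exact hx hy
    have h12 : ((U₁ ⊓ U₂ : X.Opens) : Set X).Nonempty := by
      have := nonempty_preirreducible_inter U₁.isOpen U₂.isOpen hU₁ hU₂
      exact this
    have h123 : ((U₁ ⊓ U₂ ⊓ V : X.Opens) : Set X).Nonempty :=
      nonempty_preirreducible_inter (U₁ ⊓ U₂).isOpen V.isOpen h12 hV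
    obtain ⟨x, hx⟩ := exists_kpt hX _ h123
    have e1 := hd₁ x hx.1.1
    have e2 := hd₂ x hx.1.2
    have e3 : x ∉ S := fun hxS => hx.2 ⟨x, hxS, rfl⟩
    obtain ⟨p, hp, hpS, hp1, hp2⟩ := ih (insert x S) (c₁ * pcl hX x) (c₂ * pcl hX x) m₁ m₂ (by omega) (by omega)
    have hpx : ∀ i, p i ≠ x := fun i hi => hpS i (by rw [hi]; exact Finset.mem_insert_self x S)
    refine ⟨Fin.cons x p, ?_, ?_, ?_, ?_⟩
    · rw [Fin.cons_injective_iff]
      exact ⟨by rintro ⟨i, hi⟩; exact hpx i hi, hp⟩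
    · intro i
      refine Fin.cases e3 (fun i => ?_) i
      rw [Fin.cons_succ]
      exact fun hi => hpS i (Finset.mem_insert_of_mem hi)
    · rw [Fin.prod_univ_succ]
      simp only [Fin.cons_zero, Fin.cons_succ]
      rwa [← mul_assoc]
    · rw [Fin.prod_univ_succ]
      simp only [Fin.cons_zero, Fin.cons_succ]
      rwa [← mul_assoc]

omit [IsAlgClosed k] in
/-- `ω` has no base points. -/
theorem h0_om_mul_pcl {n : ℕ} (hn : gen k X = n + 1) (x : KPt k X) : h k X 0 (om hX * pcl hX x) = n := by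
  have h1 := rr' hX (pcl hX x)⁻¹
  rw [inv_inv, deg_inv hX, deg_pcl] at h1
  have h2 : h k X 0 (pcl hX x)⁻¹ = 1 := by
    have h3 := h0_inv_pcl_pos hX x
    have h4 := h0_le_deg hX h3
    rw [deg_inv hX, deg_pcl] at h4
    by_contra hne
    have h5 : (h k X 0 (pcl hX x)⁻¹ : ℤ) = deg k X (pcl hX x)⁻¹ + 1 := by
      rw [deg_inv hX, deg_pcl]; omega
    have h6 := gen_eq_zero_of_h0_eq hX h3 h5 (by rw [deg_inv hX, deg_pcl]; norm_num)
    omega
  omega

/-- `g - 1` points in general position with respect to two given points. -/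
theorem exists_good2 {n : ℕ} (hn : gen k X = n + 1) (x y : KPt k X) : ∃ p : Fin n → KPt k X,
    Function.Injective (Fin.cons x p : Fin (n + 1) → KPt k X) ∧
    h k X 0 (∏ i, (pcl hX ((Fin.cons x p : Fin (n + 1) → KPt k X) i))⁻¹) = 1 ∧
    Function.Injective (Fin.cons y p : Fin (n + 1) → KPt k X) ∧
    h k X 0 (∏ i, (pcl hX ((Fin.cons y p : Fin (n + 1) → KPt k X) i))⁻¹) = 1 := by
  classical
  obtain ⟨p, hp, hS, h1, h2⟩ := exists_general2 hX (n := n) {x, y} (om hX * pcl hX x) (om hX * pcl hX y) 0 0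
    (by rw [h0_om_mul_pcl hX hn, zero_add]) (by rw [h0_om_mul_pcl hX hn, zero_add])
  have key : ∀ z : KPt k X, h k X 0 (om hX * pcl hX z * ∏ i, pcl hX (p i)) = 0 →
      h k X 0 (∏ i, (pcl hX ((Fin.cons z p : Fin (n + 1) → KPt k X) i))⁻¹) = 1 := by
    intro z hz
    have h3 := rr' hX (∏ i, (pcl hX ((Fin.cons z p : Fin (n + 1) → KPt k X) i))⁻¹)
    rw [deg_prod_pcl] at h3
    have h4 : om hX * (∏ i, (pcl hX ((Fin.cons z p : Fin (n + 1) → KPt k X) i))⁻¹)⁻¹ =
        om hX * pcl hX z * ∏ i, pcl hX (p i) := by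
      rw [Finset.prod_inv_distrib, inv_inv, Fin.prod_univ_succ]
      simp only [Fin.cons_zero, Fin.cons_succ]
      rw [mul_assoc]
    rw [h4, hz, hn] at h3
    push_cast at h3
    omega
  refine ⟨p, ?_, key x h1, ?_, key y h2⟩
  · rw [Fin.cons_injective_iff]
    exact ⟨by rintro ⟨i, hi⟩; exact hS i (by rw [hi]; simp), hp⟩
  · rw [Fin.cons_injective_iff]
    exact ⟨by rintro ⟨i, hi⟩; exact hS i (by rw [hi]; simp), hp⟩

end points

section main

variable {k : Type u} [Field k] {C : Scheme.{u}} {f : C ⟶ Spec (CommRingCat.of k)}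
  {J : Over (Spec (CommRingCat.of k))} [GrpObj J] (j : Over.mk f ⟶ J)

/-- The pullback along `j` of the translate of `L` by `b`. -/
noncomputable def Fc (L : Pic J.left) (b : 𝟙_ (Over (Spec (CommRingCat.of k))) ⟶ J) : Pic C :=
  pl (A := J) (j ≫ Jac.transl J b⁻¹) L

theorem Fc_mul [IsCommMonObj J] [IsProper J.hom] [GeometricallyIntegral J.hom] (L : Pic J.left)
    (a b : 𝟙_ (Over (Spec (CommRingCat.of k))) ⟶ J) : Fc j L (a * b) * Fc j L 1 = Fc j L a * Fc j L b := by
  have h1 : ∀ c : 𝟙_ (Over (Spec (CommRingCat.of k))) ⟶ J, pl (A := J) (toUnit (Over.mk f) ≫ c) L = 1 := by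
    intro c
    rw [pl_comp]
    have : pl c L = 1 := pic_spec_local k _
    rw [this, map_one]
  have h := cube L (toUnit (Over.mk f) ≫ b⁻¹) (toUnit (Over.mk f) ≫ a⁻¹) j
  rw [← MonObj.comp_mul, h1, h1, h1, mul_one, mul_one, one_mul] at h
  unfold Fc
  rw [comp_transl, comp_transl, comp_transl, comp_transl, mul_inv_rev, inv_one, MonObj.comp_one, mul_one]
  rw [mul_comm j, mul_comm j, mul_comm j]
  rw [h]
  exact mul_comm _ _

end main

section curve

variable {k : Type u} [Field k] [IsAlgClosed k] {C : Scheme.{u}} [C.Over (Spec (CommRingCat.of k))] (hX : IsCurve k C)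
  {σ : Spec (CommRingCat.of k) ⟶ C} {hσ : σ ≫ (C ↘ Spec (CommRingCat.of k)) = 𝟙 (Spec (CommRingCat.of k))}
  {J : Over (Spec (CommRingCat.of k))} [GrpObj J] {ξ : Pic (PicF.XT (C ↘ Spec (CommRingCat.of k)) J)}
  (h : IsJac (C ↘ Spec (CommRingCat.of k)) σ hσ J ξ) [IsProper (C ↘ Spec (CommRingCat.of k))] [IsProper J.hom]
  [GeometricallyIntegral J.hom] [IsCommMonObj J]
  [SmoothOfRelativeDimension 1 (C ↘ Spec (CommRingCat.of k))]
  {j : Over.mk (C ↘ Spec (CommRingCat.of k)) ⟶ J} (hj : IsAbel h j)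

include hj in
/-- From general to arbitrary divisors of degree `g`. -/
theorem class_eq (L : Pic J.left) {n : ℕ} (hn : gen k C = n + 1)
    (K1 : ∀ D : Fin (n + 1) → KPt k C, Function.Injective D → CurvePic.h k C 0 (∏ i, (pcl hX (D i))⁻¹) = 1 →
      Fc j L (List.ofFn fun i => pm _ (D i).1 (D i).2 ≫ j).prod = ∏ i, (pcl hX (D i))⁻¹)
    (D : Fin (n + 1) → KPt k C) :
    Fc j L (List.ofFn fun i => pm _ (D i).1 (D i).2 ≫ j).prod = ∏ i, (pcl hX (D i))⁻¹ := by
  -- the homomorphism `G`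
  let G : (𝟙_ (Over (Spec (CommRingCat.of k))) ⟶ J) →* Pic C :=
    { toFun := fun a => Fc j L a * (Fc j L 1)⁻¹ * (kcl h a)⁻¹
      map_one' := by rw [map_one, inv_one, mul_one, mul_inv_cancel]
      map_mul' := fun a b => by
        have h1 : Fc j L (a * b) = Fc j L a * Fc j L b * (Fc j L 1)⁻¹ :=
          eq_mul_inv_of_mul_eq (Fc_mul j L a b)
        rw [h1, map_mul]
        cgroup }
  have hG : ∀ a, Fc j L a = G a * kcl h a * Fc j L 1 := fun a => by
    change _ = Fc j L a * (Fc j L 1)⁻¹ * (kcl h a)⁻¹ * kcl h a * Fc j L 1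
    rw [inv_mul_cancel_right, inv_mul_cancel_right]
  set q := pcl hX (sg hσ) with hq
  have hGD : ∀ D : Fin (n + 1) → KPt k C, Fc j L (List.ofFn fun i => pm _ (D i).1 (D i).2 ≫ j).prod =
      (∏ i, G (pm _ (D i).1 (D i).2 ≫ j)) * (∏ i, (pcl hX (D i))⁻¹) * (q ^ (n + 1) * Fc j L 1) := by
    intro D
    rw [hG, kcl_prod hX h hj, map_list_prod, List.map_ofFn, List.prod_ofFn, ← hq]
    simp only [Function.comp_apply]
    simp only [mul_assoc]
  have hgood : ∀ D : Fin (n + 1) → KPt k C, Function.Injective D →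
      CurvePic.h k C 0 (∏ i, (pcl hX (D i))⁻¹) = 1 →
      (∏ i, G (pm _ (D i).1 (D i).2 ≫ j)) * (q ^ (n + 1) * Fc j L 1) = 1 := by
    intro D hD h0
    have h1 := K1 D hD h0
    rw [hGD D] at h1
    have h2 : (∏ i, (pcl hX (D i))⁻¹) * ((∏ i, G (pm _ (D i).1 (D i).2 ≫ j)) * (q ^ (n + 1) * Fc j L 1)) =
        ∏ i, (pcl hX (D i))⁻¹ := by
      refine Eq.trans ?_ h1
      rw [← mul_assoc, mul_comm (∏ i, (pcl hX (D i))⁻¹)]
    exact mul_eq_left.1 h2
  have hconst : ∀ x y : KPt k C, G (pm _ x.1 x.2 ≫ j) = G (pm _ y.1 y.2 ≫ j) := by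
    intro x y
    obtain ⟨p, h1, h2, h3, h4⟩ := exists_good2 hX hn x y
    have h5 := hgood _ h1 h2
    have h6 := hgood _ h3 h4
    rw [← h6] at h5
    have h7 := mul_right_cancel h5
    rw [Fin.prod_univ_succ, Fin.prod_univ_succ] at h7
    simp only [Fin.cons_zero, Fin.cons_succ] at h7
    exact mul_right_cancel h7
  have hbase : pm _ σ hσ ≫ j = 1 := by
    apply kcl_injective h
    have := kcl_pm hX h hj (sg hσ)
    rw [inv_mul_cancel] at this
    rw [map_one]
    exact this
  have hG1 : ∀ x : KPt k C, G (pm _ x.1 x.2 ≫ j) = 1 := by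
    intro x
    rw [hconst x (sg hσ)]
    have : pm (C ↘ Spec (CommRingCat.of k)) (sg hσ).1 (sg hσ).2 ≫ j = 1 := hbase
    rw [this, map_one]
  have hone : q ^ (n + 1) * Fc j L 1 = 1 := by
    obtain ⟨p, h1, h2, -, -⟩ := exists_good2 hX hn (sg hσ) (sg hσ)
    have h5 := hgood _ h1 h2
    simp only [hG1, Finset.prod_const_one, one_mul] at h5
    exact h5
  rw [hGD D, hone, mul_one]
  simp only [hG1, Finset.prod_const_one, one_mul]

end curve

end K532.ThetaClass
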