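import Groth.Agent.JacVar.K532.NonHyp

/-!
# Uniqueness in the theorem of Torelli for non-hyperelliptic curves
-/

set_option autoImplicit false
universe u
open CategoryTheory CategoryTheory.Limits AlgebraicGeometry MonoidalCategory CartesianMonoidalCategory
open scoped MonObj

namespace K532.TorUniq

open Groth.Agent Groth.Agent.Grpsch.PicGrp Groth.Agent.Fga.RigGrp Groth.Agent.Sga7.H732.Hedge
open Groth.Agent.Sga7.H732 K532.UnitBase K532.CurvePic K532.CurvePts K532.Dict Groth.Agent.Fga.JacSum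
open Groth.Agent.Fga.JacFactor K532.NonHyp K532.Setup

theorem unique (hJK : JK.{u}) (k : Type u) [Field k] [IsAlgClosed k]
    (C : Scheme.{u}) [C.Over (Spec (CommRingCat.of k))]
    [IsProper (C ↘ Spec (CommRingCat.of k))] [Smooth (C ↘ Spec (CommRingCat.of k))] [GeometricallyConnected (C ↘ Spec (CommRingCat.of k))]
    (hdim : topologicalKrullDim ↥C = 1)
    (C' : Scheme.{u}) [C'.Over (Spec (CommRingCat.of k))]
    [IsProper (C' ↘ Spec (CommRingCat.of k))] [Smooth (C' ↘ Spec (CommRingCat.of k))] [GeometricallyConnected (C' ↘ Spec (CommRingCat.of k))]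
    (hdim' : topologicalKrullDim ↥C' = 1)
    (hg : 1 ≤ Curv2.genus k C)
    (σ' : Spec (CommRingCat.of k) ⟶ C') (hσ' : σ' ≫ (C' ↘ Spec (CommRingCat.of k)) = 𝟙 _)
    (J : Over (Spec (CommRingCat.of k))) [GrpObj J] [IsCommMonObj J]
    (J' : Over (Spec (CommRingCat.of k))) [GrpObj J'] [IsCommMonObj J']
    (ψ' : (ModFun.PicDeg (C' ↘ Spec (CommRingCat.of k)) 0).Hom ⊤ J') (hJ' : Jac.IsJacobian (C' ↘ Spec (CommRingCat.of k)) ⊤ J' ψ')
    (j : Over.mk (C ↘ Spec (CommRingCat.of k)) ⟶ J)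
    (j' : Over.mk (C' ↘ Spec (CommRingCat.of k)) ⟶ J') (hj' : Jac.IsAbelJacobiAt (C' ↘ Spec (CommRingCat.of k)) σ' ψ' j')
    (β : J ≅ J')
    (hnh : ¬ ∃ L : C.Modules, PicF.IsInvertible L ∧ Curv2.deg k C L 1 = 2 ∧ Module.finrank k (Coh.HH C L 0) = 2)
    (α₁ α₂ : C ≅ C') (hα₁ : α₁.hom ≫ (C' ↘ Spec (CommRingCat.of k)) = (C ↘ Spec (CommRingCat.of k))) (hα₂ : α₂.hom ≫ (C' ↘ Spec (CommRingCat.of k)) = (C ↘ Spec (CommRingCat.of k)))
    (c₁ c₂ : 𝟙_ (Over (Spec (CommRingCat.of k))) ⟶ J') (s₁ s₂ : ℤ) (hs₁ : s₁ = 1 ∨ s₁ = -1) (hs₂ : s₂ = 1 ∨ s₂ = -1)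
    (h₁ : Over.homMk α₁.hom hα₁ ≫ j' = (j ≫ β.hom) ^ s₁ * (toUnit (Over.mk (C ↘ Spec (CommRingCat.of k))) ≫ c₁))
    (h₂ : Over.homMk α₂.hom hα₂ ≫ j' = (j ≫ β.hom) ^ s₂ * (toUnit (Over.mk (C ↘ Spec (CommRingCat.of k))) ≫ c₂)) :
    α₁ = α₂ ∧ s₁ = s₂ ∧ c₁ = c₂ := by
  classical
  have hX : IsCurve k C := isCurve_of_isAlgClosed k C (Base.isSmoothProperCurve _ hdim)
  have hX' : IsCurve k C' := isCurve_of_isAlgClosed k C' (Base.isSmoothProperCurve _ hdim')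
  have hs' : SmoothOfRelativeDimension 1 (C' ↘ Spec (CommRingCat.of k)) := Base.smoothOfRelDim _ hdim'
  obtain ⟨ξ, h, hψ, -, -⟩ := exists_isJac hJK hdim' σ' hσ' hJ'
  have hjA := isAbel h hψ hj'
  -- the points
  let P (x : KPt k C) (α : C ≅ C') (hα : α.hom ≫ (C' ↘ Spec (CommRingCat.of k)) = (C ↘ Spec (CommRingCat.of k))) :
    KPt k C' := ⟨x.1 ≫ α.hom, by rw [Category.assoc, hα, x.2]⟩
  let b (x : KPt k C) : 𝟙_ (Over (Spec (CommRingCat.of k))) ⟶ J' := pm _ x.1 x.2 ≫ j ≫ β.hom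
  have key : ∀ (α : C ≅ C') (hα : α.hom ≫ (C' ↘ Spec (CommRingCat.of k)) = (C ↘ Spec (CommRingCat.of k))) (s : ℤ)
      (c : 𝟙_ (Over (Spec (CommRingCat.of k))) ⟶ J')
      (_ : (Over.homMk α.hom hα : Over.mk (C ↘ Spec (CommRingCat.of k)) ⟶ Over.mk (C' ↘ Spec (CommRingCat.of k))) ≫ j' =
        (j ≫ β.hom) ^ s * (toUnit (Over.mk (C ↘ Spec (CommRingCat.of k))) ≫ c))
      (x : KPt k C), pm _ (P x α hα).1 (P x α hα).2 ≫ j' = b x ^ s * c := by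
    intro α hα s c hh x
    have h1 : pm _ (P x α hα).1 (P x α hα).2 = pm _ x.1 x.2 ≫
        (Over.homMk α.hom hα : Over.mk (C ↘ Spec (CommRingCat.of k)) ⟶ Over.mk (C' ↘ Spec (CommRingCat.of k))) := by
      apply Over.OverMorphism.ext
      rfl
    have h2 : pm _ x.1 x.2 ≫ toUnit (Over.mk (C ↘ Spec (CommRingCat.of k))) = 𝟙 _ := toUnit_unique _ _
    rw [h1, Category.assoc, hh, MonObj.comp_mul, GrpObj.comp_zpow, ← Category.assoc _ _ c, h2, Category.id_comp]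
  have k1 := key α₁ hα₁ s₁ c₁ h₁
  have k2 := key α₂ hα₂ s₂ c₂ h₂
  have hk : ∀ y : KPt k C', kcl h (pm _ y.1 y.2 ≫ j') = (pcl hX' y)⁻¹ * dcl σ'.ker (isEff_ker _ σ' hσ') := fun y =>
    kcl_comp h hjA y.1 y.2
  let τ (x : KPt k C) : KPt k C := ⟨x.1 ≫ α₂.hom ≫ α₁.inv, by
    have e1 : α₁.inv ≫ (C ↘ Spec (CommRingCat.of k)) = C' ↘ Spec (CommRingCat.of k) := by
      rw [Iso.inv_comp_eq, hα₁]
    rw [Category.assoc, Category.assoc, e1, hα₂, x.2]⟩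
  have p1 : ∀ x, pull α₁.hom (pcl hX' (P x α₁ hα₁)) = pcl hX x := fun x => pull_pcl hX hX' α₁.hom _ _ rfl
  have p2 : ∀ x, pull α₁.hom (pcl hX' (P x α₂ hα₂)) = pcl hX (τ x) := fun x =>
    pull_pcl hX hX' α₁.hom _ _ (by simp [τ, P])
  have hss : s₂ = s₁ ∨ s₂ = -s₁ := by
    rcases hs₁ with rfl | rfl <;> rcases hs₂ with rfl | rfl <;> simp
  rcases hss with rfl | rfl
  · have rel : ∀ x y : KPt k C, (pcl hX x)⁻¹ * (pcl hX (τ y))⁻¹ = (pcl hX (τ x))⁻¹ * (pcl hX y)⁻¹ := by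
      intro x y
      have e1 : (pm _ (P x α₁ hα₁).1 (P x α₁ hα₁).2 ≫ j') * (pm _ (P y α₂ hα₂).1 (P y α₂ hα₂).2 ≫ j') =
          (pm _ (P x α₂ hα₂).1 (P x α₂ hα₂).2 ≫ j') * (pm _ (P y α₁ hα₁).1 (P y α₁ hα₁).2 ≫ j') := by
        rw [k1, k2, k1, k2, mul_mul_mul_comm, mul_comm c₁, mul_mul_mul_comm]
      have e2 := congrArg (kcl h) e1
      rw [map_mul, map_mul, hk, hk, hk, hk] at e2
      have e3 : (pcl hX' (P x α₁ hα₁))⁻¹ * (pcl hX' (P y α₂ hα₂))⁻¹ =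
          (pcl hX' (P x α₂ hα₂))⁻¹ * (pcl hX' (P y α₁ hα₁))⁻¹ := by
        rw [mul_mul_mul_comm, mul_mul_mul_comm _ _ (pcl hX' (P y α₁ hα₁))⁻¹] at e2
        exact mul_right_cancel e2
      have e4 := congrArg (pull α₁.hom) e3
      rw [map_mul, map_mul, map_inv, map_inv, map_inv, map_inv, p1, p1, p2, p2] at e4
      exact e4
    have hτ : ∀ x, τ x = x := by
      intro x
      obtain ⟨y, hy⟩ := exists_notMem hX {x}
      rw [Finset.mem_singleton] at hy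
      rcases eq_or_eq hX hg hnh x (τ y) (τ x) y (rel x y) with ⟨h3, -⟩ | ⟨h3, -⟩
      · exact h3.symm
      · exact absurd h3.symm hy
    have hα : α₁ = α₂ := by
      apply Iso.ext
      refine hom_ext_kpt hX hα₁ hα₂ fun x => ?_
      have h3 : x.1 ≫ α₂.hom ≫ α₁.inv = x.1 := congrArg Subtype.val (hτ x)
      have h4 := congrArg (fun z => z ≫ α₁.hom) h3
      simp only [Category.assoc, Iso.inv_hom_id, Category.comp_id] at h4
      exact h4.symm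
    refine ⟨hα, rfl, ?_⟩
    subst hα
    obtain ⟨x, -⟩ := exists_notMem hX ∅
    exact mul_left_cancel ((k1 x).symm.trans (k2 x))
  · exfalso
    have rel : ∀ x y : KPt k C, (pcl hX x)⁻¹ * (pcl hX (τ x))⁻¹ = (pcl hX y)⁻¹ * (pcl hX (τ y))⁻¹ := by
      intro x y
      have e0 : ∀ x, (pm _ (P x α₁ hα₁).1 (P x α₁ hα₁).2 ≫ j') * (pm _ (P x α₂ hα₂).1 (P x α₂ hα₂).2 ≫ j') =
          c₁ * c₂ := by
        intro x
        rw [k1, k2, mul_mul_mul_comm, ← zpow_add, add_neg_cancel, zpow_zero, one_mul]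
      have e2 := congrArg (kcl h) ((e0 x).trans (e0 y).symm)
      rw [map_mul, map_mul, hk, hk, hk, hk] at e2
      have e3 : (pcl hX' (P x α₁ hα₁))⁻¹ * (pcl hX' (P x α₂ hα₂))⁻¹ =
          (pcl hX' (P y α₁ hα₁))⁻¹ * (pcl hX' (P y α₂ hα₂))⁻¹ := by
        rw [mul_mul_mul_comm, mul_mul_mul_comm _ _ (pcl hX' (P y α₂ hα₂))⁻¹] at e2
        exact mul_right_cancel e2
      have e4 := congrArg (pull α₁.hom) e3
      rw [map_mul, map_mul, map_inv, map_inv, map_inv, map_inv, p1, p1, p2, p2] at e4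
      exact e4
    obtain ⟨x, -⟩ := exists_notMem hX ∅
    obtain ⟨y, hy⟩ := exists_notMem hX {x, τ x}
    rw [Finset.mem_insert, Finset.mem_singleton, not_or] at hy
    rcases eq_or_eq hX hg hnh x (τ x) y (τ y) (rel x y) with ⟨h3, -⟩ | ⟨-, h3⟩
    · exact hy.1 h3.symm
    · exact hy.2 h3.symm

end K532.TorUniq
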