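import Groth.Agent.JacVar.K532.ThetaAmple
import Groth.Agent.Jac.K914.Fine

/-!
# Theta line bundles on Picard schemes of degree `g - 1` and universal families

`k` algebraically closed.
* `thetaLocus_deg`: the theta locus of `J_{g-1}` is the preimage of `W^{g-1}` under the identification with the Jacobian.
* `mk_theta_deg`: the class of its line bundle.
* `comp_fm`: the morphism `(x, M) ↦ M(-x)` in terms of the Jacobian.
* `isUnivFamily_of_class`.
* `main`: the pullback of `Θ` along `X × J_g ⟶ J_{g-1}` is a universal family.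
-/

set_option autoImplicit false
universe u
open CategoryTheory CategoryTheory.Limits AlgebraicGeometry MonoidalCategory CartesianMonoidalCategory
open TopologicalSpace
open scoped MonObj

namespace K532.UnivTheta

open Groth.Agent Groth.Agent.Grpsch.PicGrp Groth.Agent.Fga.RigGrp Groth.Agent.Sga7.H732.Hedge
open Groth.Agent.Sga7.H732 K532.UnitBase K532.CurvePic K532.CurvePts K532.Dict Groth.Agent.Fga.JacSum
open Groth.Agent.Fga.JacFactor K532.Setup K532.KPts K532.Wr K532.MultPts K532.Theta1 Groth.Agent.Grpsch.Cube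
open K532.NonHyp K532.ThetaClass Groth.Agent.Divis.EffCartier K532.ThetaIdeal K532.Lam K532.ThetaAmple
open K914.Cls K914.Fine Groth.Agent.Picfga.ChiDef

section univ

variable {k : Type u} [Field k] {X : Scheme.{u}} {f : X ⟶ Spec (CommRingCat.of k)}
  [IsProper f] [Smooth f] [GeometricallyConnected f] [SmoothOfRelativeDimension 1 f]
  {σ : Spec (CommRingCat.of k) ⟶ X} {hσ : σ ≫ f = 𝟙 (Spec (CommRingCat.of k))}

omit [IsProper f] [Smooth f] [GeometricallyConnected f] [SmoothOfRelativeDimension 1 f] in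
include σ hσ in
theorem isDeg_mul_proj {d : ℤ} {T : Over (Spec (CommRingCat.of k))} {c : Pic (PicF.XT f T)} (m : Pic T.left)
    (hc : IsDeg f d c) : IsDeg f d (c * pull (PicF.XTproj f T) m) := by
  intro τ
  have h1 := K532.Fine.chiAt_norm (f := f) σ hσ T τ (c * pull (PicF.XTproj f T) m)
  have h2 := K532.Fine.chiAt_norm (f := f) σ hσ T τ c
  rw [map_mul, norm_pull_XTproj, mul_one, h2] at h1
  exact h1.symm.trans (hc τ)

variable {J₀ : Over (Spec (CommRingCat.of k))} [GrpObj J₀] {ξ₀ : Pic (PicF.XT f J₀)} (h₀ : IsJac f σ hσ J₀ ξ₀)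
  {d : ℤ} {J : Over (Spec (CommRingCat.of k))} {ψ : (ModFun.PicDeg f d).Hom ⊤ J}
  (hJ : ModFun.IsCoarseModuli ⊤ (ModFun.PicDeg f d) J ψ)

include h₀ hJ in
/-- A module whose class is the universal one up to a twist is a universal family. -/
theorem isUnivFamily_of_class {ξ : Pic (PicF.XT f J)} (hξ : IsDeg f d ξ) (hξ1 : psiCl ψ ξ hξ = 𝟙 J)
    (P : (PicF.XT f J).Modules) (hP : PicF.IsInvertible P) (m₀ : Pic J.left)
    (hPc : mk P hP = ξ * pull (PicF.XTproj f J) m₀) :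
    ModFun.IsUnivFamily ⊤ (ModFun.PicDeg f d) J P := by
  have hdP : IsDeg f d (mk P hP) := by
    rw [hPc]
    exact isDeg_mul_proj (σ := σ) (hσ := hσ) m₀ hξ
  have hP1 : psiCl ψ (mk P hP) hdP = 𝟙 J := by
    rw [← hξ1]
    exact (psiCl_mul_proj ψ ξ (mk P hP) m₀ hξ hdP hPc).symm
  obtain ⟨ζ, hζ, hζ1, hη2⟩ := exists_univ h₀ hJ
  -- the class of `P` is the universal one up to a twist
  obtain ⟨m₁, hm₁⟩ := hη2 J (mk P hP) hdP
  rw [hP1, XTmap_id, pull_id] at hm₁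
  refine ⟨(ok_iff hP).2 hdP, fun T x _ hx => ?_⟩
  have hxd := isDeg_of_ok hx
  refine ⟨psiCl ψ (mk x (isInvertible_of_ok hx)) hxd, ?_, ?_⟩
  · obtain ⟨m, hm⟩ := hη2 T _ hxd
    set g := psiCl ψ (mk x (isInvertible_of_ok hx)) hxd with hg
    have h1 : mk x (isInvertible_of_ok hx) =
        pull (PicF.XTmap f g) (mk P hP) * pull (PicF.XTproj f T) ((pull g.left m₁)⁻¹ * m) := by
      have h2 : pull (PicF.XTmap f g) (pull (PicF.XTproj f J) m₁) = pull (PicF.XTproj f T) (pull g.left m₁) := by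
        rw [← pull_comp, XTmap_XTproj, pull_comp]
      rw [hm₁, map_mul, h2, map_mul, map_inv, mul_assoc, mul_inv_cancel_left]
      exact hm
    obtain ⟨M, hM, hMc⟩ := exists_mk ((pull g.left m₁)⁻¹ * m)
    refine ⟨M, hM, ?_⟩
    rw [hMc, pull_mk, pull_mk, mk_mul_mk] at h1
    exact (mk_eq_iff _ _).1 h1
  · rintro g' ⟨M, hM, ⟨e⟩⟩
    have hPg : PicF.IsInvertible ((Scheme.Modules.pullback (PicF.XTmap f g')).obj P) :=
      Fdesc.LocGen.isInvertible_pullback _ hP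
    have h1 : mk x (isInvertible_of_ok hx) = pull (PicF.XTmap f g') (mk P hP) * pull (PicF.XTproj f T) (mk M hM) := by
      rw [pull_mk, pull_mk, mk_mul_mk]
      exact (mk_eq_iff _ _).2 ⟨e⟩
    have h2 := psiCl_mul_proj ψ (pull (PicF.XTmap f g') (mk P hP)) _ _ (hdP.pull g') hxd h1
    rw [← h2, ← comp_psiCl ψ g' (mk P hP) hdP, hP1, Category.comp_id]

omit hJ in
include h₀ in
/-- The universal class through the identification with the Jacobian. -/
theorem psiCl_xi (e : J ≅ J₀) (he : ∀ (T : Over (Spec (CommRingCat.of k))) (c : Pic (PicF.XT f T)) (hc : IsDeg f d c),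
    psiCl ψ c hc ≫ e.hom = classify h₀ d c hc) :
    psiCl ψ (pull (PicF.XTmap f e.hom) (ξ₀ * tw f hσ d J₀)) ((isDeg_xi h₀ d).pull e.hom) = 𝟙 J := by
  have h1 := he J (pull (PicF.XTmap f e.hom) (ξ₀ * tw f hσ d J₀)) ((isDeg_xi h₀ d).pull e.hom)
  have h2 : classify h₀ d (pull (PicF.XTmap f e.hom) (ξ₀ * tw f hσ d J₀)) ((isDeg_xi h₀ d).pull e.hom) = e.hom := by
    rw [← psiCl_psiD, ← comp_psiCl (psiD h₀ d) e.hom _ (isDeg_xi h₀ d), psiCl_psiD, classify_xi, Category.comp_id]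
  rw [← cancel_mono e.hom, h1, h2, Category.id_comp]

end univ

section fm

variable {k : Type u} [Field k] {X : Scheme.{u}} {f : X ⟶ Spec (CommRingCat.of k)}
  [IsProper f] [Smooth f] [GeometricallyConnected f] [SmoothOfRelativeDimension 1 f]
  {σ : Spec (CommRingCat.of k) ⟶ X} {hσ : σ ≫ f = 𝟙 (Spec (CommRingCat.of k))}
  {J₀ : Over (Spec (CommRingCat.of k))} [GrpObj J₀] {ξ₀ : Pic (PicF.XT f J₀)} (h₀ : IsJac f σ hσ J₀ ξ₀)
  {j : Over.mk f ⟶ J₀} (hj : IsAbel h₀ j)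

omit hj in
theorem classify_congr {d : ℤ} {T : Over (Spec (CommRingCat.of k))} {c c' : Pic (PicF.XT f T)} (e : c = c')
    (hc : IsDeg f d c) : classify h₀ d c hc = classify h₀ d c' (e ▸ hc) := by
  subst e; rfl

include hj in
/-- Subtraction of a point in terms of the Jacobian. -/
theorem classify_gcl {d : ℤ} {T : Over (Spec (CommRingCat.of k))} (c : Pic (PicF.XT f T)) (hc : IsDeg f d c)
    (x : Pt f T) (hc' : IsDeg f (d - 1) (c * gcl f x)) :
    classify h₀ (d - 1) (c * gcl f x) hc' = classify h₀ d c hc * (Abel.ptHom x ≫ j)⁻¹ := by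
  apply Abel.cls_injective h₀ T
  rw [map_mul, map_inv, hj]
  refine (pull_classify h₀ (d - 1) _ hc').trans ?_
  have h1 : Abel.cls h₀ T (classify h₀ d c hc) = norm f σ hσ T (c * tw f hσ (-d) T) := pull_classify h₀ d c hc
  rw [h1]
  change _ = norm f σ hσ T (c * tw f hσ (-d) T) * (norm f σ hσ T ((gcl f x)⁻¹ * gcl f (Pt.ofSection hσ T)))⁻¹
  rw [← map_inv, ← map_mul]
  congr 1
  have h2 : tw f hσ (-(d - 1)) T = tw f hσ (-d) T * (gcl f (Pt.ofSection hσ T))⁻¹ := by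
    have : -(d - 1) = -d + 1 := by ring
    rw [tw, tw, this, zpow_add_one]
  rw [h2]
  cgroup

omit hj in
/-- `(x, M) ↦ M(-x)` -/
theorem comp_fm {d : ℤ} {Jg J' : Over (Spec (CommRingCat.of k))} {ψg : (ModFun.PicDeg f d).Hom ⊤ Jg}
    {ψ' : (ModFun.PicDeg f (d - 1)).Hom ⊤ J'} (hj : IsAbel h₀ j)
    (eg : Jg ≅ J₀) (heg : ∀ (T : Over (Spec (CommRingCat.of k))) (c : Pic (PicF.XT f T)) (hc : IsDeg f d c),
      psiCl ψg c hc ≫ eg.hom = classify h₀ d c hc)
    (e' : J' ≅ J₀) (he' : ∀ (T : Over (Spec (CommRingCat.of k))) (c : Pic (PicF.XT f T)) (hc : IsDeg f (d - 1) c),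
      psiCl ψ' c hc ≫ e'.hom = classify h₀ (d - 1) c hc)
    (fm : Over.mk f ⊗ Jg ⟶ J')
    (hfm : Jac.IsBinOpMap
      (ModFun.Problem.Hom.ofNatTrans (𝟙 ((AlgSp.pyon (Spec (CommRingCat.of k))).obj (Over.mk f)))) ψg ψ'
      (fun (T : Over (Spec (CommRingCat.of k))) (x : ULift.{u + 1} (T ⟶ Over.mk f))
        (M N : (PicF.XT f T).Modules) =>
        Nonempty (N ≅ CohB1.tensorMod M (ClSub.idealMod
          (pullback.lift x.down.left (𝟙 T.left) ((Over.w x.down).trans (Category.id_comp T.hom).symm) :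
            T.left ⟶ PicF.XT f T).ker)))
      fm) :
    fm ≫ e'.hom = (snd (Over.mk f) Jg ≫ eg.hom) * (fst (Over.mk f) Jg ≫ j)⁻¹ := by
  let T : Over (Spec (CommRingCat.of k)) := Over.mk f ⊗ Jg
  let ξ := pull (PicF.XTmap f eg.hom) (ξ₀ * tw f hσ d J₀)
  have hξ : IsDeg f d ξ := (isDeg_xi h₀ d).pull eg.hom
  have hξ1 : psiCl ψg ξ hξ = 𝟙 Jg := psiCl_xi h₀ eg heg
  obtain ⟨M, hM, hMc⟩ := exists_mk (pull (PicF.XTmap f (snd (Over.mk f) Jg)) ξ)
  have hMd : IsDeg f d (mk M hM) := hMc ▸ hξ.pull (snd (Over.mk f) Jg)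
  have hMok : (ModFun.PicDeg f d).ok T M := (ok_iff hM).2 hMd
  let x : Pt f T := ⟨(fst (Over.mk f) Jg).left, Over.w (fst (Over.mk f) Jg)⟩
  obtain ⟨(z : (PicF.XT f T).Modules), hzok, hz⟩ := hfm.1 T ⟨fst (Over.mk f) Jg⟩ M trivial trivial hMok
  have h1 := hfm.2 T (⟨fst (Over.mk f) Jg⟩, M) z trivial ⟨trivial, hMok⟩ hzok hz
  have hzi : PicF.IsInvertible z := isInvertible_of_ok hzok
  have hzc : mk z hzi = mk M hM * gcl f x := by
    refine Eq.trans ((mk_eq_iff hzi _).2 hz) (mk_mul_mk hM (Dix.IdealModCartier.isInvertible_idealMod (isEff_secGraph f x))).symm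
  have h2 : ψ'.app T z trivial hzok = fm := by
    rw [h1]
    have h3 : (Jac.prodHom (ModFun.Problem.Hom.ofNatTrans (𝟙 ((AlgSp.pyon (Spec (CommRingCat.of k))).obj (Over.mk f))))
        ψg).app T (⟨fst (Over.mk f) Jg⟩, M) trivial ⟨trivial, hMok⟩ =
        lift (fst (Over.mk f) Jg) (ψg.app T M trivial hMok) := rfl
    have h4 : ψg.app T M trivial hMok = snd (Over.mk f) Jg := by
      rw [app_eq ψg trivial hMok _ (hξ.pull (snd (Over.mk f) Jg)) hMc.symm,
        ← comp_psiCl ψg (snd (Over.mk f) Jg) ξ hξ, hξ1, Category.comp_id]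
    rw [h3, h4]
    exact (congrArg (fun q => q ≫ fm) (lift_fst_snd (X := Over.mk f) (Y := Jg))).trans (Category.id_comp fm)
  have hzd := isDeg_of_ok hzok
  have h5 : fm ≫ e'.hom = classify h₀ (d - 1) (mk z hzi) hzd := by
    rw [← he', ← app_eq' ψ' trivial hzok, h2]
  have h6 : classify h₀ (d - 1) (mk z hzi) hzd =
      classify h₀ (d - 1) (mk M hM * gcl f x) (hzc ▸ hzd) := classify_congr h₀ hzc hzd
  rw [h5, h6, classify_gcl h₀ hj (mk M hM) hMd x]
  have h7 : classify h₀ d (mk M hM) hMd = snd (Over.mk f) Jg ≫ eg.hom := by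
    rw [← heg, psiCl_congr ψg hMc.symm hMd, ← comp_psiCl ψg (snd (Over.mk f) Jg) ξ hξ, hξ1, Category.comp_id]
  rw [h7]
  rfl

end fm

section locus

variable {k : Type u} [Field k] [IsAlgClosed k] {C : Scheme.{u}} [C.Over (Spec (CommRingCat.of k))] (hX : IsCurve k C)
  {σ : Spec (CommRingCat.of k) ⟶ C} {hσ : σ ≫ (C ↘ Spec (CommRingCat.of k)) = 𝟙 (Spec (CommRingCat.of k))}
  {J₀ : Over (Spec (CommRingCat.of k))} [GrpObj J₀] {ξ₀ : Pic (PicF.XT (C ↘ Spec (CommRingCat.of k)) J₀)}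
  (h₀ : IsJac (C ↘ Spec (CommRingCat.of k)) σ hσ J₀ ξ₀) [IsProper (C ↘ Spec (CommRingCat.of k))] [IsProper J₀.hom]
  [GeometricallyIntegral J₀.hom] [IsCommMonObj J₀]
  [SmoothOfRelativeDimension 1 (C ↘ Spec (CommRingCat.of k))] [Smooth (C ↘ Spec (CommRingCat.of k))]
  [GeometricallyConnected (C ↘ Spec (CommRingCat.of k))]
  {j : Over.mk (C ↘ Spec (CommRingCat.of k)) ⟶ J₀} (hj : IsAbel h₀ j)

omit [IsAlgClosed k] [IsProper J₀.hom] [GeometricallyIntegral J₀.hom] [IsCommMonObj J₀] in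
theorem compat_psiD (hdim : topologicalKrullDim C = 1) :
    Compat (C ↘ Spec (CommRingCat.of k)) hdim σ hσ J₀ (psiD h₀ 0) ξ₀ := by
  intro T L hT hL
  refine (pull_classify h₀ 0 (mk L (isInvertible_of_ok hL)) (isDeg_of_ok hL)).trans ?_
  rw [neg_zero, tw, zpow_zero, mul_one]
  rfl

omit [IsAlgClosed k] [IsProper J₀.hom] [GeometricallyIntegral J₀.hom] [IsCommMonObj J₀]
  [Smooth (C ↘ Spec (CommRingCat.of k))] [GeometricallyConnected (C ↘ Spec (CommRingCat.of k))] in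
include hX in
theorem tw_field (d : ℤ) {K : Type u} [Field K] (t : Spec (CommRingCat.of K) ⟶ Spec (CommRingCat.of k)) :
    tw (C ↘ Spec (CommRingCat.of k)) hσ d (Over.mk t) =
      pull (pullback.fst (C ↘ Spec (CommRingCat.of k)) t) (pcl hX (sg hσ))⁻¹ ^ d := by
  rw [tw, K533.AbelAt.gcl_ofSection _ hσ (K533.AbelAt.isInvertible_ker _ hσ) (Over.mk t), map_inv]
  rfl

omit [IsAlgClosed k] [IsProper J₀.hom] [GeometricallyIntegral J₀.hom] [IsCommMonObj J₀] in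
/-- The jump loci in degrees `d` and `0`. -/
theorem jump_iff {n : ℕ} {δ : ℤ} (hδ : δ = n) {J' : Over (Spec (CommRingCat.of k))}
    {ψ' : (ModFun.PicDeg (C ↘ Spec (CommRingCat.of k)) δ).Hom ⊤ J'}
    (e' : J' ≅ J₀) (he' : ∀ (T : Over (Spec (CommRingCat.of k))) (c : Pic (PicF.XT (C ↘ Spec (CommRingCat.of k)) T))
      (hc : IsDeg (C ↘ Spec (CommRingCat.of k)) δ c), psiCl ψ' c hc ≫ e'.hom = classify h₀ δ c hc)
    (N : C.Modules) (hN : PicF.IsInvertible N) (hNc : mk N hN = (pcl hX (sg hσ))⁻¹ ^ n) (m : J'.left) :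
    m ∈ Jac.jumpLocus (C ↘ Spec (CommRingCat.of k)) δ ψ' (Coh.structureModule C) ↔
      e'.hom.left m ∈ Jac.jumpLocus (C ↘ Spec (CommRingCat.of k)) 0 (psiD h₀ 0) N := by
  subst hδ
  let f := C ↘ Spec (CommRingCat.of k)
  have hO : PicF.IsInvertible (Coh.structureModule C) := Fdesc.LocGen.isInvertible_structureModule
  -- the correspondence of classes over a field
  have key : ∀ (Ω : Type u) [Field Ω] (t : Spec (CommRingCat.of Ω) ⟶ Spec (CommRingCat.of k))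
      (L : (PicF.XT f (Over.mk t)).Modules) (hL : (ModFun.PicDeg f n).ok (Over.mk t) L)
      (L' : (PicF.XT f (Over.mk t)).Modules) (hL' : (ModFun.PicDeg f 0).ok (Over.mk t) L')
      (_ : mk L' (isInvertible_of_ok hL') = mk L (isInvertible_of_ok hL) * tw f hσ (-n) (Over.mk t)),
      ψ'.app (Over.mk t) L trivial hL ≫ e'.hom = (psiD h₀ 0).app (Over.mk t) L' trivial hL' ∧
      Nonempty (CohB1.tensorMod L' ((Scheme.Modules.pullback (pullback.fst f t)).obj N) ≅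
        CohB1.tensorMod L ((Scheme.Modules.pullback (pullback.fst f t)).obj (Coh.structureModule C))) := by
    intro Ω _ t L hL L' hL' hc
    constructor
    · rw [app_eq' ψ' trivial hL, he']
      change classify h₀ n (mk L (isInvertible_of_ok hL)) (isDeg_of_ok hL) =
        classify h₀ 0 (mk L' (isInvertible_of_ok hL')) (isDeg_of_ok hL')
      apply Abel.cls_injective h₀ (Over.mk t)
      refine (pull_classify h₀ n _ (isDeg_of_ok hL)).trans ((pull_classify h₀ 0 _ (isDeg_of_ok hL')).trans ?_).symm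
      rw [hc]
      have : tw f hσ (-0) (Over.mk t) = 1 := by rw [neg_zero, tw, zpow_zero]
      rw [this, mul_one]
    · have i1 : PicF.IsInvertible ((Scheme.Modules.pullback (pullback.fst f t)).obj N) :=
        Fdesc.LocGen.isInvertible_pullback _ hN
      have i2 : PicF.IsInvertible ((Scheme.Modules.pullback (pullback.fst f t)).obj (Coh.structureModule C)) :=
        Fdesc.LocGen.isInvertible_pullback _ hO
      refine (mk_eq_iff (Fdesc.LocGen.isInvertible_tensorMod (isInvertible_of_ok hL') i1)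
        (Fdesc.LocGen.isInvertible_tensorMod (isInvertible_of_ok hL) i2)).1 ?_
      refine (mk_mul_mk (isInvertible_of_ok hL') i1).symm.trans (Eq.trans ?_ (mk_mul_mk (isInvertible_of_ok hL) i2))
      have e1 : mk _ i1 = pull (pullback.fst f t) (mk N hN) := (pull_mk _ hN).symm
      have e2 : mk _ i2 = 1 := by
        refine ((pull_mk _ hO).symm).trans ?_
        have : mk (Coh.structureModule C) hO = 1 := rfl
        rw [this, map_one]
      rw [e1, e2, hc, hNc, map_pow, mul_one, tw_field hX, mul_assoc, ← zpow_natCast, ← zpow_add, neg_add_cancel,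
        zpow_zero, mul_one]
  constructor
  · rintro ⟨Ω, _, _, t, hP, L, hL, hns, p, rfl⟩
    obtain ⟨L', hL'i, hL'c⟩ := exists_mk (mk L (isInvertible_of_ok hL) * tw f hσ (-n) (Over.mk t))
    have hdeg : IsDeg f 0 (mk L' hL'i) :=
      ((isDeg_of_ok hL).mul (isDeg_tw f hσ (-n) (Over.mk t))).congr (by ring) hL'c
    have hL' : (ModFun.PicDeg f 0).ok (Over.mk t) L' := (ok_iff hL'i).2 hdeg
    obtain ⟨h1, ⟨h2⟩⟩ := key Ω t L hL L' hL' hL'c.symm
    refine ⟨Ω, inferInstance, inferInstance, t, trivial, L', hL', ?_, p, ?_⟩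
    · intro hs
      apply hns
      let _ := overK f t
      exact (CurvesA.HHMap.equivOver Ω (X := PicF.XT f (Over.mk t)) h2 0).symm.toEquiv.subsingleton
    · have h3 := congrArg (fun q : Over.mk t ⟶ J₀ => q.left p) h1
      exact h3.symm.trans (Scheme.Hom.comp_apply (ψ'.app (Over.mk t) L trivial hL).left e'.hom.left p)
  · rintro ⟨Ω, _, _, t, hP, L', hL', hns, p, hp⟩
    obtain ⟨L, hLi, hLc⟩ := exists_mk (mk L' (isInvertible_of_ok hL') * tw f hσ n (Over.mk t))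
    have hdeg : IsDeg f n (mk L hLi) :=
      ((isDeg_of_ok hL').mul (isDeg_tw f hσ n (Over.mk t))).congr (by ring) hLc
    have hL : (ModFun.PicDeg f n).ok (Over.mk t) L := (ok_iff hLi).2 hdeg
    have hc : mk L' (isInvertible_of_ok hL') = mk L (isInvertible_of_ok hL) * tw f hσ (-n) (Over.mk t) := by
      have : mk L (isInvertible_of_ok hL) = mk L hLi := rfl
      rw [this, ← hLc, mul_assoc, tw, tw, ← zpow_add, add_neg_cancel, zpow_zero, mul_one]
    obtain ⟨h1, ⟨h2⟩⟩ := key Ω t L hL L' hL' hc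
    refine ⟨Ω, inferInstance, inferInstance, t, trivial, L, hL, ?_, p, ?_⟩
    · intro hs
      apply hns
      let _ := overK f t
      exact (CurvesA.HHMap.equivOver Ω (X := PicF.XT f (Over.mk t)) h2 0).toEquiv.subsingleton
    · have h3 := congrArg (fun q : Over.mk t ⟶ J₀ => q.left p) h1
      have h4 : e'.hom.left ((ψ'.app (Over.mk t) L trivial hL).left p) = e'.hom.left m :=
        ((Scheme.Hom.comp_apply (ψ'.app (Over.mk t) L trivial hL).left e'.hom.left p).symm.trans h3).trans hp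
      have h5 : Function.Injective e'.hom.left := by
        intro a b hab
        have h6 : ∀ x, e'.inv.left (e'.hom.left x) = x := fun x => by
          rw [← Scheme.Hom.comp_apply, ← Over.comp_left, e'.hom_inv_id]; rfl
        rw [← h6 a, hab, h6]
      exact h5 h4

omit [GeometricallyIntegral J₀.hom] in
include hX hj in
/-- The theta locus in degree `g - 1`. -/
theorem thetaLocus_deg {n : ℕ} (hn : gen k C = n + 1) (hdim : topologicalKrullDim C = 1)
    {δ : ℤ} (hδ : δ = n) {J' : Over (Spec (CommRingCat.of k))}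
    {ψ' : (ModFun.PicDeg (C ↘ Spec (CommRingCat.of k)) δ).Hom ⊤ J'}
    (e' : J' ≅ J₀) (he' : ∀ (T : Over (Spec (CommRingCat.of k))) (c : Pic (PicF.XT (C ↘ Spec (CommRingCat.of k)) T))
      (hc : IsDeg (C ↘ Spec (CommRingCat.of k)) δ c), psiCl ψ' c hc ≫ e'.hom = classify h₀ δ c hc) :
    Jac.thetaLocus (C ↘ Spec (CommRingCat.of k)) δ ψ' (Coh.structureModule C) = e'.hom.left.base ⁻¹' W j n := by
  obtain ⟨N, hN, hNc⟩ := exists_mk ((pcl hX (sg hσ))⁻¹ ^ n)
  have hdeg : deg k C (mk N hN) = (gen k C : ℤ) - 1 := by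
    rw [← hNc, deg_pow hX, deg_inv hX, deg_pcl, hn]
    push_cast
    ring
  have hν : kcl h₀ (1 : 𝟙_ (Over (Spec (CommRingCat.of k))) ⟶ J₀) =
      (mk N hN)⁻¹ * (pcl hX (sg hσ))⁻¹ ^ (gen k C - 1) := by
    have h1 : gen k C - 1 = n := by omega
    rw [map_one, h1, ← hNc, inv_mul_cancel]
  have h1 := K531.ThetaLoc.thetaLocus_eq hX h₀ (compat_psiD h₀ hdim) hj hN hdeg hν
  have h2 : gen k C - 1 = n := by omega
  rw [h2, transl_one] at h1
  have h3 : (𝟙 J₀ : J₀ ⟶ J₀).left.base '' W j n = W j n := by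
    ext x
    constructor
    · rintro ⟨y, hy, rfl⟩
      exact hy
    · intro hx
      exact ⟨x, hx, rfl⟩
  rw [h3] at h1
  have h4 : Jac.jumpLocus (C ↘ Spec (CommRingCat.of k)) δ ψ' (Coh.structureModule C) =
      e'.hom.left.base ⁻¹' Jac.jumpLocus (C ↘ Spec (CommRingCat.of k)) 0 (psiD h₀ 0) N := by
    ext m
    exact jump_iff hX h₀ hδ e' he' N hN hNc.symm m
  have hiso : IsIso e'.hom.left := inferInstanceAs (IsIso ((Over.forget _).map e'.hom))
  rw [← h1, Jac.thetaLocus, Jac.thetaLocus, h4]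
  exact ((Scheme.homeoOfIso (asIso e'.hom.left)).preimage_closure _).symm

omit [GeometricallyIntegral J₀.hom] in
include hX hj in
/-- The ideal of the theta locus in degree `g - 1`. -/
theorem ideal_theta_deg {n : ℕ} (hn : gen k C = n + 1) (hdim : topologicalKrullDim C = 1)
    {δ : ℤ} (hδ : δ = n) {J' : Over (Spec (CommRingCat.of k))}
    {ψ' : (ModFun.PicDeg (C ↘ Spec (CommRingCat.of k)) δ).Hom ⊤ J'}
    (e' : J' ≅ J₀) (he' : ∀ (T : Over (Spec (CommRingCat.of k))) (c : Pic (PicF.XT (C ↘ Spec (CommRingCat.of k)) T))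
      (hc : IsDeg (C ↘ Spec (CommRingCat.of k)) δ c), psiCl ψ' c hc ≫ e'.hom = classify h₀ δ c hc) :
    Scheme.IdealSheafData.vanishingIdeal
      ⟨Jac.thetaLocus (C ↘ Spec (CommRingCat.of k)) δ ψ' (Coh.structureModule C), isClosed_closure⟩ =
      (IT j n 1).comap (e'.hom ≫ (𝟙 J₀)⁻¹).left := by
  have hinv : (𝟙 J₀ : J₀ ⟶ J₀)⁻¹ ≫ (𝟙 J₀)⁻¹ = 𝟙 J₀ := by
    rw [GrpObj.comp_inv, Category.comp_id, inv_inv]
  have h1 : (e'.hom ≫ (𝟙 J₀)⁻¹).left ≫ ((𝟙 J₀)⁻¹ ≫ e'.inv).left = 𝟙 J'.left := by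
    rw [← Over.comp_left]
    have : (e'.hom ≫ (𝟙 J₀)⁻¹) ≫ (𝟙 J₀)⁻¹ ≫ e'.inv = 𝟙 J' := by
      rw [Category.assoc, ← Category.assoc (𝟙 J₀)⁻¹, hinv, Category.id_comp, e'.hom_inv_id]
    rw [this]; rfl
  have h2 : ((𝟙 J₀)⁻¹ ≫ e'.inv).left ≫ (e'.hom ≫ (𝟙 J₀)⁻¹).left = 𝟙 J₀.left := by
    rw [← Over.comp_left]
    have : ((𝟙 J₀)⁻¹ ≫ e'.inv) ≫ e'.hom ≫ (𝟙 J₀)⁻¹ = 𝟙 J₀ := by
      rw [Category.assoc, ← Category.assoc e'.inv, e'.inv_hom_id, Category.id_comp, hinv]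
    rw [this]; rfl
  rw [IT_one, comap_vanishingIdeal_iso _ _ h1 h2]
  congr 1
  apply TopologicalSpace.Closeds.ext
  refine (thetaLocus_deg hX h₀ hj hn hdim hδ e' he').trans ?_
  change _ = (e'.hom ≫ (𝟙 J₀)⁻¹).left.base ⁻¹' closure _
  rw [(isClosed_inv (isClosed_W j n)).closure_eq]
  have e : ∀ (x : J'.left), (e'.hom ≫ (𝟙 J₀)⁻¹).left x = ((𝟙 J₀)⁻¹ : J₀ ⟶ J₀).left (e'.hom.left x) := fun x => by
    rw [Over.comp_left, Scheme.Hom.comp_apply]
  have e2 : ∀ (x : J₀.left), ((𝟙 J₀)⁻¹ : J₀ ⟶ J₀).left (((𝟙 J₀)⁻¹ : J₀ ⟶ J₀).left x) = x := fun x => by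
    rw [← Scheme.Hom.comp_apply, ← Over.comp_left, hinv]; rfl
  ext x
  constructor
  · intro hx
    exact ⟨e'.hom.left x, hx, (e x).symm⟩
  · rintro ⟨y, hy, hyx⟩
    change ((𝟙 J₀)⁻¹ : J₀ ⟶ J₀).left y = (e'.hom ≫ (𝟙 J₀)⁻¹).left x at hyx
    rw [e] at hyx
    have h3 := congrArg (fun z => ((𝟙 J₀)⁻¹ : J₀ ⟶ J₀).left z) hyx
    simp only [e2] at h3
    change e'.hom.left x ∈ W j n
    rwa [← h3]

omit [IsAlgClosed k] [IsProper J₀.hom] [GeometricallyIntegral J₀.hom] [IsCommMonObj J₀] [GrpObj J₀] in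
theorem mk_theta_aux {J' : Over (Spec (CommRingCat.of k))} (q : J' ⟶ J₀) [IsIso q.left] {I : J₀.left.IdealSheafData}
    (hE : BlowUp.IsEffCartierIdeal I) {I' : J'.left.IdealSheafData} (hI0 : I' = I.comap q.left)
    {Θ' : J'.left.Modules} (hΘ' : PicF.IsInvertible Θ') (hLI : ClSub.IsInverseOf Θ' (ClSub.idealMod I')) :
    mk Θ' hΘ' = pl q (dcl I hE)⁻¹ := by
  obtain ⟨e⟩ := id hLI
  have hI := Fga.IntAdd.isInvertible_of_tensor e
  have hE1 := Dix.IdealModCartier.isEffCartierIdeal_of_isInvertible hI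
  have h2 : mk Θ' hΘ' = (dcl _ hE1)⁻¹ := Models.H65.PicDeg.mk_of_isInverseOf hΘ' hI hLI
  have h3 : BlowUp.IsEffCartierIdeal (I.comap q.left) := isEff_comap_flat hE _
  rw [h2, map_inv, pull_dcl q.left hE h3, dcl_congr hI0]

omit [GeometricallyIntegral J₀.hom] in
include hX hj in
/-- The class of the theta line bundle in degree `g - 1`. -/
theorem mk_theta_deg {n : ℕ} (hn : gen k C = n + 1) (hE : BlowUp.IsEffCartierIdeal (IT j n 1))
    (hdim : topologicalKrullDim C = 1)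
    {δ : ℤ} (hδ : δ = n) {J' : Over (Spec (CommRingCat.of k))}
    {ψ' : (ModFun.PicDeg (C ↘ Spec (CommRingCat.of k)) δ).Hom ⊤ J'}
    (e' : J' ≅ J₀) (he' : ∀ (T : Over (Spec (CommRingCat.of k))) (c : Pic (PicF.XT (C ↘ Spec (CommRingCat.of k)) T))
      (hc : IsDeg (C ↘ Spec (CommRingCat.of k)) δ c), psiCl ψ' c hc ≫ e'.hom = classify h₀ δ c hc)
    {Θ' : J'.left.Modules}
    (hΘ' : Jac.IsThetaLB (C ↘ Spec (CommRingCat.of k)) δ ψ' (Coh.structureModule C) Θ') :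
    mk Θ' hΘ'.1 = pl (e'.hom ≫ (𝟙 J₀)⁻¹) (dcl (IT j n 1) hE)⁻¹ := by
  have hI0 := ideal_theta_deg hX h₀ hj hn hdim hδ e' he'
  have hiso : IsIso (e'.hom ≫ (𝟙 J₀)⁻¹).left := by
    have h1 : IsIso e'.hom.left := inferInstanceAs (IsIso ((Over.forget _).map e'.hom))
    have h2 : IsIso ((𝟙 J₀ : J₀ ⟶ J₀)⁻¹).left := by
      have h3 : ((𝟙 J₀ : J₀ ⟶ J₀)⁻¹).left ≫ ((𝟙 J₀ : J₀ ⟶ J₀)⁻¹).left = 𝟙 J₀.left := by
        rw [← Over.comp_left, GrpObj.comp_inv, Category.comp_id, inv_inv]; rfl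
      exact ⟨_, h3, h3⟩
    rw [Over.comp_left]
    infer_instance
  exact mk_theta_aux _ hE hI0 hΘ'.1 hΘ'.2

omit [IsAlgClosed k] [IsProper J₀.hom] [GeometricallyIntegral J₀.hom] [IsCommMonObj J₀] in
theorem pl_mul_eq {T : Over (Spec (CommRingCat.of k))} (L : Pic J₀.left) (a b : T ⟶ J₀) :
    pl (a * b) L = mp L a b * pl a L * pl b L := by
  rw [mp]
  cgroup

omit [Smooth (C ↘ Spec (CommRingCat.of k))] [GeometricallyConnected (C ↘ Spec (CommRingCat.of k))] in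
include hX hj in
/-- The class of the pulled back theta line bundle. -/
theorem pull_fm {n : ℕ} (hn : gen k C = n + 1) (hX' : Curve.IsSmoothProperCurve k C (C ↘ Spec (CommRingCat.of k)))
    (hbase : (Over.homMk σ hσ : 𝟙_ (Over (Spec (CommRingCat.of k))) ⟶ Over.mk (C ↘ Spec (CommRingCat.of k))) ≫ j = 1)
    (hE : BlowUp.IsEffCartierIdeal (IT j n 1)) {Jg : Over (Spec (CommRingCat.of k))} (eg : Jg ≅ J₀) :
    pl (((snd (Over.mk (C ↘ Spec (CommRingCat.of k))) Jg ≫ eg.hom) *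
        (fst (Over.mk (C ↘ Spec (CommRingCat.of k))) Jg ≫ j)⁻¹) ≫ (𝟙 J₀)⁻¹) (dcl (IT j n 1) hE)⁻¹ =
      (pull (PicF.XTmap (C ↘ Spec (CommRingCat.of k)) eg.hom)
        (ξ₀ * tw (C ↘ Spec (CommRingCat.of k)) hσ ((n + 1 : ℕ) : ℤ) J₀) *
      pull (PicF.XTproj (C ↘ Spec (CommRingCat.of k)) Jg) (pl (eg.hom ≫ (𝟙 J₀)⁻¹) (dcl (IT j n 1) hE)⁻¹) :
        Pic (PicF.XT (C ↘ Spec (CommRingCat.of k)) Jg)) := by
  set L : Pic J₀.left := (dcl (IT j n 1) hE)⁻¹ with hL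
  let f := C ↘ Spec (CommRingCat.of k)
  have h1 : ((snd (Over.mk f) Jg ≫ eg.hom) * (fst (Over.mk f) Jg ≫ j)⁻¹) ≫ (𝟙 J₀)⁻¹ =
      (fst (Over.mk f) Jg ≫ j) * (snd (Over.mk f) Jg ≫ eg.hom ≫ (𝟙 J₀)⁻¹) := by
    rw [GrpObj.comp_inv, Category.comp_id, mul_inv_rev, inv_inv, GrpObj.comp_inv, Category.comp_id, GrpObj.comp_inv]
  have h2 : mp (T := Over.mk f ⊗ Jg) L (fst (Over.mk f) Jg ≫ j) (snd (Over.mk f) Jg ≫ eg.hom ≫ (𝟙 J₀)⁻¹) =
      pull (PicF.XTmap f eg.hom) ξ₀ := by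
    rw [← main hX h₀ hj hn hX' hbase hE]
    have h3 : ((Over.mk f) ◁ eg.hom).left = PicF.XTmap f eg.hom := by
      apply pullback.hom_ext
      · have e1 : ((Over.mk f) ◁ eg.hom).left ≫ pullback.fst f J₀.hom = pullback.fst f Jg.hom :=
          congrArg (fun q => q.left) (whiskerLeft_fst (Over.mk f) eg.hom)
        exact e1.trans (Fga.RigGrp.XTmap_fst f eg.hom).symm
      · have e1 : ((Over.mk f) ◁ eg.hom).left ≫ pullback.snd f J₀.hom = pullback.snd f Jg.hom ≫ eg.hom.left :=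
          congrArg (fun q => q.left) (whiskerLeft_snd (Over.mk f) eg.hom)
        exact e1.trans (Fga.RigGrp.XTmap_XTproj f eg.hom).symm
    rw [← h3]
    refine Eq.symm ((pl_mp ((Over.mk f) ◁ eg.hom) L _ _).trans ?_)
    rw [whiskerLeft_fst_assoc, whiskerLeft_snd_assoc]
  have h4 : pl (T := Over.mk f ⊗ Jg) (fst (Over.mk f) Jg ≫ j) L = (tw f hσ ((n + 1 : ℕ) : ℤ) Jg : Pic (PicF.XT f Jg)) := by
    have h5 := Fc_theta_one hX h₀ hj hn hbase hE
    rw [Fc, inv_one, transl_one, Category.comp_id, ← hL] at h5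
    rw [pl_comp, h5, tw, K533.AbelAt.gcl_ofSection _ hσ (K533.AbelAt.isInvertible_ker _ hσ) Jg]
    change pull (pullback.fst f Jg.hom) _ = _
    rw [zpow_natCast, ← map_inv, ← map_pow, ← inv_pow]
    rfl
  rw [h1, pl_mul_eq, h2, h4, map_mul, pull_tw, pl_comp (snd (Over.mk f) Jg) (eg.hom ≫ (𝟙 J₀)⁻¹)]
  rfl

end locus

end K532.UnivTheta
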